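import Cfsg.Agent.S0813
import Cfsg.Agent.Linear.Order
import Cfsg.Agent.Linear.Simple
import Cfsg.Agent.H27.PermFamily

/-!
The automorphism groups of `PSL(3, 4)` and of `PGL(3, 4)`.
-/

set_option autoImplicit false
set_option linter.unusedSectionVars false
set_option linter.style.haveILetI false

namespace Cfsg.Agent.H55.Quat.AutGroup

open Subgroup
open scoped MatrixGroups

universe u

/-- A normal subgroup of `MulAut T` between the inner automorphisms and their centraliser-free
overgroups, with commutators inner, has the same automorphism group as `T`. -/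
theorem mulAut_equiv {T : Type u} [Group T] (hc : ∀ t : T, (∀ x, t * x = x * t) → t = 1)
    (hperf : commutator T = ⊤) (R : Subgroup (MulAut T)) [R.Normal]
    (hI : ∀ t, MulAut.conj t ∈ R) (hR : ∀ a ∈ R, ∀ b ∈ R, ∃ t, a * b * a⁻¹ * b⁻¹ = MulAut.conj t) :
    Nonempty (MulAut T ≃* MulAut R) := by
  classical
  have hinj : Function.Injective (MulAut.conj : T →* MulAut T) := by
    refine (injective_iff_map_eq_one _).mpr fun t ht => hc t fun x => ?_
    have := MulEquiv.congr_fun ht x
    rw [MulAut.conj_apply, MulAut.one_apply] at this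
    exact mul_inv_eq_iff_eq_mul.mp this
  -- conjugating an inner automorphism
  have hcc : ∀ (a : MulAut T) (t : T), a * MulAut.conj t * a⁻¹ = MulAut.conj (a t) := fun a t =>
    MulEquiv.ext fun x => by simp [MulAut.conj_apply]
  let ι : T →* R := (MulAut.conj : T →* MulAut T).codRestrict R hI
  have hιinj : Function.Injective ι := fun a b e => hinj (congrArg Subtype.val e)
  -- the commutator subgroup of `R` consists of inner automorphisms
  have hcomm : commutator R = ι.range := by
    refine le_antisymm ?_ ?_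
    · rw [commutator_def, commutator_le]
      intro a _ b _
      obtain ⟨t, ht⟩ := hR a a.2 b b.2
      exact ⟨t, Subtype.ext (by rw [commutatorElement_def]; exact ht.symm)⟩
    · rw [MonoidHom.range_eq_map, ← hperf, commutator_def, map_commutator]
      exact commutator_mono le_top le_top
  let Φ : MulAut T →* MulAut R := MulAut.conjNormal
  have hΦ : Function.Injective Φ := by
    refine (injective_iff_map_eq_one _).mpr fun a ha => MulEquiv.ext fun t => hinj ?_
    have := congrArg Subtype.val (MulEquiv.congr_fun ha (ι t))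
    rw [MulAut.conjNormal_apply] at this
    exact (hcc a t).symm.trans this
  refine ⟨MulEquiv.ofBijective Φ ⟨hΦ, fun θ => ?_⟩⟩
  -- the restriction of `θ` to the inner automorphisms
  have hθ : ∀ t, θ (ι t) ∈ ι.range := by
    intro t
    rw [← hcomm]
    have h1 : ι t ∈ commutator R := hcomm ▸ ⟨t, rfl⟩
    have h2 : (commutator R).map θ.toMonoidHom ≤ commutator R := by
      rw [commutator_def, map_commutator]
      exact commutator_mono le_top le_top
    exact h2 ⟨_, h1, rfl⟩
  have hθ' : ∀ t, θ.symm (ι t) ∈ ι.range := by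
    intro t
    rw [← hcomm]
    have h1 : ι t ∈ commutator R := hcomm ▸ ⟨t, rfl⟩
    have h2 : (commutator R).map θ.symm.toMonoidHom ≤ commutator R := by
      rw [commutator_def, map_commutator]
      exact commutator_mono le_top le_top
    exact h2 ⟨_, h1, rfl⟩
  choose f hf using hθ
  choose g hg using hθ'
  let β : MulAut T :=
    { toFun := f
      invFun := g
      left_inv := fun t => hιinj (by rw [hg, hf, MulEquiv.symm_apply_apply])
      right_inv := fun t => hιinj (by rw [hf, hg, MulEquiv.apply_symm_apply])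
      map_mul' := fun s t => hιinj (by rw [map_mul, hf, hf, hf, map_mul, map_mul]) }
  refine ⟨β, MulEquiv.ext fun r => ?_⟩
  -- both agree on the inner automorphisms, whose centraliser is trivial
  have hΦι : ∀ t, Φ β (ι t) = θ (ι t) := fun t => by
    rw [← hf t]
    refine Subtype.ext ?_
    rw [MulAut.conjNormal_apply]
    exact hcc β t
  set q : R := (θ r)⁻¹ * Φ β r with hq
  have hqc : ∀ t, q * θ (ι t) = θ (ι t) * q := by
    intro t
    obtain ⟨s, hs⟩ : ∃ s, r * ι t * r⁻¹ = ι s := ⟨(r : MulAut T) t, Subtype.ext (hcc r t)⟩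
    have h1 : θ r * θ (ι t) * (θ r)⁻¹ = Φ β r * θ (ι t) * (Φ β r)⁻¹ := by
      calc θ r * θ (ι t) * (θ r)⁻¹ = θ (ι s) := by rw [← map_inv, ← map_mul, ← map_mul, hs]
        _ = Φ β (ι s) := (hΦι s).symm
        _ = _ := by rw [← hs, map_mul, map_mul, map_inv, hΦι t]
    calc q * θ (ι t) = (θ r)⁻¹ * (Φ β r * θ (ι t) * (Φ β r)⁻¹) * Φ β r := by rw [hq]; group
      _ = (θ r)⁻¹ * (θ r * θ (ι t) * (θ r)⁻¹) * Φ β r := by rw [h1]
      _ = _ := by rw [hq]; group
  have hq1 : q = 1 := by
    refine Subtype.ext (MulEquiv.ext fun x => hinj ?_)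
    obtain ⟨t, ht⟩ : ∃ t, θ (ι t) = ι x := ⟨g x, by rw [hg, MulEquiv.apply_symm_apply]⟩
    have e := congrArg Subtype.val (hqc t)
    rw [ht] at e
    rw [← hcc]
    exact mul_inv_eq_iff_eq_mul.mpr e
  exact (inv_mul_eq_one.mp hq1).symm

variable {F : Type*} [Field F] [Fintype F]

theorem card_pgl (hF : Fintype.card F = 4) : Nat.card (Matrix.ProjGenLinGroup (Fin 3) F) = 60480 := by
  classical
  have hidx : (center (GL (Fin 3) F)).index = Nat.card (Matrix.ProjGenLinGroup (Fin 3) F) := index_eq_card _
  have h := card_mul_index (center (GL (Fin 3) F))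
  rw [hidx, Linear.card_center_GL, Nat.card_units, Nat.card_eq_fintype_card (α := F), hF,
    Matrix.card_GL_field, hF, Fin.prod_univ_three] at h
  norm_num at h
  omega

theorem card_mulAut (hF : Fintype.card F = 4) :
    Finite (MulAut (Matrix.ProjectiveSpecialLinearGroup (Fin 3) F)) ∧
      Nat.card (MulAut (Matrix.ProjectiveSpecialLinearGroup (Fin 3) F)) = 241920 := by
  classical
  haveI : Fact (Nat.Prime 2) := ⟨Nat.prime_two⟩
  refine ⟨Finite.of_injective (fun φ => (φ : _ → _)) DFunLike.coe_injective, ?_⟩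
  have h := S0813.result (F := F) 2 2 (by norm_num) (by rw [hF]; norm_num) 3 (by norm_num) (by norm_num)
  rw [if_neg (by norm_num : (3 : ℕ) ≠ 2), card_pgl hF] at h
  exact h

theorem mulAut_pgl (hF : Fintype.card F = 4) :
    Nonempty (MulAut (Matrix.ProjectiveSpecialLinearGroup (Fin 3) F) ≃*
      MulAut (GL (Fin 3) F ⧸ center (GL (Fin 3) F))) := by
  classical
  set φ := H56.pglToAut (F := F) (n := 3) (by norm_num) with hφ
  haveI : φ.range.Normal := by
    have hk : ((H56.fieldHom (F := F) (by norm_num : 2 ≤ 3)).prod (H56.graphHom le_rfl)).ker = φ.range := by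
      refine le_antisymm (fun ψ hψ => ?_) ?_
      · have hf1 : H56.fieldHom (F := F) (by norm_num : 2 ≤ 3) ψ = 1 := congrArg Prod.fst hψ
        have hg1 : H56.graphHom le_rfl ψ = 1 := congrArg Prod.snd hψ
        obtain ⟨g, σ, rfl | ⟨-, rfl⟩⟩ := H56.exists_decomp (by norm_num) ψ
        · obtain rfl : σ = RingEquiv.refl F := (H56.fieldHom_semiAut _ g σ).symm.trans hf1
          exact ⟨g, rfl⟩
        · rw [map_mul, H56.graphHom_semiAut, H56.graphHom_invT, one_mul] at hg1
          exact absurd hg1 (by decide)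
      · rintro _ ⟨g, rfl⟩
        exact Prod.ext (H56.fieldHom_semiAut _ g _) (H56.graphHom_semiAut le_rfl g _)
    rw [← hk]; infer_instance
  have hs : IsSimpleGroup (Matrix.ProjectiveSpecialLinearGroup (Fin 3) F) :=
    Linear.isSimpleGroup_PSL_fin (by norm_num) (by norm_num)
  obtain ⟨x, y, hxy⟩ := Linear.exists_not_commute_PSL (ι := Fin 3) (F := F) (Or.inl (by simp))
  obtain ⟨e⟩ := mulAut_equiv (T := Matrix.ProjectiveSpecialLinearGroup (Fin 3) F) (fun t ht => by
      have hC : center (Matrix.ProjectiveSpecialLinearGroup (Fin 3) F) = ⊥ :=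
        (inferInstance : (center _).Normal).eq_bot_or_eq_top.resolve_right fun e => hxy
          (mem_center_iff.mp (e ▸ mem_top y) x)
      exact mem_bot.mp (hC ▸ mem_center_iff.mpr fun a => (ht a).symm))
    (Linear.commutator_PSL_eq_top (Or.inl (by simp))) φ.range
    (fun t => by
      obtain ⟨s, rfl⟩ := QuotientGroup.mk_surjective t
      exact ⟨Matrix.SpecialLinearGroup.toGL s, H56.semiAut_eq_conj s⟩)
    (by
      rintro _ ⟨a, rfl⟩ _ ⟨b, rfl⟩
      have hd : Matrix.GeneralLinearGroup.det (a * b * a⁻¹ * b⁻¹) = 1 := by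
        rw [map_mul, map_mul, map_mul, map_inv, map_inv, mul_comm (Matrix.GeneralLinearGroup.det a),
          mul_inv_cancel_right, mul_inv_cancel]
      let s : Matrix.SpecialLinearGroup (Fin 3) F := ⟨(a * b * a⁻¹ * b⁻¹ : GL (Fin 3) F), by
        have := congrArg Units.val hd
        rwa [Matrix.GeneralLinearGroup.val_det_apply, Units.val_one] at this⟩
      refine ⟨QuotientGroup.mk s, ?_⟩
      rw [← map_mul, ← map_inv, ← map_mul, ← map_inv, ← map_mul,
        show a * b * a⁻¹ * b⁻¹ = Matrix.SpecialLinearGroup.toGL s from Units.ext rfl]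
      exact H56.semiAut_eq_conj s)
  exact ⟨e.trans (MulAut.congr ((QuotientGroup.quotientMulEquivOfEq
    (H56.pglToAut_ker (F := F) (n := 3) (by norm_num)).symm).trans
      (QuotientGroup.quotientKerEquivRange φ)).symm)⟩

end Cfsg.Agent.H55.Quat.AutGroup
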