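import Cfsg.Agent.H55.Quat.NoD
import Cfsg.Agent.H55.Suz.LThree
import Cfsg.Agent.Fusion.PComplement

/-!
`N` has one class of involutions and is `PSL(3, 4)`.
-/

set_option autoImplicit false
set_option linter.unusedSectionVars false
set_option linter.unusedVariables false
set_option linter.style.haveILetI false

namespace Cfsg.Agent.H55.Quat

open Subgroup Equiv

variable {G : Type*} [Group G] [Finite G] {z : G} {E : Subgroup G}

/-- Two involutions which are not conjugate commute with a common involution. -/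
theorem exists_common {X : Type*} [Group X] [Finite X] {x y : X} (hx : x * x = 1) (hy : y * y = 1)
    (hn : ¬ IsConj x y) : ∃ t : X, t * t = 1 ∧ t ≠ 1 ∧ t * x = x * t ∧ t * y = y * t := by
  set r := x * y with hr
  have hxr : x * r * x⁻¹ = r⁻¹ := by
    rw [hr, mul_inv_rev, inv_eq_of_mul_eq_one_left hx, inv_eq_of_mul_eq_one_left hy, ← mul_assoc,
      hx, one_mul]
  rcases Nat.even_or_odd' (orderOf r) with ⟨k, hk | hk⟩
  · have hpow : r ^ k * r ^ k = 1 := by rw [← pow_add, ← two_mul, ← hk, pow_orderOf_eq_one]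
    have hne : r ^ k ≠ 1 := fun e => by
      have h1 := Nat.le_of_dvd (by
        rcases Nat.eq_zero_or_pos k with rfl | hk0
        · exfalso; rw [mul_zero] at hk; exact (orderOf_pos r).ne' hk
        · exact hk0) (orderOf_dvd_of_pow_eq_one e)
      have h2 := orderOf_pos r
      omega
    have htx : x * r ^ k * x⁻¹ = r ^ k := by
      rw [← conj_pow, hxr, inv_pow, inv_eq_of_mul_eq_one_left hpow]
    refine ⟨r ^ k, hpow, hne, (mul_inv_eq_iff_eq_mul.mp htx).symm, ?_⟩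
    have h1 : Commute (r ^ k) x := (mul_inv_eq_iff_eq_mul.mp htx).symm
    have h2 : Commute (r ^ k) r := Commute.pow_self r k
    have h3 : y = x * r := by rw [hr, ← mul_assoc, hx, one_mul]
    rw [h3]; exact (h1.mul_right h2).eq
  · exfalso
    apply hn
    have h1 : x * r ^ k * x⁻¹ = (r ^ k)⁻¹ := by rw [← conj_pow, hxr, inv_pow]
    refine isConj_iff.mpr ⟨r ^ k, ?_⟩
    have h2 : r ^ (2 * k + 1) = 1 := by rw [← hk, pow_orderOf_eq_one]
    calc r ^ k * x * (r ^ k)⁻¹ = r ^ k * x * (x * r ^ k * x⁻¹) := by rw [h1]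
      _ = r ^ k * (x * x) * r ^ k * x⁻¹ := by group
      _ = r ^ (2 * k) * x⁻¹ := by rw [hx, mul_one, ← pow_add, two_mul]
      _ = r⁻¹ * x⁻¹ := by rw [eq_inv_of_mul_eq_one_left (show r ^ (2 * k) * r = 1 by rw [← pow_succ]; exact h2)]
      _ = y := by
        rw [hr, mul_inv_rev, inv_eq_of_mul_eq_one_left hx, inv_eq_of_mul_eq_one_left hy, mul_assoc,
          hx, mul_one]

namespace NData

variable {F : Frame z E} {N : Subgroup G} (hN : NData F N) (h : Setup z E)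

include hN h

/-- An element of `N` normalising the four-group and centralising `w` lies in `U`. -/
theorem swap_fix (d : WData F) {a : G} (ha : a ∈ N) (haw : a * d.w = d.w * a)
    (hav : F.InV (a * z * a⁻¹)) : a ∈ F.U := by
  haveI := hN.normal
  obtain ⟨y, hy⟩ := hN.exists_ydata h
  rcases hav with e | e | e | e
  · exact absurd (conj_eq_one_iff.mp e) h.z_ne_one
  · exact hN.inU h ha (mul_inv_eq_iff_eq_mul.mp e)
  all_goals exfalso
  all_goals
    -- `y` fixes `w` modulo the four-group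
    obtain ⟨v, hv, hyw⟩ : ∃ v, F.InV v ∧ y * d.w * y⁻¹ = v * d.w := by
      first
      | (have hu : y⁻¹ * a ∈ F.U := hN.inU h (mul_mem (inv_mem hy.mem) ha) (by
          refine mul_inv_eq_iff_eq_mul.mp ?_
          rw [show y⁻¹ * a * z * (y⁻¹ * a)⁻¹ = y⁻¹ * (a * z * a⁻¹) * y by group, e, hy.iye])
         set m := y⁻¹ * a * d.w * (y⁻¹ * a)⁻¹ * d.w⁻¹ with hm
         have hmV : F.InV m := F.comm_U h hu d.hw
         refine ⟨y * m * y⁻¹, hy.InV_conj hmV, ?_⟩
         have e1 : y * (m * d.w) * y⁻¹ = d.w := by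
           rw [hm, show y * (y⁻¹ * a * d.w * (y⁻¹ * a)⁻¹ * d.w⁻¹ * d.w) * y⁻¹ = a * d.w * a⁻¹ by group,
             haw, mul_inv_cancel_right]
         calc y * d.w * y⁻¹ = (y * m * y⁻¹)⁻¹ * (y * (m * d.w) * y⁻¹) := by group
           _ = y * m * y⁻¹ * d.w := by rw [e1, Frame.InV.inv h F (hy.InV_conj hmV)])
      | (have hu : y * a ∈ F.U := hN.inU h (mul_mem hy.mem ha) (by
          refine mul_inv_eq_iff_eq_mul.mp ?_
          rw [show y * a * z * (y * a)⁻¹ = y * (a * z * a⁻¹) * y⁻¹ by group, e, hy.yez])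
         refine ⟨y * a * d.w * (y * a)⁻¹ * d.w⁻¹, F.comm_U h hu d.hw, ?_⟩
         rw [show y * a * d.w * (y * a)⁻¹ * d.w⁻¹ * d.w = y * (a * d.w * a⁻¹) * y⁻¹ by group, haw,
           mul_inv_cancel_right])
    set v' := y⁻¹ * v * y with hv'
    have hv'V : F.InV v' := by
      rw [hv']
      rcases hv with e' | e' | e' | e' <;> rw [e']
      · exact Or.inl (by group)
      · exact Or.inr (Or.inr (Or.inr hy.iyz))
      · exact Or.inr (Or.inl hy.iye)
      · refine Or.inr (Or.inr (Or.inl ?_))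
        calc y⁻¹ * (F.e * z) * y = y⁻¹ * (y * F.e * y⁻¹) * y := by rw [hy.ye]
          _ = _ := by group
    have hyw' : y⁻¹ * d.w * y = v' * d.w := by
      have hvv := ((F.inV_iff h).mp hv).2
      calc y⁻¹ * d.w * y = y⁻¹ * ((v * v) * d.w) * y := by rw [hvv, one_mul]
        _ = y⁻¹ * (v * (y * d.w * y⁻¹)) * y := by rw [hyw]; group
        _ = _ := by rw [hv']; group
    -- the conjugate of `y` inverts it modulo `U`
    have hff := (F.hf 3).2.1
    have hfi := F.f_inv h 3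
    set g := F.f 3 * y * F.f 3 with hg
    have hgN : g ∈ N := by
      have := hN.normal.conj_mem y hy.mem (F.f 3)
      rwa [hfi] at this
    have hu' : g * y ∈ F.U := by
      refine hN.inU h (mul_mem hgN hy.mem) (mul_inv_eq_iff_eq_mul.mp ?_)
      have hfe : F.f 3 * F.e * F.f 3 = F.e * z := by
        have := F.f_conj_e h 3
        rwa [hfi] at this
      rw [show g * y * z * (g * y)⁻¹ = g * (y * z * y⁻¹) * g⁻¹ by group, hy.yz, hg,
        show F.f 3 * y * F.f 3 * F.e * (F.f 3 * y * F.f 3)⁻¹ =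
          F.f 3 * (y * (F.f 3 * F.e * (F.f 3)⁻¹) * y⁻¹) * (F.f 3)⁻¹ by group, hfi, hfe, hy.yez,
        F.f_z h 3, mul_assoc, hff, mul_one]
    have hgw : ∃ v2, F.InV v2 ∧ g * d.w * g⁻¹ = v2 * d.w := by
      refine ⟨(g * y) * v' * (g * y)⁻¹ * ((g * y) * d.w * (g * y)⁻¹ * d.w⁻¹), Frame.InV.mul h F
        (Frame.InV.conj h F hv'V (F.mem_H1.mp (F.U_le_H1 hu')).1) (F.comm_U h hu' d.hw), ?_⟩
      calc g * d.w * g⁻¹ = g * y * (y⁻¹ * d.w * y) * (g * y)⁻¹ := by group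
        _ = g * y * (v' * d.w) * (g * y)⁻¹ := by rw [hyw']
        _ = _ := by group
    obtain ⟨v2, hv2, hgw⟩ := hgw
    set w' := F.f 3 * d.w * F.f 3 with hw'
    have hw'U : w' ∈ F.U := F.f_U h 3 d.hw
    have hv3 : F.InV (F.f 3 * v2 * F.f 3) := by
      have := Frame.InV.conj h F hv2 (F.f_z h 3)
      rwa [hfi] at this
    have hyw2 : y * w' * y⁻¹ = (F.f 3 * v2 * F.f 3) * w' := by
      calc y * w' * y⁻¹ = (F.f 3 * F.f 3) * (y * w' * y⁻¹) * (F.f 3 * F.f 3) := by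
            rw [hff, one_mul, mul_one]
        _ = F.f 3 * ((F.f 3 * y * F.f 3) * d.w * ((F.f 3)⁻¹ * y⁻¹ * (F.f 3)⁻¹)) * F.f 3 := by
            rw [hfi, hw']; group
        _ = F.f 3 * (g * d.w * g⁻¹) * F.f 3 := by rw [hg, mul_inv_rev, mul_inv_rev]; group
        _ = F.f 3 * (v2 * d.w) * F.f 3 := by rw [hgw]
        _ = F.f 3 * v2 * (F.f 3 * F.f 3) * d.w * F.f 3 := by rw [hff]; group
        _ = _ := by rw [hw']; group
    -- so `y` fixes the commutator
    have hm := d.m_ww h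
    unfold WData.m at hm
    rw [← hw'] at hm
    apply F.he.2.2.2
    have hcw : ∀ {c x : G}, F.InV c → x ∈ F.U → x * c = c * x := fun hc hx =>
      Frame.InV.comm h F hc (F.U_le_H1 hx)
    calc F.e = y * z * y⁻¹ := hy.yz.symm
      _ = y * (d.w * w' * d.w⁻¹ * w'⁻¹) * y⁻¹ := by rw [hm]
      _ = (y * d.w * y⁻¹) * (y * w' * y⁻¹) * (y * d.w * y⁻¹)⁻¹ * (y * w' * y⁻¹)⁻¹ := by group
      _ = (v * d.w) * ((F.f 3 * v2 * F.f 3) * w') * (v * d.w)⁻¹ * ((F.f 3 * v2 * F.f 3) * w')⁻¹ := by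
          rw [hyw, hyw2]
      _ = v * (d.w * (F.f 3 * v2 * F.f 3)) * w' * d.w⁻¹ * v⁻¹ * w'⁻¹ * (F.f 3 * v2 * F.f 3)⁻¹ := by group
      _ = v * (F.f 3 * v2 * F.f 3) * (d.w * w' * d.w⁻¹ * w'⁻¹) * (w' * v⁻¹ * w'⁻¹) * (F.f 3 * v2 * F.f 3)⁻¹ := by
          rw [hcw hv3 d.hw]; group
      _ = v * (F.f 3 * v2 * F.f 3) * z * v * (F.f 3 * v2 * F.f 3)⁻¹ := by
          rw [hm, Frame.InV.inv h F hv, hcw hv hw'U, mul_inv_cancel_right]
      _ = z := by
          have hzV : F.InV z := Or.inr (Or.inl rfl)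
          have hbz := Frame.InV.mul h F hv3 hzV
          rw [mul_assoc v (F.f 3 * v2 * F.f 3) z, hcw hbz (Frame.InV.mem_U h F hv), mul_assoc _ v v,
            ((F.inV_iff h).mp hv).2, mul_one, hcw hzV (Frame.InV.mem_U h F hv3), mul_inv_cancel_right]

omit hN h in
/-- The fused four-group hypothesis. -/
def Closed (F : Frame z E) (N : Subgroup G) : Prop :=
  ∀ g ∈ N, g * z * g⁻¹ ∈ F.U → F.InV (g * z * g⁻¹)

/-- If the four-group is strongly closed, centralisers of the other involutions of `U` lie in `U`. -/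
theorem cent_out (hcl : Closed F N) (d : WData F) {x : G} (hx : x ∈ N) (hxw : x * d.w = d.w * x) :
    x ∈ F.U := by
  classical
  haveI : Fact (Nat.Prime 2) := ⟨Nat.prime_two⟩
  have hUN := hN.U_le h
  set C := N ⊓ centralizer ({d.w} : Set G) with hC
  have memC : ∀ {u}, u ∈ C ↔ u ∈ N ∧ u * d.w = d.w * u := fun {u} => by
    simp [hC, mem_inf, mem_centralizer_singleton_iff]
  have hAC : d.A ≤ C := fun u hu => memC.mpr ⟨hUN (d.A_le_U h hu), (d.mem_A.mp hu).2⟩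
  have hnorm : ∀ s ∈ C, (∀ u ∈ d.A, s * u * s⁻¹ ∈ d.A) → s ∈ d.A := by
    intro s hs hsA
    obtain ⟨hsN, hsw⟩ := memC.mp hs
    have h1 := hcl s hsN (d.A_le_U h (hsA z (d.InV_mem_A h (Or.inr (Or.inl rfl)))))
    exact d.mem_A.mpr ⟨hN.swap_fix h d hsN hsw h1, hsw⟩
  have hA2 : IsPGroup 2 d.A := IsPGroup.of_card (n := 4) (by rw [d.card_A h]; norm_num)
  have hmax : ∀ P : Subgroup G, P ≤ C → IsPGroup 2 P → d.A ≤ P → P = d.A := by
    intro P hPC hP hAP
    by_contra hne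
    obtain ⟨s, hsP, hsA, hs⟩ := Suz.exists_normalizing hAP hP (fun e => hne e.symm)
    exact hsA (hnorm s (hPC hsP) fun u hu => (hs u hu).2)
  obtain ⟨S, hS⟩ := (hA2.of_equiv (subgroupOfEquivOfLe hAC).symm).exists_le_sylow
  have hSA : (S : Subgroup C).map C.subtype = d.A := hmax _ (map_subtype_le _) (S.isPGroup'.map _)
    (fun u hu => ⟨⟨u, hAC hu⟩, hS (mem_subgroupOf.mpr hu), rfl⟩)
  have hSmem : ∀ u : C, u ∈ (S : Subgroup C) ↔ (u : G) ∈ d.A := fun u => by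
    refine ⟨fun hu => hSA ▸ ⟨u, hu, rfl⟩, fun hu => hS (mem_subgroupOf.mpr hu)⟩
  obtain ⟨P, K, hK, hcomp⟩ := Fusion.hasNormalPComplement_of_normalizer_le_centralizer S (by
    intro s hs
    rw [mem_centralizer_iff]
    have hsA : (s : G) ∈ d.A := hnorm s s.2 fun u hu =>
      (hSmem (s * ⟨u, hAC hu⟩ * s⁻¹)).mp ((mem_normalizer_iff.mp hs _).mp ((hSmem _).mpr hu))
    intro u hu
    exact Subtype.ext (d.A_comm h ((hSmem u).mp hu) hsA))
  haveI := hK
  have hodd : ¬ 2 ∣ Nat.card K := Fusion.not_dvd_card_of_isComplement' P hcomp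
  -- the four-group acts without fixed points on the complement
  have hfix : ∀ v, F.InV v → v ≠ 1 → ∀ k ∈ K, (k : G) * v = v * (k : G) → k = 1 := by
    intro v hv hv1 k hk e
    have hkU : (k : G) ∈ F.U := hN.inU_V h hv hv1 (memC.mp k.2).1 e
    have hkS : k ∈ (S : Subgroup C) := (hSmem k).mpr (d.mem_A.mpr ⟨hkU, (memC.mp k.2).2⟩)
    have h2 : orderOf (⟨k, hk⟩ : K) ∣ 2 := orderOf_dvd_of_pow_eq_one (Subtype.ext (Subtype.ext (by
      rw [SubmonoidClass.coe_pow, SubmonoidClass.coe_pow, pow_two]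
      exact d.A_sq h ((hSmem k).mp hkS))))
    rcases (Nat.dvd_prime Nat.prime_two).mp h2 with e' | e'
    · exact congrArg Subtype.val (orderOf_eq_one_iff.mp e')
    · exact absurd (e' ▸ orderOf_dvd_natCard (⟨k, hk⟩ : K)) hodd
  have hinv : ∀ v (hv : F.InV v), v ≠ 1 → ∀ k ∈ K, v * (k : G) * v⁻¹ = (k : G)⁻¹ := by
    intro v hv hv1 k hk
    let c : C := ⟨v, hAC (d.InV_mem_A h hv)⟩
    let φ : K →* K := (MulAut.conjNormal c : MulAut K).toMonoidHom
    have hfree : MonoidHom.FixedPointFree φ := by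
      intro u hu
      have hu' : v * ((u : C) : G) * v⁻¹ = ((u : C) : G) :=
        congrArg (fun t : C => (t : G)) (congrArg Subtype.val hu)
      exact Subtype.ext (hfix v hv hv1 u.1 u.2 (mul_inv_eq_iff_eq_mul.mp hu').symm)
    have hinvol : Function.Involutive φ := fun u => Subtype.ext (Subtype.ext (by
      show v * (v * ((u : C) : G) * v⁻¹) * v⁻¹ = ((u : C) : G)
      rw [show v * (v * ((u : C) : G) * v⁻¹) * v⁻¹ = (v * v) * ((u : C) : G) * (v * v)⁻¹ by group,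
        ((F.inV_iff h).mp hv).2]
      group))
    exact congrArg (fun t : K => ((t : C) : G)) (congrFun (hfree.coe_eq_inv_of_involutive hinvol) ⟨k, hk⟩)
  have hK1 : K = ⊥ := by
    rw [eq_bot_iff]
    intro k hk
    have hz : F.InV z := Or.inr (Or.inl rfl)
    have he : F.InV F.e := Or.inr (Or.inr (Or.inl rfl))
    have hez : F.InV (F.e * z) := Or.inr (Or.inr (Or.inr rfl))
    have e1 := hinv _ hez (h.sing_z F.he).2.2.1 k hk
    rw [show F.e * z * (k : G) * (F.e * z)⁻¹ = F.e * (z * (k : G) * z⁻¹) * F.e⁻¹ by group,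
      hinv z hz h.z_ne_one k hk, ← conj_inv, hinv F.e he F.he.2.2.1 k hk, inv_inv] at e1
    -- an element equal to its inverse and inverted is fixed
    have e2 := hinv z hz h.z_ne_one k hk
    rw [← e1] at e2
    exact mem_bot.mpr (hfix z hz h.z_ne_one k hk (mul_inv_eq_iff_eq_mul.mp e2).symm)
  have hCA : C = d.A := by
    refine hmax C le_rfl ?_ hAC
    have hc := hcomp.card_mul_card
    rw [hK1, card_bot, one_mul] at hc
    obtain ⟨n, hn⟩ := IsPGroup.iff_card.mp P.isPGroup'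
    exact IsPGroup.of_card (n := n) (by rw [← hc, hn])
  exact d.A_le_U h (hCA ▸ memC.mpr ⟨hx, hxw⟩)

/-- The four-group is not strongly closed. -/
theorem not_closed : ¬ Closed F N := by
  intro hcl
  classical
  haveI := hN.normal
  haveI := hN.simple h
  obtain ⟨d⟩ := hN.exists_wdata h
  have hUN := hN.U_le h
  have hzN := hN.z_mem h
  -- every conjugate of `z` lies in the four-group
  have hall : ∀ g : N, F.InV ((g : G) * z * (g : G)⁻¹) := by
    intro g
    refine hcl g g.2 ?_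
    set zg := g * ⟨z, hzN⟩ * g⁻¹ with hzg
    obtain ⟨t, ht2, ht1, htz, htw⟩ := exists_common (X := N) (x := zg) (y := ⟨d.w, hUN d.hw⟩)
      (Subtype.ext (by
        show (g : G) * z * (g : G)⁻¹ * ((g : G) * z * (g : G)⁻¹) = 1
        rw [conj_mul, h.zz]; group))
      (Subtype.ext d.w2) (fun hc => by
        obtain ⟨c, hc⟩ := isConj_iff.mp hc
        have e : (c : G) * ((g : G) * z * (g : G)⁻¹) * (c : G)⁻¹ = d.w := congrArg Subtype.val hc
        apply d.hwV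
        have h1 := hcl ((c : G) * g) (mul_mem c.2 g.2) (by
          rw [show (c : G) * g * z * ((c : G) * g)⁻¹ = (c : G) * ((g : G) * z * (g : G)⁻¹) * (c : G)⁻¹ by group, e]
          exact d.hw)
        rwa [show (c : G) * g * z * ((c : G) * g)⁻¹ = (c : G) * ((g : G) * z * (g : G)⁻¹) * (c : G)⁻¹ by group, e] at h1)
    have ht2' : (t : G) * t = 1 := congrArg Subtype.val ht2
    have htz' : ((g : G) * z * (g : G)⁻¹) * t = (t : G) * ((g : G) * z * (g : G)⁻¹) :=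
      (congrArg Subtype.val htz).symm
    have ht1' : (t : G) ≠ 1 := fun e => ht1 (Subtype.ext e)
    have htU : (t : G) ∈ F.U := hN.cent_out h hcl d t.2 (congrArg Subtype.val htw)
    have hgN : (g : G) * z * (g : G)⁻¹ ∈ N := mul_mem (mul_mem g.2 hzN) (inv_mem g.2)
    by_cases htV : F.InV (t : G)
    · exact hN.inU_V h htV ht1' hgN htz'
    · exact hN.cent_out h hcl ⟨d.om, t, d.hom, d.ho, d.hπ, htU, ht2', htV⟩ hgN htz'
  -- so the four-group would contain `N`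
  let K : Subgroup N := normalClosure {(⟨z, hzN⟩ : N)}
  have hKV : K ≤ (F.V h).subgroupOf N := by
    refine (closure_le _).mpr ?_
    intro c hc
    obtain ⟨a, ha, hac⟩ := Group.mem_conjugatesOfSet_iff.mp hc
    rw [Set.mem_singleton_iff] at ha
    obtain ⟨g, hg⟩ := isConj_iff.mp hac
    rw [← hg, ha]
    exact hall g
  have hKtop : K = ⊤ := (normalClosure_normal.eq_bot_or_eq_top).resolve_left fun e => h.z_ne_one
    (congrArg (fun t : N => (t : G)) (show (⟨z, hzN⟩ : N) = 1 from mem_bot.mp (e ▸ subset_normalClosure rfl)))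
  exact d.hwV (hKV (hKtop ▸ mem_top (⟨d.w, hUN d.hw⟩ : N)))

/-- All involutions of `U` are conjugate to `z` in `N`. -/
theorem one_class {x : G} (hx : x ∈ F.U) (hx2 : x * x = 1) (hx1 : x ≠ 1) :
    ∃ k ∈ N, k * z * k⁻¹ = x := by
  haveI := hN.normal
  obtain ⟨y, hy⟩ := hN.exists_ydata h
  have hV : F.InV x → ∃ k ∈ N, k * z * k⁻¹ = x := by
    rintro (e | e | e | e)
    · exact absurd e hx1
    · exact ⟨1, one_mem _, by rw [e]; group⟩
    · exact ⟨y, hy.mem, by rw [e, hy.yz]⟩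
    · exact ⟨y⁻¹, inv_mem hy.mem, by rw [inv_inv, e, hy.iyz]⟩
  by_cases hxV : F.InV x
  · exact hV hxV
  obtain ⟨g, hg, hgU, hgV⟩ : ∃ g ∈ N, g * z * g⁻¹ ∈ F.U ∧ ¬ F.InV (g * z * g⁻¹) := by
    by_contra! hn
    exact hN.not_closed h hn
  obtain ⟨om, hom, ho, hπ⟩ := F.exists_om h
  let d : WData F := ⟨om, g * z * g⁻¹, hom, ho, hπ, hgU, by rw [conj_mul, h.zz]; group, hgV⟩
  have hgA := hN.fuse_A h d hg rfl
  rcases d.invol h hx hx2 with e | e
  · obtain ⟨k, hk, -, hkz⟩ := hN.orbit_all h d hg hgA rfl e hxV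
    exact ⟨k, hk, hkz⟩
  · obtain ⟨k, hk, -, hkz⟩ := hN.orbit_all h d hg hgA rfl e (fun hv => hxV (by
      have := Frame.InV.conj h F hv (F.f_z h 3)
      rwa [F.f_inv h, WData.ff_conj' (F := F) h] at this))
    refine ⟨F.f 3 * k * F.f 3, by
      have := hN.normal.conj_mem k hk (F.f 3)
      rwa [F.f_inv h] at this, ?_⟩
    calc F.f 3 * k * F.f 3 * z * (F.f 3 * k * F.f 3)⁻¹
        = F.f 3 * (k * (F.f 3 * z * (F.f 3)⁻¹) * k⁻¹) * (F.f 3)⁻¹ := by group
      _ = F.f 3 * (F.f 3 * x * F.f 3) * F.f 3 := by rw [F.f_z h 3, mul_inv_cancel_right, hkz, F.f_inv h]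
      _ = x := WData.ff_conj' (F := F) h x

theorem iso : ∃ (F' : Type) (_ : Field F') (_ : Fintype F'), Fintype.card F' = 4 ∧
    Nonempty (N ≃* Matrix.ProjectiveSpecialLinearGroup (Fin 3) F') := by
  classical
  haveI : Fact (Nat.Prime 2) := ⟨Nat.prime_two⟩
  haveI := hN.normal
  haveI := hN.simple h
  have hUN := hN.U_le h
  have hzN := hN.z_mem h
  obtain ⟨S, hS⟩ := hN.exists_SU h
  have hSmem : ∀ u : N, u ∈ (S : Subgroup N) ↔ (u : G) ∈ F.U := fun u => by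
    rw [hS, mem_subgroupOf, mem_inf]
    exact ⟨And.right, fun e => ⟨u.2, e⟩⟩
  have hS64 : Nat.card (S : Subgroup N) = 64 := by
    rw [hS, inf_eq_right.mpr hUN, Nat.card_congr (subgroupOfEquivOfLe hUN).toEquiv, F.card_U h]
  have hCIT : H65.CIT.CIT N := by
    intro t ht
    obtain ⟨Q, hQ⟩ := (IsPGroup.of_card (p := 2) (n := 1) (G := zpowers t)
      (by rw [Nat.card_zpowers, ht, pow_one])).exists_le_sylow
    obtain ⟨g, hg⟩ := MulAction.exists_smul_eq N Q S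
    have hu : g * t * g⁻¹ ∈ (S : Subgroup N) := by
      rw [← hg]; exact ⟨t, hQ (mem_zpowers t), rfl⟩
    have ht2 : t * t = 1 := by rw [← pow_two, ← ht]; exact pow_orderOf_eq_one t
    have hne : ((g * t * g⁻¹ : N) : G) ≠ 1 := fun e => by
      have e' : g * t * g⁻¹ = 1 := Subtype.ext e
      rw [conj_eq_one_iff.mp e', orderOf_one] at ht
      omega
    obtain ⟨k, hk, hkz⟩ := hN.one_class h ((hSmem _).mp hu)
      (congrArg Subtype.val (show (g * t * g⁻¹) * (g * t * g⁻¹) = 1 by rw [conj_mul, ht2]; group)) hne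
    set c : N := g⁻¹ * ⟨k, hk⟩ with hc
    have hct : c * ⟨z, hzN⟩ * c⁻¹ = t := by
      have e : (⟨k, hk⟩ : N) * ⟨z, hzN⟩ * (⟨k, hk⟩ : N)⁻¹ = g * t * g⁻¹ := Subtype.ext hkz
      rw [hc, show g⁻¹ * ⟨k, hk⟩ * ⟨z, hzN⟩ * (g⁻¹ * ⟨k, hk⟩)⁻¹ =
        g⁻¹ * ((⟨k, hk⟩ : N) * ⟨z, hzN⟩ * (⟨k, hk⟩ : N)⁻¹) * g by group, e]
      group
    refine (S.isPGroup'.map (MulAut.conj c).toMonoidHom).to_le fun x hx => ?_
    have hxt := mem_centralizer_singleton_iff.mp hx
    rw [← hct] at hxt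
    refine ⟨c⁻¹ * x * c, (hSmem _).mpr (hN.inU h (c⁻¹ * x * c).2 ?_), by simp [mul_assoc]⟩
    exact congrArg Subtype.val (show c⁻¹ * x * c * ⟨z, hzN⟩ = ⟨z, hzN⟩ * (c⁻¹ * x * c) by
      calc c⁻¹ * x * c * ⟨z, hzN⟩ = c⁻¹ * (x * (c * ⟨z, hzN⟩ * c⁻¹)) * c := by group
        _ = c⁻¹ * ((c * ⟨z, hzN⟩ * c⁻¹) * x) * c := by rw [hxt]
        _ = _ := by group)
  have h64 : 64 ∣ Nat.card N := hS64 ▸ card_subgroup_dvd_card _
  have h128 : ¬ 128 ∣ Nat.card N := fun e => by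
    have h1 : 2 ^ 7 ∣ Nat.card (S : Subgroup N) := by
      rw [S.card_eq_multiplicity]
      exact pow_dvd_pow 2 ((Nat.prime_two.pow_dvd_iff_le_factorization Nat.card_pos.ne').mp e)
    rw [hS64] at h1
    norm_num at h1
  obtain ⟨g, hg, hgU, hgV⟩ : ∃ g ∈ N, g * z * g⁻¹ ∈ F.U ∧ ¬ F.InV (g * z * g⁻¹) := by
    by_contra! hn
    exact hN.not_closed h hn
  obtain ⟨d⟩ := hN.exists_wdata h
  refine Suz.LThree.recognise_iso hCIT h64 h128 ?_ ⟨S, (⟨g, hg⟩ : N) • S, ?_, ?_⟩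
  · refine ⟨⟨d.w, hUN d.hw⟩, ⟨F.f 3 * d.w * F.f 3, hUN (F.f_U h 3 d.hw)⟩, fun e => ?_⟩
    have hm := d.m_ww h
    rw [(d.m_one_iff h).mpr (congrArg Subtype.val e)] at hm
    exact h.z_ne_one hm.symm
  · intro e
    apply hgV
    refine F.InV_of_central h hgU (fun u hu => ?_) (by rw [conj_mul, h.zz]; group)
    have hu' : (⟨g, hg⟩ : N)⁻¹ * ⟨u, hUN hu⟩ * ⟨g, hg⟩ ∈ (S : Subgroup N) := by
      have hn := Sylow.smul_eq_iff_mem_normalizer.mp e.symm
      have := (mem_normalizer_iff.mp (inv_mem hn) ⟨u, hUN hu⟩).mp ((hSmem _).mpr hu)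
      rwa [inv_inv] at this
    have hc : (g⁻¹ * u * g) * z = z * (g⁻¹ * u * g) := (F.mem_H1.mp (F.U_le_H1 ((hSmem _).mp hu'))).1
    calc u * (g * z * g⁻¹) = g * ((g⁻¹ * u * g) * z) * g⁻¹ := by group
      _ = g * (z * (g⁻¹ * u * g)) * g⁻¹ := by rw [hc]
      _ = _ := by group
  · intro e
    have hmem : (⟨g, hg⟩ : N) * ⟨z, hzN⟩ * (⟨g, hg⟩ : N)⁻¹ ∈
        (S : Subgroup N) ⊓ (((⟨g, hg⟩ : N) • S : Sylow 2 N) : Subgroup N) :=
      mem_inf.mpr ⟨(hSmem _).mpr hgU, ⟨⟨z, hzN⟩, (hSmem _).mpr (F.z_mem_U h), rfl⟩⟩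
    rw [e, mem_bot, conj_eq_one_iff] at hmem
    exact h.z_ne_one (congrArg Subtype.val hmem)

end NData

end Cfsg.Agent.H55.Quat
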