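import Mathlib.GroupTheory.Perm.Fin
import Mathlib.GroupTheory.Sylow
import Mathlib.GroupTheory.OrderOfElement
import Mathlib.Tactic.Group
import Mathlib.Tactic.NormNum

/-!
The extraspecial group of order 32 without an elementary subgroup of order 8, inside a centraliser.
-/

set_option autoImplicit false
set_option linter.unusedSectionVars false

namespace Cfsg.Agent.H55.Quat

open Subgroup

variable {G : Type*} [Group G] [Finite G]

/-- The hypotheses on the core `E` of the centraliser of `z`. -/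
structure Setup (z : G) (E : Subgroup G) : Prop where
  hzo : orderOf z = 2
  card : Nat.card E = 32
  zE : z ∈ E
  cz : ∀ q ∈ E, q * z = z * q
  cQ : ∀ c : G, c * z = z * c → (∀ q ∈ E, q * c = c * q) → c = 1 ∨ c = z
  norm : ∀ c : G, c * z = z * c → ∀ q ∈ E, c * q * c⁻¹ ∈ E
  sq : ∀ q ∈ E, q * q = 1 ∨ q * q = z
  comm : ∀ q ∈ E, ∀ r ∈ E, q * r = r * q ∨ q * r = z * (r * q)
  rank : ∀ a ∈ E, ∀ b ∈ E, a * a = 1 → b * b = 1 → a * b = b * a → a ≠ 1 → a ≠ z →
    b = 1 ∨ b = z ∨ b = a ∨ b = a * z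

namespace Setup

variable {z : G} {E : Subgroup G} (h : Setup z E)

include h

theorem z_ne_one : z ≠ 1 := fun e => by
  have := h.hzo; rw [e, orderOf_one] at this; omega

theorem zz : z * z = 1 := by
  have := pow_orderOf_eq_one z; rwa [h.hzo, pow_two] at this

theorem z_inv : z⁻¹ = z := inv_eq_of_mul_eq_one_left h.zz

theorem zmul_ne (x : G) : z * x ≠ x := fun e => h.z_ne_one (mul_eq_right.mp e)

theorem mulz_ne (x : G) : x * z ≠ x := fun e => h.z_ne_one (mul_eq_left.mp e)

theorem mulzz (x : G) : x * z * z = x := by rw [mul_assoc, h.zz, mul_one]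

theorem zmulz (x : G) : z * (z * x) = x := by rw [← mul_assoc, h.zz, one_mul]

theorem conj_z {c x : G} (hc : c * z = z * c) : c * (x * z) * c⁻¹ = c * x * c⁻¹ * z := by
  have : c * z * c⁻¹ = z := by rw [hc, mul_inv_cancel_right]
  calc c * (x * z) * c⁻¹ = c * x * c⁻¹ * (c * z * c⁻¹) := by group
    _ = _ := by rw [this]

theorem noncomm {q r : G} (hq : q ∈ E) (hr : r ∈ E) (hn : q * r ≠ r * q) :
    q * r = z * (r * q) := (h.comm q hq r hr).resolve_left hn

theorem noncomm_symm {q r : G} (e : q * r = z * (r * q)) : r * q = z * (q * r) := by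
  rw [e, h.zmulz]

theorem ne_comm {q r : G} (e : q * r = z * (r * q)) : q * r ≠ r * q := fun e' =>
  h.zmul_ne (r * q) (e.symm.trans e')

theorem conj_E {q r : G} (hq : q ∈ E) (hr : r ∈ E) : q * r * q⁻¹ = r ∨ q * r * q⁻¹ = r * z := by
  rcases h.comm q hq r hr with e | e
  · exact Or.inl (by rw [e, mul_inv_cancel_right])
  · refine Or.inr ?_
    rw [e, h.cz r hr]
    group

theorem conj_noncomm {q r : G} (hr : r ∈ E) (e : q * r = z * (r * q)) : q * r * q⁻¹ = r * z := by
  rw [e, h.cz r hr]; group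

/-- Two elements of `E` anticommuting with a third differ by one commuting with it. -/
theorem comm_of_two {u x y : G} (hu : u ∈ E) (hx : x ∈ E) (hy : y ∈ E) (ex : x * u = z * (u * x))
    (ey : y * u = z * (u * y)) : (x⁻¹ * y) * u = u * (x⁻¹ * y) := by
  have h1 : x⁻¹ * u = z * (u * x⁻¹) := by
    calc x⁻¹ * u = x⁻¹ * (u * x) * x⁻¹ := by group
      _ = x⁻¹ * (z * (x * u)) * x⁻¹ := by rw [h.noncomm_symm ex]
      _ = x⁻¹ * (z * x) * (u * x⁻¹) := by group
      _ = x⁻¹ * (x * z) * (u * x⁻¹) := by rw [h.cz x hx]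
      _ = _ := by group
  calc x⁻¹ * y * u = x⁻¹ * (y * u) := by group
    _ = (x⁻¹ * z) * (u * y) := by rw [ey]; group
    _ = z * (x⁻¹ * u) * y := by
      rw [show x⁻¹ * z = z * x⁻¹ from h.cz _ (inv_mem hx)]; group
    _ = _ := by rw [h1, h.zmulz]; group

theorem comm_mul {u x y : G} (hx : x ∈ E) (ex : x * u = z * (u * x))
    (ey : y * u = z * (u * y)) : (x * y) * u = u * (x * y) := by
  calc x * y * u = x * (y * u) := by group
    _ = (x * z) * (u * y) := by rw [ey]; group
    _ = z * (x * u) * y := by rw [h.cz x hx]; group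
    _ = _ := by rw [ex, h.zmulz]; group

theorem exists_noncomm {x : G} (hx : x ∈ E) (h1 : x ≠ 1) (hz : x ≠ z) :
    ∃ y ∈ E, y * x = z * (x * y) := by
  by_contra! hn
  rcases h.cQ x (h.cz x hx) (fun q hq => (h.comm q hq x hx).resolve_right (hn q hq)) with e | e
  · exact h1 e
  · exact hz e

/-- A centraliser in a subgroup of `E` has index at most two. -/
theorem card_cen {K : Subgroup G} (hK : K ≤ E) {u : G} (hu : u ∈ E) :
    Nat.card K ≤ 2 * Nat.card ↥(K ⊓ centralizer ({u} : Set G)) := by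
  classical
  by_cases hall : ∀ y ∈ K, y * u = u * y
  · have : K ⊓ centralizer ({u} : Set G) = K :=
      inf_eq_left.mpr fun y hy => mem_centralizer_singleton_iff.mpr (hall y hy)
    rw [this]; omega
  push Not at hall
  obtain ⟨y0, hy0, hn⟩ := hall
  have e0 := h.noncomm (hK hy0) hu hn
  let g : K → ↥(K ⊓ centralizer ({u} : Set G)) × Bool := fun y =>
    if hy : (y : G) * u = u * (y : G) then
      (⟨y, mem_inf.mpr ⟨y.2, mem_centralizer_singleton_iff.mpr hy⟩⟩, true)
    else (⟨y0⁻¹ * y, mem_inf.mpr ⟨mul_mem (inv_mem hy0) y.2, mem_centralizer_singleton_iff.mpr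
      (h.comm_of_two hu (hK hy0) (hK y.2) e0 (h.noncomm (hK y.2) hu hy))⟩⟩, false)
  have hg : Function.Injective g := by
    intro y y' e
    simp only [g] at e
    split_ifs at e <;> simp only [Prod.mk.injEq, Bool.true_eq_false, Bool.false_eq_true, and_false,
      and_true, Subtype.mk.injEq, mul_right_inj] at e
    all_goals exact Subtype.ext e
  calc Nat.card K ≤ Nat.card (↥(K ⊓ centralizer ({u} : Set G)) × Bool) :=
        Nat.card_le_card_of_injective g hg
    _ = _ := by rw [Nat.card_prod, Nat.card_eq_fintype_card (α := Bool), Fintype.card_bool, mul_comm]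

theorem not_subset_pair {K : Subgroup G} (hK : 3 ≤ Nat.card K) :
    ∃ k ∈ K, k ≠ 1 ∧ k ≠ z := by
  classical
  by_contra! hn
  let g : K → Bool := fun k => decide ((k : G) = 1)
  have hg : Function.Injective g := by
    intro a b e
    simp only [g, decide_eq_decide] at e
    apply Subtype.ext
    by_cases ha : (a : G) = 1
    · rw [ha, e.mp ha]
    · rw [hn a a.2 ha, hn b b.2 (fun hb => ha (e.mpr hb))]
  have := Nat.card_le_card_of_injective g hg
  rw [Nat.card_eq_fintype_card (α := Bool), Fintype.card_bool] at this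
  omega

/-- There is a noncentral involution. -/
theorem exists_inv : ∃ a ∈ E, a * a = 1 ∧ a ≠ 1 ∧ a ≠ z := by
  obtain ⟨x, hx, hx1, hxz⟩ := h.not_subset_pair (K := E) (by rw [h.card]; norm_num)
  rcases h.sq x hx with e | ex
  · exact ⟨x, hx, e, hx1, hxz⟩
  obtain ⟨y, hy, hyx⟩ := h.exists_noncomm hx hx1 hxz
  have c1 := h.card_cen le_rfl hx
  have c2 := h.card_cen (inf_le_left : E ⊓ centralizer ({x} : Set G) ≤ E) hy
  rw [h.card] at c1
  obtain ⟨c, hc, hc1, hcz⟩ := h.not_subset_pair
    (K := E ⊓ centralizer ({x} : Set G) ⊓ centralizer ({y} : Set G)) (by omega)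
  simp only [mem_inf, mem_centralizer_singleton_iff] at hc
  obtain ⟨⟨hcE, hcx⟩, hcy⟩ := hc
  rcases h.sq c hcE with e | ec
  · exact ⟨c, hcE, e, hc1, hcz⟩
  refine ⟨x * c, mul_mem hx hcE, ?_, fun e => ?_, fun e => ?_⟩
  · calc x * c * (x * c) = x * (c * x) * c := by group
      _ = (x * x) * (c * c) := by rw [hcx]; group
      _ = 1 := by rw [ex, ec, h.zz]
  all_goals
    refine h.ne_comm hyx ?_
    have hc' : y * (x * c) = x * c * y := by
      rw [e]; first | simp | exact h.cz y hy
    calc y * x = y * (x * c) * c⁻¹ := by group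
      _ = x * c * y * c⁻¹ := by rw [hc']
      _ = x * (y * c) * c⁻¹ := by rw [show x * c * y = x * (c * y) by group, hcy]
      _ = x * y := by group

end Setup

end Cfsg.Agent.H55.Quat
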