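import Cfsg.Agent.H55.Quat.NorA

/-!
An element of `N` permuting `z, e, ez` cyclically; involutions outside `⟨z, e⟩`; simplicity of `N`.
-/

set_option autoImplicit false
set_option linter.unusedSectionVars false
set_option linter.unusedVariables false
set_option linter.style.haveILetI false
set_option linter.unusedTactic false
set_option linter.unreachableTactic false

namespace Cfsg.Agent.H55.Quat

open Subgroup Equiv

variable {G : Type*} [Group G] [Finite G] {z : G} {E : Subgroup G}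

theorem sq_cycle : ∀ σ : Perm (Fin 4), Dbl σ → σ ≠ 1 →
    ∃ b, b ≠ 0 ∧ b ≠ σ 0 ∧ σ 0 ≠ 0 ∧ σ b ≠ σ 0 ∧ σ b ≠ b ∧ σ b ≠ 0 := by
  decide +kernel

namespace Frame

variable (h : Setup z E) (F : Frame z E)

include h F

theorem InV_e : F.InV F.e := Or.inr (Or.inr (Or.inl rfl))

/-- A central involution of `U` lies in the four-group. -/
theorem InV_of_central {x : G} (hx : x ∈ F.U) (hc : ∀ u ∈ F.U, u * x = x * u) (h2 : x * x = 1) :
    F.InV x := by
  obtain ⟨hx1, hxd⟩ := F.mem_U.mp hx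
  have hxz := (F.mem_H1.mp hx1).1
  refine (F.inV_iff h).mpr ⟨F.mem_E4.mpr ⟨(F.π_one x hxz).mp ?_, (F.mem_H1.mp hx1).2⟩, h2⟩
  by_contra hne
  obtain ⟨b, hb0, hbc, hc0, hdc, hdb, hd0⟩ := sq_cycle _ hxd hne
  have hq : F.f 0 * F.f b ∈ F.U := F.E4_le_U h (F.mem_E4.mpr ⟨mul_mem (F.hf 0).1 (F.hf b).1,
    h.comm_mul (F.hf 0).1 (F.hef 0) (F.hef b)⟩)
  have hcx : x * (F.f 0 * F.f b) * x⁻¹ = F.f 0 * F.f b := mul_inv_eq_iff_eq_mul.mpr (hc _ hq).symm
  rw [← conj_mul, F.fl_spec h hxz, F.fl_spec h hxz] at hcx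
  set c := F.π x 0
  set dd := F.π x b
  -- `f c` commutes with the product but anticommutes with its image
  have h1 : (F.f 0 * F.f b) * F.f c = F.f c * (F.f 0 * F.f b) :=
    h.comm_mul (F.hf 0).1 (F.hff 0 c hc0.symm) (F.hff b c hbc)
  rw [← hcx] at h1
  have h2 : Commute (F.f c * F.f dd) (F.f c) := by
    have e : F.f c * zb z (F.fl x 0) * (F.f dd * zb z (F.fl x b)) =
        F.f c * F.f dd * zb z (xor (F.fl x 0) (F.fl x b)) := by
      rw [show F.f c * zb z (F.fl x 0) * (F.f dd * zb z (F.fl x b)) =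
        F.f c * (zb z (F.fl x 0) * F.f dd) * zb z (F.fl x b) by group,
        ← h.zb_comm (F.f_z h dd), ← h.zb_mul]
      group
    rw [e] at h1
    have hcz : Commute (zb z (xor (F.fl x 0) (F.fl x b))) (F.f c) := (h.zb_comm (F.f_z h c) _).symm
    have := (show Commute _ (F.f c) from h1).mul_left hcz.inv_left
    rwa [mul_inv_cancel_right] at this
  refine h.ne_comm (F.hff dd c hdc) ?_
  apply mul_left_cancel (a := F.f c)
  rw [← mul_assoc, h2.eq]

/-- The squares of `E4` are in `⟨z⟩`. -/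
theorem sq_E4 {q : G} (hq : q ∈ F.E4) : q * q = 1 ∨ q * q = z := h.sq q (F.mem_E4.mp hq).1

end Frame

/-- An element of `N` normalising `U` and permuting `z, e, ez` cyclically. -/
structure YData (F : Frame z E) (N : Subgroup G) (y : G) : Prop where
  mem : y ∈ N
  nU : ∀ u ∈ F.U, y * u * y⁻¹ ∈ F.U
  yz : y * z * y⁻¹ = F.e
  ye : y * F.e * y⁻¹ = F.e * z
  yez : y * (F.e * z) * y⁻¹ = z

namespace NData

variable {F : Frame z E} {N : Subgroup G} (hN : NData F N) (h : Setup z E)

include hN h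

theorem exists_ydata : ∃ y, YData F N y := by
  haveI := hN.normal
  have hUN := hN.U_le h
  have hNU : N ⊓ F.U = F.U := inf_eq_right.mpr hUN
  have hez2 : F.InV (F.e * z) := Or.inr (Or.inr (Or.inr rfl))
  have hcen : ∀ {v}, F.InV v → ∀ u ∈ N ⊓ F.U, u * v = v * u := fun hv u hu =>
    Frame.InV.comm h F hv (F.U_le_H1 (mem_inf.mp hu).2)
  obtain ⟨g, hg, hge⟩ := hN.exists_fuse_e h
  have hgV : F.InV (g * z * g⁻¹) := hge.elim (fun e => Or.inr (Or.inr (Or.inl e)))
    (fun e => Or.inr (Or.inr (Or.inr e)))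
  obtain ⟨n0, hn0, hn0U, hn0z⟩ := hN.fuse_center h hg (hN.z_mem h) (hcen (Or.inr (Or.inl rfl)))
    (hcen hgV) rfl
  rw [hNU] at hn0U
  have hfz := F.f_z h 3
  have hfz' : F.f 3 * z * F.f 3 = z := by rw [hfz, mul_assoc, (F.hf 3).2.1, mul_one]
  have hfe : F.f 3 * F.e * F.f 3 = F.e * z := by
    have := F.f_conj_e h 3
    rwa [F.f_inv h] at this
  have hfez : F.f 3 * (F.e * z) * F.f 3 = F.e := by
    have := h.conj_z (x := F.e) hfz
    rw [F.f_inv h, hfe, h.mulzz] at this
    exact this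
  have hconj : ∀ {n}, n ∈ N → (∀ u ∈ F.U, n * u * n⁻¹ ∈ F.U) →
      F.f 3 * n * F.f 3 ∈ N ∧ ∀ u ∈ F.U, (F.f 3 * n * F.f 3) * u * (F.f 3 * n * F.f 3)⁻¹ ∈ F.U := by
    intro n hn hnU
    refine ⟨?_, fun u hu => ?_⟩
    · have := hN.normal.conj_mem n hn (F.f 3)
      rwa [F.f_inv h] at this
    · have := F.f_U h 3 (hnU _ (F.f_U h 3 hu))
      rwa [show F.f 3 * n * F.f 3 * u * (F.f 3 * n * F.f 3)⁻¹ =
        F.f 3 * (n * (F.f 3 * u * (F.f 3)⁻¹) * n⁻¹) * (F.f 3)⁻¹ by group, F.f_inv h]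
  have hfc : ∀ (n x : G), (F.f 3 * n * F.f 3) * x * (F.f 3 * n * F.f 3)⁻¹ =
      F.f 3 * (n * (F.f 3 * x * F.f 3) * n⁻¹) * F.f 3 := by
    intro n x
    rw [mul_inv_rev, mul_inv_rev, F.f_inv h]
    group
  obtain ⟨n, hn, hnU, hnz⟩ : ∃ n ∈ N, (∀ u ∈ F.U, n * u * n⁻¹ ∈ F.U) ∧ n * z * n⁻¹ = F.e := by
    rcases hge with e | e <;> rw [e] at hn0z
    · exact ⟨n0, hn0, hn0U, hn0z⟩
    · exact ⟨F.f 3 * n0 * F.f 3, (hconj hn0 hn0U).1, (hconj hn0 hn0U).2, by
        rw [hfc, hfz', hn0z, hfez]⟩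
  -- the image of `e`
  have hne : F.InV (n * F.e * n⁻¹) := by
    refine F.InV_of_central h (hnU _ (F.e_mem_U h)) ?_ (by rw [conj_mul, F.he.2.1]; group)
    intro u hu
    obtain ⟨b, hb⟩ := (Finite.injective_iff_surjective (f := fun x : F.U =>
      (⟨n * x * n⁻¹, hnU x x.2⟩ : F.U))).mp (fun a b e => Subtype.ext
        (mul_left_cancel (mul_right_cancel (congrArg Subtype.val e)))) ⟨u, hu⟩
    have e' : n * b.1 * n⁻¹ = u := congrArg Subtype.val hb
    rw [← e', conj_mul, conj_mul, Frame.InV.comm h F (F.InV_e h) (F.U_le_H1 b.2)]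
  rcases hne with e | e | e | e
  · exact absurd (conj_eq_one_iff.mp e) F.he.2.2.1
  · -- a transposition
    refine ⟨F.f 3 * n * F.f 3 * n, mul_mem (hconj hn hnU).1 hn, fun u hu => ?_, ?_, ?_, ?_⟩
    · have := (hconj hn hnU).2 _ (hnU u hu)
      rwa [show F.f 3 * n * F.f 3 * (n * u * n⁻¹) * (F.f 3 * n * F.f 3)⁻¹ =
        F.f 3 * n * F.f 3 * n * u * (F.f 3 * n * F.f 3 * n)⁻¹ by group] at this
    all_goals
      rw [show ∀ x : G, F.f 3 * n * F.f 3 * n * x * (F.f 3 * n * F.f 3 * n)⁻¹ =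
        (F.f 3 * n * F.f 3) * (n * x * n⁻¹) * (F.f 3 * n * F.f 3)⁻¹ from fun x => by group]
    · rw [hnz, hfc, hfe, ← conj_mul, e, hnz, ← F.e_z h, hfez]
    · rw [e, hfc, hfz', hnz, hfe]
    · rw [show n * (F.e * z) * n⁻¹ = (n * F.e * n⁻¹) * (n * z * n⁻¹) by group, e, hnz, ← F.e_z h,
        hfc, hfez, e, hfz']
  · exact absurd (mul_left_cancel (mul_right_cancel (e.trans hnz.symm))) F.he.2.2.2
  · refine ⟨n, hn, hnU, hnz, e, ?_⟩
    rw [← conj_mul, e, hnz, mul_assoc, ← F.e_z h, ← mul_assoc, F.he.2.1, one_mul]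

end NData

namespace YData

variable {F : Frame z E} {N : Subgroup G} {y : G} (hy : YData F N y)

include hy

theorem nU' {u : G} (hu : u ∈ F.U) : y⁻¹ * u * y ∈ F.U := by
  obtain ⟨b, hb⟩ := (Finite.injective_iff_surjective (f := fun x : F.U =>
    (⟨y * x * y⁻¹, hy.nU x x.2⟩ : F.U))).mp (fun a b e => Subtype.ext
      (mul_left_cancel (mul_right_cancel (congrArg Subtype.val e)))) ⟨u, hu⟩
  have e : y * b.1 * y⁻¹ = u := congrArg Subtype.val hb
  rw [← e, show y⁻¹ * (y * b.1 * y⁻¹) * y = b.1 by group]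
  exact b.2

theorem iyz : y⁻¹ * z * y = F.e * z := by
  calc y⁻¹ * z * y = y⁻¹ * (y * (F.e * z) * y⁻¹) * y := by rw [hy.yez]
    _ = _ := by group

theorem iye : y⁻¹ * F.e * y = z := by
  calc y⁻¹ * F.e * y = y⁻¹ * (y * z * y⁻¹) * y := by rw [hy.yz]
    _ = _ := by group

theorem InV_conj {v : G} (hv : F.InV v) : F.InV (y * v * y⁻¹) := by
  rcases hv with e | e | e | e <;> rw [e]
  · exact Or.inl (by group)
  · exact Or.inr (Or.inr (Or.inl hy.yz))
  · exact Or.inr (Or.inr (Or.inr hy.ye))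
  · exact Or.inr (Or.inl hy.yez)

end YData

namespace NData

variable {F : Frame z E} {N : Subgroup G} (hN : NData F N) (h : Setup z E)

include hN h

/-- The group `U` modulo the four-group is elementary abelian. -/
theorem sq_InV {x : G} (hx : x ∈ F.U) : F.InV (x * x) := by
  classical
  obtain ⟨y, hy⟩ := hN.exists_ydata h
  set B := F.E4.map (MulAut.conj y).toMonoidHom with hB
  have hBU : ∀ {b}, b ∈ B → b ∈ F.U := by
    rintro _ ⟨q, hq, rfl⟩; exact hy.nU q (F.E4_le_U h hq)
  have hBsq : ∀ {b}, b ∈ B → b * b = 1 ∨ b * b = F.e := by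
    rintro _ ⟨q, hq, rfl⟩
    simp only [MulEquiv.toMonoidHom_eq_coe, MonoidHom.coe_coe, MulAut.conj_apply, conj_mul]
    rcases F.sq_E4 h hq with e | e <;> rw [e]
    · exact Or.inl (by group)
    · exact Or.inr hy.yz
  let gm : F.E4 × B → F.U := fun q => ⟨q.1.1 * q.2.1, mul_mem (F.E4_le_U h q.1.2) (hBU q.2.2)⟩
  have hint : ∀ {c}, c ∈ F.E4 → c ∈ B → F.InV c := by
    intro c h1 h2
    refine (F.inV_iff h).mpr ⟨h1, ?_⟩
    rcases F.sq_E4 h h1 with e | e
    · exact e
    rcases hBsq h2 with e' | e'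
    · exact e'
    · exact absurd (e'.symm.trans e) F.he.2.2.2
  haveI := Fintype.ofFinite F.U
  -- fibres of the product have at most four elements
  obtain ⟨b0, hb0⟩ : ∃ ab : F.E4 × B, gm ab = ⟨x, hx⟩ := by
    haveI := Fintype.ofFinite (F.E4 × B)
    by_contra hne
    push Not at hne
    have hfib : ∀ u ∈ Finset.univ.image gm, (Finset.univ.filter fun q => gm q = u).card ≤ 4 := by
      intro u hu
      obtain ⟨q0, -, hq0⟩ := Finset.mem_image.mp hu
      have hle : (Finset.univ.filter fun q => gm q = u).image (fun q => q0.1.1⁻¹ * q.1.1) ⊆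
          ({1, z, F.e, F.e * z} : Finset G) := by
        intro c hc
        obtain ⟨q, hq, rfl⟩ := Finset.mem_image.mp hc
        have e : q.1.1 * q.2.1 = q0.1.1 * q0.2.1 := congrArg Subtype.val ((Finset.mem_filter.mp hq).2.trans hq0.symm)
        have : F.InV (q0.1.1⁻¹ * q.1.1) := hint (mul_mem (inv_mem q0.1.2) q.1.2) (by
          have hm := mul_mem q0.2.2 (inv_mem q.2.2)
          rwa [show q0.2.1 * q.2.1⁻¹ = q0.1.1⁻¹ * q.1.1 by
            calc q0.2.1 * q.2.1⁻¹ = q0.1.1⁻¹ * (q0.1.1 * q0.2.1) * q.2.1⁻¹ := by group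
              _ = _ := by rw [← e]; group] at hm)
        simpa [Frame.InV] using this
      rw [← Finset.card_image_of_injOn (f := fun q : F.E4 × B => q0.1.1⁻¹ * q.1.1)]
      · exact (Finset.card_le_card hle).trans Finset.card_le_four
      · intro q hq q' hq' e
        have e1 : q.1 = q'.1 := Subtype.ext (mul_left_cancel e)
        have e2 : q.1.1 * q.2.1 = q'.1.1 * q'.2.1 := congrArg Subtype.val
          ((Finset.mem_filter.mp hq).2.trans (Finset.mem_filter.mp hq').2.symm)
        rw [e1] at e2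
        exact Prod.ext e1 (Subtype.ext (mul_left_cancel e2))
    have hle : (Finset.univ.image gm).card ≤ 63 := by
      calc (Finset.univ.image gm).card ≤ (Finset.univ.erase (⟨x, hx⟩ : F.U)).card :=
            Finset.card_le_card fun u hu => Finset.mem_erase.mpr ⟨by
              obtain ⟨q, -, rfl⟩ := Finset.mem_image.mp hu
              exact hne q, Finset.mem_univ _⟩
        _ = 63 := by
          rw [Finset.card_erase_of_mem (Finset.mem_univ _), Finset.card_univ, ← Nat.card_eq_fintype_card,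
            F.card_U h]
    have := Finset.card_le_mul_card_image Finset.univ 4 hfib
    have hB16 : Nat.card B = 16 := by
      rw [hB, card_map_of_injective (MulAut.conj y).injective, F.card_E4 h]
    rw [Finset.card_univ, ← Nat.card_eq_fintype_card, Nat.card_prod, F.card_E4 h, hB16] at this
    omega
  obtain ⟨⟨a, ha⟩, ⟨b, hb⟩⟩ := b0
  have e : a * b = x := congrArg Subtype.val hb0
  have hc := F.comm_U h (hBU hb) (F.E4_le_U h ha)
  have ha2 : F.InV (a * a) := (F.sq_E4 h ha).elim Or.inl (fun e' => Or.inr (Or.inl e'))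
  have hb2 : F.InV (b * b) := (hBsq hb).elim Or.inl (fun e' => Or.inr (Or.inr (Or.inl e')))
  rw [← e, show a * b * (a * b) = a * (b * a * b⁻¹ * a⁻¹) * a * (b * b) by group,
    Frame.InV.comm h F hc (F.U_le_H1 (F.E4_le_U h ha)), mul_assoc (b * a * b⁻¹ * a⁻¹)]
  exact Frame.InV.mul h F (Frame.InV.mul h F hc ha2) hb2

theorem exists_wdata : Nonempty (WData F) := by
  classical
  obtain ⟨om, hom, ho, hπ⟩ := F.exists_om h
  by_contra hno
  have hinv : ∀ x ∈ F.U, x * x = 1 → F.InV x := fun x hx hx2 => by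
    by_contra hV
    exact hno ⟨⟨om, x, hom, ho, hπ, hx, hx2, hV⟩⟩
  obtain ⟨y, hy⟩ := hN.exists_ydata h
  haveI := Fintype.ofFinite F.U
  let S : G → Finset F.U := fun v => Finset.univ.filter fun x => (x : G) * x = v
  have hmove : ∀ v, (S (y * v * y⁻¹)).card = (S v).card := by
    intro v
    refine (Finset.card_bij' (fun (x : F.U) _ => (⟨y * x * y⁻¹, hy.nU x x.2⟩ : F.U))
      (fun (x : F.U) _ => (⟨y⁻¹ * x * y, hy.nU' x.2⟩ : F.U)) ?_ ?_ ?_ ?_).symm
    · intro x hx
      simp only [S, Finset.mem_filter, Finset.mem_univ, true_and] at hx ⊢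
      rw [conj_mul, hx]
    · intro x hx
      simp only [S, Finset.mem_filter, Finset.mem_univ, true_and] at hx ⊢
      calc y⁻¹ * (x : G) * y * (y⁻¹ * (x : G) * y) = y⁻¹ * ((x : G) * x) * y := by group
        _ = v := by rw [hx]; group
    · intro x _; exact Subtype.ext (by group)
    · intro x _; exact Subtype.ext (by group)
  have h1 := hmove z
  have h2 := hmove F.e
  rw [hy.yz] at h1
  rw [hy.ye] at h2
  have hS1 : (S 1).card = 4 := by
    let g : Fin 4 → F.U := ![1, ⟨z, F.z_mem_U h⟩, ⟨F.e, F.e_mem_U h⟩,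
      ⟨F.e * z, mul_mem (F.e_mem_U h) (F.z_mem_U h)⟩]
    have hg : Function.Injective g := by
      have a1 := h.z_ne_one
      have a2 := F.he.2.2.1
      have a3 := F.he.2.2.2
      have a4 := (h.sing_z F.he).2.2.1
      have a5 := (h.sing_z F.he).2.2.2
      have a6 := F.e_ne_ez h
      intro i j e
      have e' := congrArg Subtype.val e
      fin_cases i <;> fin_cases j <;> first | rfl | (exfalso; simp [g] at e'; first
        | exact a1 e' | exact a1 e'.symm | exact a2 e' | exact a2 e'.symm | exact a3 e' | exact a3 e'.symm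
        | exact a4 e' | exact a4 e'.symm | exact a5 e' | exact a5 e'.symm | exact a6 e' | exact a6 e'.symm)
    rw [show S 1 = Finset.univ.image g by
      ext ⟨x, hx⟩
      simp only [S, Finset.mem_filter, Finset.mem_univ, true_and, Finset.mem_image]
      constructor
      · intro e
        rcases hinv x hx e with e' | e' | e' | e'
        exacts [⟨0, Subtype.ext e'.symm⟩, ⟨1, Subtype.ext e'.symm⟩, ⟨2, Subtype.ext e'.symm⟩,
          ⟨3, Subtype.ext e'.symm⟩]
      · rintro ⟨i, hi⟩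
        have hv : x = (g i : G) := (congrArg Subtype.val hi).symm
        rw [hv]
        fin_cases i
        · exact mul_one _
        · exact h.zz
        · exact F.he.2.1
        · exact (h.sing_z F.he).2.1, Finset.card_image_of_injective _ hg]
    rfl
  have htot : Fintype.card F.U = (S 1).card + (S z).card + (S F.e).card + (S (F.e * z)).card := by
    rw [← Finset.card_univ, Finset.card_eq_sum_card_fiberwise (f := fun x : F.U => (x : G) * x)
      (t := {1, z, F.e, F.e * z}) fun x _ => by simpa [Frame.InV] using hN.sq_InV h x.2]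
    have a1 := h.z_ne_one.symm
    have a2 := F.he.2.2.1.symm
    have a3 := F.he.2.2.2.symm
    have a4 := (h.sing_z F.he).2.2.1.symm
    have a5 := (h.sing_z F.he).2.2.2.symm
    have a6 := F.e_ne_ez h
    rw [Finset.sum_insert (by simp [a1, a2, a4]), Finset.sum_insert (by simp [a3, a5]),
      Finset.sum_insert (by simp [a6]), Finset.sum_singleton]
    simp only [S, add_assoc]
  rw [← Nat.card_eq_fintype_card, F.card_U h, hS1, h2, h1] at htot
  -- the element of order three permutes them without fixed points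
  have hoz := F.om_z h hom
  let σ : Perm {x : F.U // (x : G) * x = z} :=
    { toFun := fun x => ⟨⟨om * x.1 * om⁻¹, F.conj_U h hoz x.1.2⟩, by
        show om * (x.1 : G) * om⁻¹ * (om * (x.1 : G) * om⁻¹) = z
        rw [conj_mul, x.2, hoz, mul_inv_cancel_right]⟩
      invFun := fun x => ⟨⟨om⁻¹ * x.1 * om, by
        have := F.conj_U h (show Commute om z from hoz).inv_left.eq x.1.2
        rwa [inv_inv] at this⟩, by
        show om⁻¹ * (x.1 : G) * om * (om⁻¹ * (x.1 : G) * om) = z
        calc om⁻¹ * (x.1 : G) * om * (om⁻¹ * (x.1 : G) * om) = om⁻¹ * ((x.1 : G) * x.1) * om := by group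
          _ = z := by rw [x.2, mul_assoc, ← hoz, inv_mul_cancel_left]⟩
      left_inv := fun x => Subtype.ext (Subtype.ext (by simp [mul_assoc]))
      right_inv := fun x => Subtype.ext (Subtype.ext (by simp [mul_assoc])) }
  have hσ : σ ^ 3 ^ 1 = 1 := by
    refine Equiv.ext fun x => Subtype.ext (Subtype.ext ?_)
    have h3 : om ^ 3 = 1 := ho ▸ pow_orderOf_eq_one om
    show (σ (σ (σ x))).1.1 = x.1.1
    show om * (om * (om * (x.1 : G) * om⁻¹) * om⁻¹) * om⁻¹ = x.1
    calc om * (om * (om * (x.1 : G) * om⁻¹) * om⁻¹) * om⁻¹ = om ^ 3 * (x.1 : G) * (om ^ 3)⁻¹ := by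
          simp [pow_succ, mul_assoc]
      _ = x.1 := by rw [h3]; group
  haveI : Fact (Nat.Prime 3) := ⟨Nat.prime_three⟩
  have hmod := Equiv.Perm.card_compl_support_modEq hσ
  have hemp : σ.supportᶜ = ∅ := Finset.eq_empty_iff_forall_notMem.mpr fun x hx => by
    simp only [Finset.mem_compl, Equiv.Perm.mem_support, not_not] at hx
    have e : om * (x.1 : G) * om⁻¹ = x.1 := congrArg (fun t => ((t : {x : F.U // (x : G) * x = z}).1 : G)) hx
    have hV := F.om_fpf h hom hπ x.1.2 (Or.inl (by rw [e, mul_inv_cancel]))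
    have := ((F.inV_iff h).mp hV).2
    rw [x.2] at this
    exact h.z_ne_one this
  rw [hemp, Finset.card_empty, Fintype.card_subtype] at hmod
  change 0 ≡ (S z).card [MOD 3] at hmod
  unfold Nat.ModEq at hmod
  omega

/-- `N` is simple. -/
theorem simple : IsSimpleGroup N := by
  classical
  haveI := hN.normal
  haveI : Fact (Nat.Prime 2) := ⟨Nat.prime_two⟩
  obtain ⟨y, hy⟩ := hN.exists_ydata h
  obtain ⟨d⟩ := hN.exists_wdata h
  have hzN := hN.z_mem h
  have hUN := hN.U_le h
  -- every nontrivial normal subgroup contains `z`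
  have hzK : ∀ K : Subgroup N, K.Normal → K ≠ ⊥ → (⟨z, hzN⟩ : N) ∈ K := by
    intro K hK hKb
    haveI := hK
    obtain ⟨S, hS⟩ := hN.exists_SU h
    have hne : K ⊓ (S : Subgroup N) ≠ ⊥ := by
      intro e
      have hodd : Odd (Nat.card K) := by
        rw [← Nat.not_even_iff_odd, even_iff_two_dvd]
        intro h2
        obtain ⟨u, hu⟩ := exists_prime_orderOf_dvd_card' (G := K) 2 h2
        obtain ⟨Q, hQ⟩ := (IsPGroup.of_card (p := 2) (n := 1) (G := zpowers (u : N))
          (by rw [Nat.card_zpowers, orderOf_coe, hu, pow_one])).exists_le_sylow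
        obtain ⟨g, hg⟩ := MulAction.exists_smul_eq N Q S
        have hgu : g * (u : N) * g⁻¹ ∈ K ⊓ (S : Subgroup N) :=
          mem_inf.mpr ⟨hK.conj_mem _ u.2 g, by rw [← hg]; exact ⟨u, hQ (mem_zpowers _), rfl⟩⟩
        rw [e, mem_bot, conj_eq_one_iff] at hgu
        rw [show u = 1 from Subtype.ext hgu, orderOf_one] at hu
        omega
      haveI : (Cfsg.oddCore N).Characteristic := Cores.pPrimeCore_characteristic
      rcases hN.minimal ((Cfsg.oddCore N).map N.subtype) inferInstance (map_subtype_le _) with e' | e'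
      · apply hKb
        have := Cores.le_oddCore hodd
        rw [(map_eq_bot_iff_of_injective _ N.subtype_injective).mp e'] at this
        exact le_bot_iff.mp this
      · apply hN.not_odd h
        rw [← e', card_map_of_injective N.subtype_injective]
        exact Cores.odd_card_oddCore
    haveI : Group.IsNilpotent (S : Subgroup N) := S.isPGroup'.isNilpotent
    haveI : (K.subgroupOf (S : Subgroup N)).Normal := Subgroup.Normal.subgroupOf hK _
    have hne' : K.subgroupOf (S : Subgroup N) ≠ ⊥ := fun e => hne <| eq_bot_iff.mpr fun x hx => by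
      have : (⟨x, (mem_inf.mp hx).2⟩ : (S : Subgroup N)) ∈ K.subgroupOf (S : Subgroup N) := (mem_inf.mp hx).1
      rw [e, mem_bot] at this
      exact mem_bot.mpr (congrArg Subtype.val this)
    have hp : IsPGroup 2 ↥(K.subgroupOf (S : Subgroup N) ⊓ center (S : Subgroup N)) :=
      S.isPGroup'.to_subgroup _
    have hnb := H24.inf_center_ne_bot _ hne'
    have h2 : 2 ∣ Nat.card ↥(K.subgroupOf (S : Subgroup N) ⊓ center (S : Subgroup N)) :=
      hp.card_eq_or_dvd.resolve_left fun e => hnb (card_eq_one.mp e)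
    obtain ⟨⟨⟨u, huS⟩, hu'⟩, huo⟩ := exists_prime_orderOf_dvd_card' (G := ↥(K.subgroupOf (S : Subgroup N) ⊓ center (S : Subgroup N))) 2 h2
    obtain ⟨huK, huZ⟩ := mem_inf.mp hu'
    have huK' : u ∈ K := huK
    have huU : (u : G) ∈ F.U := by
      have := huS
      rw [hS, mem_subgroupOf] at this
      exact (mem_inf.mp this).2
    have huo' : orderOf (u : G) = 2 := by
      rw [← huo, Subgroup.orderOf_mk, orderOf_coe]; exact (Subgroup.orderOf_mk u huS).symm
    have hu2 : (u : G) * u = 1 := by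
      rw [← pow_two, ← huo']; exact pow_orderOf_eq_one _
    have hV := F.InV_of_central h huU (fun v hv => congrArg (fun t : (S : Subgroup N) => ((t : N) : G))
      (mem_center_iff.mp huZ ⟨⟨v, hUN hv⟩, by rw [hS, mem_subgroupOf]; exact mem_inf.mpr ⟨hUN hv, hv⟩⟩)) hu2
    have hstep : ∀ {a : N} {b : G} (hb : b ∈ N), a ∈ K → y * (a : G) * y⁻¹ = b → (⟨b, hb⟩ : N) ∈ K := by
      intro a b hb ha e
      rw [show (⟨b, hb⟩ : N) = ⟨y, hy.mem⟩ * a * ⟨y, hy.mem⟩⁻¹ from Subtype.ext e.symm]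
      exact hK.conj_mem a ha _
    rcases hV with e | e | e | e
    · rw [e, orderOf_one] at huo'; omega
    · rwa [show (⟨z, hzN⟩ : N) = u from Subtype.ext e.symm]
    · refine hstep hzN (a := ⟨F.e * z, mul_mem (hUN (F.e_mem_U h)) hzN⟩) ?_ hy.yez
      exact hstep _ huK' (by rw [e]; exact hy.ye)
    · exact hstep hzN huK' (by rw [e]; exact hy.yez)
  -- the least one is normal in `G`
  let K0 : Subgroup N := normalClosure {(⟨z, hzN⟩ : N)}
  have hz0 : (⟨z, hzN⟩ : N) ∈ K0 := subset_normalClosure rfl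
  have hK0 : ∀ K : Subgroup N, K.Normal → K ≠ ⊥ → K0 ≤ K := fun K hK hKb => by
    haveI := hK
    exact normalClosure_le_normal (Set.singleton_subset_iff.mpr (hzK K hK hKb))
  have hK0b : K0 ≠ ⊥ := fun e => h.z_ne_one (congrArg (fun t : N => (t : G)) (show (⟨z, hzN⟩ : N) = 1 from mem_bot.mp (e ▸ hz0)))
  have hnorm : (K0.map N.subtype).Normal := by
    refine ⟨?_⟩
    rintro _ ⟨k, hk, rfl⟩ g
    let φ : MulAut N := MulAut.conjNormal g
    haveI : (K0.comap φ.toMonoidHom).Normal := normalClosure_normal.comap _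
    have hb : K0.comap φ.toMonoidHom ≠ ⊥ := fun e => by
      have h1 : φ.symm ⟨z, hzN⟩ ∈ K0.comap φ.toMonoidHom := by
        rw [mem_comap]; simpa using hz0
      rw [e, mem_bot, MulEquiv.map_eq_one_iff] at h1
      exact h.z_ne_one (congrArg Subtype.val h1)
    have := hK0 _ inferInstance hb hk
    rw [mem_comap] at this
    exact ⟨_, this, MulAut.conjNormal_apply g k⟩
  haveI : Nontrivial N := (nontrivial_iff_ne_bot N).mpr hN.ne_bot
  refine { eq_bot_or_eq_top_of_normal := fun K hK => or_iff_not_imp_left.mpr fun hKb => ?_ }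
  rcases hN.minimal _ hnorm (map_subtype_le _) with e | e
  · exact absurd ((map_eq_bot_iff_of_injective _ N.subtype_injective).mp e) hK0b
  · rw [eq_top_iff]
    intro k _
    refine hK0 K hK hKb ?_
    have hk : (k : G) ∈ K0.map N.subtype := by rw [e]; exact k.2
    obtain ⟨k', hk', ek⟩ := hk
    rwa [← Subtype.ext ek]

end NData

end Cfsg.Agent.H55.Quat
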