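import Cfsg.Agent.H55.Quat.Pairs

/-!
The distinguished pair `{e, ez}` and the action on the other four pairs.
-/

set_option autoImplicit false
set_option linter.unusedSectionVars false
set_option linter.unusedVariables false

namespace Cfsg.Agent.H55.Quat

open Subgroup Equiv

variable {G : Type*} [Group G] [Finite G] {z : G} {E : Subgroup G}

/-- Two elements equal modulo `⟨z⟩`. -/
def Sim (z x y : G) : Prop := y = x ∨ y = x * z

/-- The pairs of noncentral involutions. -/
abbrev Pr (z : G) (E : Subgroup G) : Type _ := {S : Set G // ∃ x, Sing z E x ∧ S = {x, x * z}}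

/-- The pair of an involution. -/
def prOf {x : G} (hx : Sing z E x) : Pr z E := ⟨{x, x * z}, x, hx, rfl⟩

theorem prOf_surj (P : Pr z E) : ∃ x, ∃ hx : Sing z E x, P = prOf hx := by
  obtain ⟨S, x, hx, rfl⟩ := P
  exact ⟨x, hx, rfl⟩

namespace Setup

variable (h : Setup z E)

include h

theorem sim_symm {x y : G} (e : Sim z x y) : Sim z y x := by
  rcases e with rfl | rfl
  · exact Or.inl rfl
  · exact Or.inr (h.mulzz x).symm

theorem sim_trans {x y w : G} (e : Sim z x y) (e' : Sim z y w) : Sim z x w := by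
  rcases e with rfl | rfl <;> rcases e' with rfl | rfl
  · exact Or.inl rfl
  · exact Or.inr rfl
  · exact Or.inr rfl
  · exact Or.inl (h.mulzz x)

theorem prOf_eq {x y : G} (hx : Sing z E x) (hy : Sing z E y) :
    prOf hx = prOf hy ↔ Sim z x y := by
  constructor
  · intro e
    have e' : ({x, x * z} : Set G) = {y, y * z} := congrArg Subtype.val e
    have : y ∈ ({x, x * z} : Set G) := e' ▸ Set.mem_insert y _
    exact this
  · rintro (rfl | rfl)
    · rfl
    · exact Subtype.ext (show ({x, x * z} : Set G) = {x * z, x * z * z} by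
        rw [h.mulzz]; exact Set.pair_comm _ _)

theorem sim_of_comm {x y : G} (hx : Sing z E x) (hy : Sing z E y) (e : x * y = y * x) : Sim z x y := by
  rcases h.rank x hx.1 y hy.1 hx.2.1 hy.2.1 e hx.2.2.1 hx.2.2.2 with e' | e' | e' | e'
  · exact absurd e' hy.2.2.1
  · exact absurd e' hy.2.2.2
  · exact Or.inl e'
  · exact Or.inr e'

theorem comm_sim {x y w : G} (hy : y ∈ E) (hw : w ∈ E) (e : Sim z x y) (hc : w * x = x * w) :
    w * y = y * w := by
  rcases e with rfl | rfl
  · exact hc
  · rw [← mul_assoc, hc, mul_assoc, h.cz w hw, ← mul_assoc]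

/-- There are five pairs. -/
theorem card_pr : Nat.card (Pr z E) = 5 := by
  classical
  obtain ⟨a, ha⟩ : ∃ a, Sing z E a := by
    obtain ⟨a, ha, h2, h1, hz⟩ := h.exists_inv
    exact ⟨a, ha, h2, h1, hz⟩
  set C := E ⊓ centralizer ({a} : Set G) with hC
  have hsz : ∀ {x}, Sing z E x → x ∈ C → Sim z a x := fun {x} hx hxC =>
    h.sim_of_comm ha hx (mem_centralizer_singleton_iff.mp (mem_inf.mp hxC).2).symm
  have hnc : ∀ {y}, y ∈ E → y ∉ C → y * a = z * (a * y) := fun {y} hy hyC =>
    h.noncomm hy ha.1 fun e => hyC (mem_inf.mpr ⟨hy, mem_centralizer_singleton_iff.mpr e⟩)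
  have hout : ∀ {x}, Sing z E x → ¬ Sim z a x → x ∉ C := fun hx hn hxC => hn (hsz hx hxC)
  let P' := {P : Pr z E // P ≠ prOf ha}
  let rep : P' → G := fun P => (prOf_surj P.1).choose
  have rep_sing : ∀ P, Sing z E (rep P) := fun P => (prOf_surj P.1).choose_spec.choose
  have rep_eq : ∀ P : P', P.1 = prOf (rep_sing P) := fun P =>
    (prOf_surj P.1).choose_spec.choose_spec
  have rep_ns : ∀ P, ¬ Sim z a (rep P) := fun P e =>
    P.2 ((rep_eq P).trans ((h.prOf_eq (rep_sing P) ha).mpr (h.sim_symm e)))
  let T := {y : E // (y : G) ∉ C}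
  let g : P' × Bool × Bool → T := fun q =>
    ⟨⟨rep q.1 * (if q.2.1 then z else 1) * (if q.2.2 then a else 1), mul_mem (mul_mem (rep_sing q.1).1
      (by split_ifs <;> [exact h.zE; exact one_mem _]))
      (by split_ifs <;> [exact ha.1; exact one_mem _])⟩, fun hm => by
      have ha' : a ∈ C := mem_inf.mpr ⟨ha.1, mem_centralizer_singleton_iff.mpr rfl⟩
      have hz' : z ∈ C := mem_inf.mpr ⟨h.zE, mem_centralizer_singleton_iff.mpr (h.cz a ha.1).symm⟩
      refine hout (rep_sing q.1) (rep_ns q.1) ?_
      revert hm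
      simp only
      split_ifs <;> intro hm <;>
        simpa [mul_mem_cancel_right ha', mul_mem_cancel_right hz'] using hm⟩
  have hgb : Function.Bijective g := by
    constructor
    · rintro ⟨P, b1, b2⟩ ⟨Q, c1, c2⟩ e
      have e' : rep P * (if b1 then z else 1) * (if b2 then a else 1) =
          rep Q * (if c1 then z else 1) * (if c2 then a else 1) :=
        congrArg (fun w : T => (w : E).1) e
      have hP := rep_sing P
      have hQ := rep_sing Q
      have hb : b2 = c2 := by
        by_contra hne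
        have key : ∀ {u v : G}, Sing z E u → Sing z E v → ¬ Sim z a u → ¬ Sim z a v →
            ∀ b c : Bool, u * (if b then z else 1) = v * (if c then z else 1) * a → False := by
          intro u v hu hv hnu hnv b c e
          have hu' : Sing z E (u * (if b then z else 1)) := by
            split_ifs
            · exact h.sing_z hu
            · rw [mul_one]; exact hu
          have hv' : Sing z E (v * (if c then z else 1)) := by
            split_ifs
            · exact h.sing_z hv
            · rw [mul_one]; exact hv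
          have hvn : ¬ Sim z a (v * (if c then z else 1)) := fun e => hnv (by
            split_ifs at e
            · exact h.sim_trans e (Or.inr (h.mulzz v).symm)
            · rwa [mul_one] at e)
          rcases h.inv_or ha hv'.1 (hnc hv'.1 (hout hv' hvn)) with ⟨-, e1⟩ | ⟨e1, -⟩
          · rw [← e, hu'.2.1] at e1; exact h.z_ne_one e1.symm
          · rw [hv'.2.1] at e1; exact h.z_ne_one e1.symm
        cases b2 <;> cases c2 <;> first | exact absurd rfl hne | skip
        all_goals simp only [Bool.false_eq_true, if_false, if_true, mul_one] at e'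
        · exact key hP hQ (rep_ns P) (rep_ns Q) b1 c1 e'
        · exact key hQ hP (rep_ns Q) (rep_ns P) c1 b1 e'.symm
      subst hb
      have e'' := mul_right_cancel e'
      have hPQ : P = Q := Subtype.ext ((rep_eq P).trans (((h.prOf_eq hP hQ).mpr (by
        cases b1 <;> cases c1 <;> simp only [Bool.false_eq_true, if_false, if_true, mul_one] at e''
        · exact Or.inl e''.symm
        · exact Or.inr (by rw [e'', h.mulzz])
        · exact Or.inr e''.symm
        · exact Or.inl (mul_right_cancel e'').symm)).trans (rep_eq Q).symm))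
      subst hPQ
      have : b1 = c1 := by
        cases b1 <;> cases c1 <;> simp at e'' ⊢ <;> exact h.z_ne_one e''
      subst this
      rfl
    · rintro ⟨⟨y, hy⟩, hyC⟩
      rcases h.inv_or ha hy (hnc hy hyC) with ⟨hs, -⟩ | ⟨-, hs⟩
      · have hn : prOf hs ≠ prOf ha := fun e => hyC (mem_inf.mpr ⟨hy, mem_centralizer_singleton_iff.mpr
          (h.comm_sim hy ha.1 (h.sim_symm ((h.prOf_eq hs ha).mp e)) rfl).symm⟩)
        set P : P' := ⟨prOf hs, hn⟩
        rcases (h.prOf_eq (rep_sing P) hs).mp (rep_eq P).symm with e | e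
        · exact ⟨(P, false, false), Subtype.ext (Subtype.ext (by simp [g]; exact e.symm))⟩
        · exact ⟨(P, true, false), Subtype.ext (Subtype.ext (by simp [g]; exact e.symm))⟩
      · have hyaC : y * a ∉ C := fun e => hyC ((mul_mem_cancel_right
          (mem_inf.mpr ⟨ha.1, mem_centralizer_singleton_iff.mpr rfl⟩ : a ∈ C)).mp e)
        have hn : prOf hs ≠ prOf ha := fun e => hyaC (mem_inf.mpr ⟨hs.1, mem_centralizer_singleton_iff.mpr
          (h.comm_sim hs.1 ha.1 (h.sim_symm ((h.prOf_eq hs ha).mp e)) rfl).symm⟩)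
        set P : P' := ⟨prOf hs, hn⟩
        rcases (h.prOf_eq (rep_sing P) hs).mp (rep_eq P).symm with e | e
        · refine ⟨(P, false, true), Subtype.ext (Subtype.ext ?_)⟩
          show rep P * 1 * a = y
          rw [mul_one, ← e, mul_assoc, ha.2.1, mul_one]
        · refine ⟨(P, true, true), Subtype.ext (Subtype.ext ?_)⟩
          show rep P * z * a = y
          rw [← e, mul_assoc, ha.2.1, mul_one]
  have hT : Nat.card T = 16 := by
    have h1 := Nat.card_congr (Equiv.sumCompl (fun y : E => (y : G) ∈ C))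
    rw [Nat.card_sum, h.card, Nat.card_congr (Subgroup.subgroupOfEquivOfLe (inf_le_left : C ≤ E)).toEquiv |>
      (fun e => (show Nat.card {y : E // (y : G) ∈ C} = Nat.card C from e)), h.card_cen_inv ha] at h1
    show Nat.card {y : E // ¬ (y : G) ∈ C} = 16
    omega
  have h2 := (Nat.card_eq_of_bijective g hgb).trans hT
  rw [Nat.card_prod, Nat.card_prod, Nat.card_eq_fintype_card (α := Bool), Fintype.card_bool] at h2
  have h3 := Nat.card_congr (Equiv.sumCompl (fun P : Pr z E => P = prOf ha))
  rw [Nat.card_sum, Nat.card_eq_fintype_card (α := {P : Pr z E // P = prOf ha}),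
    Fintype.card_subtype_eq] at h3
  change Nat.card P' * (2 * 2) = 16 at h2
  change 1 + Nat.card P' = _ at h3
  omega

end Setup

/-- The coordinates of `E` and of the action of `C(z)`. -/
structure Frame (z : G) (E : Subgroup G) where
  e : G
  f : Fin 4 → G
  π : G → Perm (Fin 4)
  he : Sing z E e
  hf : ∀ i, Sing z E (f i)
  hef : ∀ i, f i * e = z * (e * f i)
  hff : ∀ i j, i ≠ j → f i * f j = z * (f j * f i)
  sing : ∀ x, Sing z E x → Sim z e x ∨ ∃ i, Sim z (f i) x
  conj_e : ∀ c, c * z = z * c → Sim z e (c * e * c⁻¹)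
  conj_f : ∀ c, c * z = z * c → ∀ i, Sim z (f (π c i)) (c * f i * c⁻¹)
  π_mul : ∀ c d, c * z = z * c → d * z = z * d → π (c * d) = π c * π d
  π_one : ∀ c, c * z = z * c → (π c = 1 ↔ c ∈ E)
  π_surj : ∀ σ, ∃ c, c * z = z * c ∧ π c = σ

theorem exists_frame (h : Setup z E) (π0 : ↥(centralizer ({z} : Set G)) →* Perm (Fin 4))
    (hsurj : Function.Surjective π0) (hker : ∀ c, π0 c = 1 ↔ (c : G) ∈ E) :
    Nonempty (Frame z E) := by
  classical
  let C : Subgroup G := centralizer ({z} : Set G)
  have hmem : ∀ {c}, c ∈ C ↔ c * z = z * c := mem_centralizer_singleton_iff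
  obtain ⟨i5⟩ : Nonempty (Pr z E ≃ Fin 5) := ⟨Finite.equivFinOfCardEq h.card_pr⟩
  let act : C → Pr z E → Pr z E := fun c P =>
    prOf (h.sing_conj (hmem.mp c.2) (prOf_surj P).choose_spec.choose)
  have act_spec : ∀ (c : C) {x : G} (hx : Sing z E x),
      act c (prOf hx) = prOf (h.sing_conj (hmem.mp c.2) hx) := by
    intro c x hx
    refine (h.prOf_eq _ _).mpr ?_
    rcases (h.prOf_eq hx (prOf_surj (prOf hx)).choose_spec.choose).mp
      (prOf_surj (prOf hx)).choose_spec.choose_spec with e | e
    · rw [e]; exact Or.inl rfl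
    · rw [e, h.conj_z (hmem.mp c.2)]; exact Or.inr (h.mulzz _).symm
  have act_mul : ∀ c d P, act (c * d) P = act c (act d P) := by
    intro c d P
    obtain ⟨x, hx, rfl⟩ := prOf_surj P
    simp only [act_spec]
    exact Subtype.ext (by
      show ({_, _} : Set G) = {_, _}
      rw [show ((c * d : C) : G) * x * ((c * d : C) : G)⁻¹ = c * (d * x * (d : G)⁻¹) * (c : G)⁻¹ by
        simp only [coe_mul]; group])
  have act_one : ∀ P, act 1 P = P := by
    intro P
    obtain ⟨x, hx, rfl⟩ := prOf_surj P
    rw [act_spec]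
    exact Subtype.ext (by show ({_, _} : Set G) = {_, _}; simp)
  let σ : C → Perm (Pr z E) := fun c =>
    ⟨act c, act c⁻¹, fun P => by rw [← act_mul, inv_mul_cancel, act_one],
      fun P => by rw [← act_mul, mul_inv_cancel, act_one]⟩
  let φ : C →* Perm (Fin 5) :=
    { toFun := fun c => i5.permCongr (σ c)
      map_one' := Equiv.ext fun q => by simp [σ, act_one]
      map_mul' := fun c d => Equiv.ext fun q => by simp [σ, act_mul, Perm.mul_apply] }
  have φ_spec : ∀ (c : C) P, φ c (i5 P) = i5 (act c P) := fun c P => by simp [φ, σ]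
  have hφ : ∀ c : C, φ c = 1 ↔ π0 c = 1 := by
    intro c
    rw [hker]
    constructor
    · intro e
      refine h.mem_of_fix (hmem.mp c.2) fun x hx => ?_
      have := φ_spec c (prOf hx)
      rw [e, Perm.one_apply, act_spec] at this
      exact (h.prOf_eq _ _).mp (i5.injective this)
    · intro hc
      refine Equiv.ext fun q => ?_
      obtain ⟨x, hx, hq⟩ := prOf_surj (i5.symm q)
      rw [Perm.one_apply, show q = i5 (prOf hx) by rw [← hq, apply_symm_apply], φ_spec, act_spec]
      exact congrArg i5 ((h.prOf_eq _ _).mpr (h.sim_symm (h.conj_E hc hx.1)))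
  obtain ⟨c0, hc0⟩ := hsurj (finRotate 4)
  obtain ⟨d0, hd0⟩ := hsurj (finRotate 4 ^ 3 * swap (0 : Fin 4) 1)
  obtain ⟨r1, r2, r3, r4, r5⟩ := rels4
  obtain ⟨p, hcp, hdp, htr⟩ := fix5 (φ c0)
    (by rw [← map_pow, hφ, map_pow, hc0, r3])
    (by rw [← map_pow, Ne, hφ, map_pow, hc0]; exact r4)
    (φ d0) (by rw [← map_pow, hφ, map_pow, hd0, r1]) (by rw [Ne, hφ, hd0]; exact r5)
    (by rw [← map_mul, ← map_pow, hφ, map_pow, map_mul, hc0, hd0, r2])
  have hfixp : ∀ c : C, φ c p = p := by
    intro c
    obtain ⟨i, j, k, l, e⟩ := gen4 (π0 c)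
    have hc' : φ c = φ c0 ^ (i : ℕ) * φ d0 ^ (j : ℕ) * φ c0 ^ (k : ℕ) * φ d0 ^ (l : ℕ) := by
      rw [← map_pow, ← map_pow, ← map_pow, ← map_pow, ← map_mul, ← map_mul, ← map_mul,
        ← mul_inv_eq_one, ← map_inv, ← map_mul, hφ]
      simp only [map_mul, map_pow, map_inv, hc0, hd0]
      rw [← e]
      exact mul_inv_cancel _
    have fixpow : ∀ (s : Perm (Fin 5)), s p = p → ∀ n : ℕ, (s ^ n) p = p := fun s hs n => by
      induction n with
      | zero => rfl
      | succ n ih => rw [pow_succ, Perm.mul_apply, hs, ih]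
    simp only [hc', Perm.mul_apply, fixpow _ hdp, fixpow _ hcp]
  obtain ⟨e, he, hpe⟩ := prOf_surj (i5.symm p)
  have hr : ∀ i : Fin 4, ∃ x, ∃ hx : Sing z E x, i5.symm (p.succAbove i) = prOf hx := fun i =>
    prOf_surj _
  choose f hf hfe using hr
  have hfsim : ∀ i j, Sim z (f i) (f j) → i = j := fun i j hs =>
    Fin.succAbove_right_injective (i5.symm.injective
      ((hfe i).trans (((h.prOf_eq (hf i) (hf j)).mpr hs).trans (hfe j).symm)))
  have hefs : ∀ i, ¬ Sim z e (f i) := fun i hs =>
    Fin.succAbove_ne p i (i5.symm.injective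
      ((hfe i).trans (((h.prOf_eq he (hf i)).mpr hs).symm.trans hpe.symm)))
  have hex : ∀ (c : C) i, ∃ j, φ c (p.succAbove i) = p.succAbove j := fun c i => by
    obtain ⟨j, hj⟩ := Fin.exists_succAbove_eq (y := p) (x := φ c (p.succAbove i)) (fun e' =>
      Fin.succAbove_ne p i ((φ c).injective (e'.trans (hfixp c).symm)))
    exact ⟨j, hj.symm⟩
  choose tr htr' using hex
  have tr_mul : ∀ c d i, tr (c * d) i = tr c (tr d i) := fun c d i => by
    apply Fin.succAbove_right_injective (p := p)
    rw [← htr', map_mul, Perm.mul_apply, htr', htr']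
  have tr_one : ∀ i, tr 1 i = i := fun i => by
    apply Fin.succAbove_right_injective (p := p)
    rw [← htr', map_one, Perm.one_apply]
  let tp : C →* Perm (Fin 4) :=
    { toFun := fun c => ⟨tr c, tr c⁻¹, fun i => by rw [← tr_mul, inv_mul_cancel, tr_one],
        fun i => by rw [← tr_mul, mul_inv_cancel, tr_one]⟩
      map_one' := Equiv.ext fun i => tr_one i
      map_mul' := fun c d => Equiv.ext fun i => tr_mul c d i }
  have htp : ∀ c : C, tp c = 1 ↔ (c : G) ∈ E := by
    intro c
    rw [← hker, ← hφ]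
    constructor
    · intro e'
      refine Equiv.ext fun q => ?_
      by_cases hq : q = p
      · rw [hq, hfixp, Perm.one_apply]
      · obtain ⟨i, rfl⟩ := Fin.exists_succAbove_eq hq
        rw [htr', Perm.one_apply]
        exact congrArg p.succAbove (show tr c i = i from Equiv.congr_fun e' i)
    · intro e'
      refine Equiv.ext fun i => ?_
      apply Fin.succAbove_right_injective (p := p)
      show p.succAbove (tr c i) = p.succAbove i
      rw [← htr', e', Perm.one_apply]
  have tp_surj : Function.Surjective tp := by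
    have e' : tp.ker = π0.ker := by
      ext c; rw [MonoidHom.mem_ker, MonoidHom.mem_ker, htp, hker]
    have h1 := index_ker tp
    rw [e', index_ker π0, MonoidHom.range_eq_top.mpr hsurj, card_top] at h1
    exact MonoidHom.range_eq_top.mp (eq_top_of_card_eq _ h1.symm)
  refine ⟨{
    e := e, f := f
    π := fun c => if hc : c * z = z * c then tp ⟨c, hmem.mpr hc⟩ else 1
    he := he, hf := hf
    hef := fun i => h.noncomm (hf i).1 he.1 fun e' => hefs i (h.sim_of_comm he (hf i) e'.symm)
    hff := fun i j hij => h.noncomm (hf i).1 (hf j).1 fun e' => hij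
      (hfsim i j (h.sim_of_comm (hf i) (hf j) e'))
    sing := fun x hx => ?_, conj_e := fun c hc => ?_, conj_f := fun c hc i => ?_
    π_mul := fun c d hc hd => ?_, π_one := fun c hc => ?_, π_surj := fun s => ?_ }⟩
  · by_cases hq : i5 (prOf hx) = p
    · exact Or.inl ((h.prOf_eq he hx).mp (hpe.symm.trans (by rw [← hq, symm_apply_apply])))
    · obtain ⟨i, hi⟩ := Fin.exists_succAbove_eq hq
      exact Or.inr ⟨i, (h.prOf_eq (hf i) hx).mp
        ((hfe i).symm.trans (by rw [hi, symm_apply_apply]))⟩
  · have := φ_spec ⟨c, hmem.mpr hc⟩ (prOf he)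
    rw [act_spec, ← hpe, apply_symm_apply, hfixp, ← i5.symm_apply_eq, hpe] at this
    exact (h.prOf_eq _ _).mp this
  · rw [dif_pos hc]
    have := φ_spec ⟨c, hmem.mpr hc⟩ (prOf (hf i))
    rw [act_spec, ← hfe i, apply_symm_apply, htr', ← i5.symm_apply_eq, hfe] at this
    exact (h.prOf_eq _ _).mp this
  · rw [dif_pos hc, dif_pos hd, dif_pos ((show Commute c z from hc).mul_left hd).eq, ← map_mul]
    rfl
  · rw [dif_pos hc, htp]
  · obtain ⟨c, hc⟩ := tp_surj s
    exact ⟨c, hmem.mp c.2, by rw [dif_pos (hmem.mp c.2)]; exact hc⟩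

end Cfsg.Agent.H55.Quat
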