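import Cfsg.Agent.H55.Quat.InvolA
import Cfsg.Agent.H55.Suz.Sub

/-!
The involutions of `H` outside `U`: their fusion is controlled by `H`.
-/

set_option autoImplicit false
set_option linter.unusedSectionVars false
set_option linter.unusedVariables false
set_option linter.style.haveILetI false

namespace Cfsg.Agent.H55.Quat

open Subgroup Equiv

/-- A transposition. -/
def Odd2 (σ : Perm (Fin 4)) : Prop := Perm.sign σ = -1 ∧ σ * σ = 1

instance (σ : Perm (Fin 4)) : Decidable (Odd2 σ) := by unfold Odd2; infer_instance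

set_option synthInstance.maxSize 4000 in
set_option synthInstance.maxHeartbeats 400000 in
theorem odd2_facts :
    (∀ σ τ : Perm (Fin 4), Odd2 τ → σ * τ = τ * σ → σ ^ 4 = 1 →
      σ * σ = 1 ∧ ((∃ i, σ i = i) ∨ ∃ i, (σ * τ) i = i)) ∧
    (∀ σ : Perm (Fin 4), ∀ i, σ i = i → σ ^ 4 = 1 → σ * σ = 1) ∧
    (∀ τ : Perm (Fin 4), Odd2 τ → ∃ a b, a ≠ b ∧ τ a = a ∧ τ b = b) ∧
    (∀ σ : Perm (Fin 4), σ * σ = 1 → Dbl σ ∨ Odd2 σ) ∧
    (∀ σ : Perm (Fin 4), σ * σ = 1 → Dbl σ → σ ≠ 1 → σ 0 ≠ 0 ∧ σ (σ 0) = 0) ∧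
    (∀ c σ : Perm (Fin 4), Odd2 σ → Odd2 (c * σ * c⁻¹)) ∧
    (∀ i, ∀ σ ρ : Perm (Fin 4), σ i = i → ρ i = i → σ * σ = 1 → ρ * ρ = 1 → σ * ρ = ρ * σ →
      σ = 1 ∨ ρ = 1 ∨ σ = ρ) := by
  decide +kernel

set_option synthInstance.maxSize 4000 in
set_option synthInstance.maxHeartbeats 400000 in
theorem odd_cent : ∀ τ : Perm (Fin 4), Odd2 τ → ∀ b : Perm (Fin 4), Dbl b → b ≠ 1 → b * τ = τ * b →
    ∀ σ : Perm (Fin 4), σ * σ = 1 → σ * τ = τ * σ → σ = 1 ∨ σ = τ ∨ σ = b ∨ σ = b * τ := by
  decide +kernel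

set_option synthInstance.maxSize 4000 in
set_option synthInstance.maxHeartbeats 400000 in
theorem odd_nodbl : ∀ τ : Perm (Fin 4), Odd2 τ → ∀ σ ρ : Perm (Fin 4), σ * σ = 1 → ρ * ρ = 1 →
    σ * τ = τ * σ → ρ * τ = τ * ρ → (Dbl σ → σ = 1) → (Dbl ρ → ρ = 1) →
    (Dbl (σ * ρ) → σ * ρ = 1) → σ = 1 ∨ ρ = 1 ∨ σ = ρ := by
  decide +kernel

variable {G : Type*} [Group G] [Finite G] {z : G} {E : Subgroup G}

namespace Frame

/-- The involutions whose fusion `H` controls. -/
def Tp (F : Frame z E) (u : G) : Prop :=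
  u * u = 1 ∧ u * z = z * u ∧ ((u ∈ E ∧ u * F.e ≠ F.e * u) ∨ Odd2 (F.π u))

variable (h : Setup z E) (F : Frame z E)

include h F

theorem π_pow4 {x : G} (hx : x * z = z * x) {k : ℕ} (hk : orderOf x ∣ 2 ^ k) : F.π x ^ 4 = 1 := by
  have key : ∀ σ : Perm (Fin 4), σ ^ 8 = 1 → σ ^ 4 = 1 := by decide +kernel
  have h1 : orderOf (F.π x) ∣ 2 ^ k := by
    refine orderOf_dvd_of_pow_eq_one ?_
    rw [← F.π_pow hx, orderOf_dvd_iff_pow_eq_one.mp hk, F.π_onev]
  have h2 : orderOf (F.π x) ∣ 24 := by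
    have := orderOf_dvd_natCard (F.π x)
    rwa [Nat.card_eq_fintype_card, Fintype.card_perm, Fintype.card_fin] at this
  obtain ⟨m, -, hm⟩ := (Nat.dvd_prime_pow Nat.prime_two).mp h1
  refine key _ (orderOf_dvd_iff_pow_eq_one.mp ?_)
  have h3 : m ≤ 3 := by
    by_contra h4
    have := (pow_dvd_pow 2 (by omega : 4 ≤ m)).trans (hm ▸ h2)
    norm_num at this
  rw [hm]; exact (pow_dvd_pow 2 h3).trans (by norm_num)

theorem sim_f_eq {i j : Fin 4} (e : Sim z (F.f i) (F.f j)) : i = j := by
  by_contra hne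
  exact h.ne_comm (F.hff i j hne) (h.comm_sim (F.hf j).1 (F.hf i).1 e rfl)

theorem sing_out {u : G} (hu : u ∈ E) (h2 : u * u = 1) (hne : u * F.e ≠ F.e * u) :
    ∃ i, Sim z (F.f i) u := by
  have hs : Sing z E u := ⟨hu, h2, fun e => hne (by rw [e, one_mul, mul_one]),
    fun e => hne (by rw [e, F.e_z h])⟩
  exact (F.sing u hs).resolve_left fun e => hne (h.comm_sim hu F.he.1 e rfl).symm

/-- The only square of an element of `C(z) ∩ C(u)` that is an involution is `z`. -/
theorem sq_z {u x : G} (hu : F.Tp u) (hxz : x * z = z * x) (hxu : x * u = u * x) {k : ℕ}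
    (hk : orderOf x ∣ 2 ^ k) (hq : x * x * (x * x) = 1) : x * x = 1 ∨ x * x = z := by
  obtain ⟨hu2, huz, hcase⟩ := hu
  obtain ⟨o1, o2, -⟩ := odd2_facts
  have h4 := F.π_pow4 h hxz hk
  have hqz := ((show Commute x z from hxz).mul_left hxz).eq
  have hqu := ((show Commute x u from hxu).mul_left hxu).eq
  have fin : F.π x * F.π x = 1 → ∀ {i : Fin 4}, (x * x) * F.f i = F.f i * (x * x) →
      x * x = 1 ∨ x * x = z := by
    intro hp i hc
    have hqE : x * x ∈ E := (F.π_one _ hqz).mp (by rw [F.π_mul _ _ hxz hxz, hp])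
    have hV := F.four_of_E4_inv h (F.mem_E4.mpr ⟨hqE, F.sq_comm_e h hxz⟩) hq
    rcases hV with e | e | e | e
    · exact Or.inl e
    · exact Or.inr e
    · rw [e] at hc
      exact absurd hc.symm (h.ne_comm (F.hef i))
    · rw [e, mul_assoc F.e, ← F.f_z h i, ← mul_assoc, ← mul_assoc] at hc
      exact absurd (mul_right_cancel hc).symm (h.ne_comm (F.hef i))
  rcases hcase with ⟨huE, hne⟩ | hodd
  · obtain ⟨i, hi⟩ := F.sing_out h huE hu2 hne
    have hxi : F.π x i = i := by
      have e1 : Sim z (F.f i) (x * F.f i * x⁻¹) := by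
        have hxu' : x * u * x⁻¹ = u := mul_inv_eq_iff_eq_mul.mpr hxu
        rcases hi with e | e
        · rw [← e, hxu']; exact Or.inl rfl
        · rw [e, h.conj_z hxz] at hxu'
          exact Or.inl (mul_right_cancel hxu')
      exact F.sim_f_eq h (h.sim_trans (F.conj_f x hxz i) (h.sim_symm e1))
    exact fin (o2 _ i hxi h4) (F.sq_comm_f h hxz hxi)
  · have hc : F.π x * F.π u = F.π u * F.π x := by
      rw [← F.π_mul _ _ hxz huz, hxu, F.π_mul _ _ huz hxz]
    obtain ⟨hp, ⟨i, hi⟩ | ⟨i, hi⟩⟩ := o1 _ _ hodd hc h4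
    · exact fin hp (F.sq_comm_f h hxz hi)
    · have hy := ((show Commute x z from hxz).mul_left huz).eq
      have hsq : x * u * (x * u) = x * x := by
        rw [show x * u * (x * u) = x * (u * x) * u by group, ← hxu,
          show x * (x * u) * u = x * x * (u * u) by group, hu2, mul_one]
      have := F.sq_comm_f h hy (i := i) (by rw [F.π_mul _ _ hxz huz]; exact hi)
      rw [hsq] at this
      exact fin hp this

theorem f_mul_sq {a b : Fin 4} (hab : a ≠ b) : F.f a * F.f b * (F.f a * F.f b) = z := by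
  rw [h.sq_mul (F.hf b) (F.hf a).1 (F.hff a b hab), (F.hf a).2.1, mul_one]

theorem fe_sq (a : Fin 4) : F.f a * F.e * (F.f a * F.e) = z := by
  rw [h.sq_mul F.he (F.hf a).1 (F.hef a), (F.hf a).2.1, mul_one]

/-- `z` is a square in the centraliser of an involution of `C(z)`, except possibly in `U`. -/
theorem z_square {v : G} (hvz : v * z = z * v) (hv2 : v * v = 1) :
    (∃ x ∈ E, x * v = v * x ∧ x * x = z) ∨ (v ∈ F.U ∧ ¬ F.InV v) := by
  obtain ⟨-, -, o3, o4, o5, -⟩ := odd2_facts
  have hp : F.π v * F.π v = 1 := by rw [← F.π_mul _ _ hvz hvz, hv2, F.π_onev]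
  by_cases h1 : F.π v = 1
  · left
    have hvE := (F.π_one v hvz).mp h1
    by_cases hvn : v = 1 ∨ v = z
    · refine ⟨F.f 0 * F.e, mul_mem (F.hf 0).1 F.he.1, ?_, F.fe_sq h 0⟩
      rcases hvn with e | e <;> rw [e]
      · rw [mul_one, one_mul]
      · exact h.cz _ (mul_mem (F.hf 0).1 F.he.1)
    push Not at hvn
    by_contra! hn
    have hC := h.card_cen_inv (a := v) ⟨hvE, hv2, hvn.1, hvn.2⟩
    have hsub : ∀ y ∈ E ⊓ centralizer ({v} : Set G), y = 1 ∨ y = z ∨ y = v ∨ y = v * z := by
      intro y hy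
      obtain ⟨hyE, hyv⟩ := mem_inf.mp hy
      have hyv' := mem_centralizer_singleton_iff.mp hyv
      exact h.rank v hvE y hyE hv2 ((h.sq y hyE).resolve_right (hn y hyE hyv')) hyv'.symm hvn.1 hvn.2
    classical
    have : Nat.card ↥(E ⊓ centralizer ({v} : Set G)) ≤ ({1, z, v, v * z} : Finset G).card := by
      rw [← Nat.card_eq_finsetCard]
      exact Nat.card_le_card_of_injective (fun y => ⟨y.1, by
        have := hsub y.1 y.2; simpa using this⟩) fun a b e => Subtype.ext (congrArg Subtype.val e :)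
    have h4 : ({1, z, v, v * z} : Finset G).card ≤ 4 := Finset.card_le_four
    omega
  · rcases o4 _ hp with hd | hodd
    · by_cases hve : v * F.e = F.e * v
      · exact Or.inr ⟨F.mem_U.mpr ⟨F.mem_H1.mpr ⟨hvz, hve⟩, hd⟩, fun e =>
          h1 (F.π_E h (F.mem_E4.mp ((F.inV_iff h).mp e).1).1)⟩
      left
      obtain ⟨hne, hback⟩ := o5 _ hp hd h1
      set a : Fin 4 := 0
      set b := F.π v a with hb
      have e1 := F.fl_spec h hvz a
      have e2 := F.fl_spec h hvz b
      rw [← hb] at e1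
      rw [hback] at e2
      have hs : F.fl v a = F.fl v b := by
        have := F.fl_mul h hvz hvz a
        rw [hv2, show F.fl (1 : G) a = false from F.fl_eq h (by simp) (by rw [F.π_onev]; simp [zb]),
          ← hb] at this
        revert this; cases F.fl v a <;> cases F.fl v b <;> simp
      refine ⟨F.f a * F.f b * F.e, mul_mem (mul_mem (F.hf a).1 (F.hf b).1) F.he.1,
        (mul_inv_eq_iff_eq_mul.mp ?_).symm, ?_⟩
      · have he' : v * F.e * v⁻¹ = F.e * z :=
          (F.conj_e v hvz).resolve_left fun e => hve (mul_inv_eq_iff_eq_mul.mp e)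
        rw [← conj_mul, ← conj_mul, e1, e2, he', ← hs]
        have hzz : ∀ t, zb z t * zb z t = 1 := fun t => by rw [h.zb_mul]; simp [zb]
        calc F.f b * zb z (F.fl v a) * (F.f a * zb z (F.fl v a)) * (F.e * z)
            = F.f b * (zb z (F.fl v a) * F.f a) * zb z (F.fl v a) * (F.e * z) := by group
          _ = F.f b * F.f a * (zb z (F.fl v a) * zb z (F.fl v a)) * (F.e * z) := by
              rw [← h.zb_comm (F.f_z h a)]; group
          _ = z * (F.f b * F.f a) * F.e := by
              rw [hzz, mul_one, ← mul_assoc, ← h.cz _ (mul_mem (F.hf b).1 (F.hf a).1),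
                mul_assoc _ z F.e, ← F.e_z h]
              group
          _ = F.f a * F.f b * F.e := by rw [← F.hff a b (Ne.symm hne)]
      · have hc := h.comm_mul (F.hf a).1 (F.hef a) (F.hef b)
        calc F.f a * F.f b * F.e * (F.f a * F.f b * F.e)
            = F.f a * F.f b * (F.e * (F.f a * F.f b)) * F.e := by group
          _ = F.f a * F.f b * (F.f a * F.f b) * (F.e * F.e) := by rw [← hc]; group
          _ = z := by rw [F.f_mul_sq h (Ne.symm hne), F.he.2.1, mul_one]
    · left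
      obtain ⟨c, c', hcc, hc, hc'⟩ := o3 _ hodd
      have e1 := F.fl_spec h hvz c
      have e2 := F.fl_spec h hvz c'
      rw [hc] at e1
      rw [hc'] at e2
      obtain ⟨s, hs⟩ := sim_iff.mp (F.conj_e v hvz)
      have mk : ∀ {p q : G} {t : Bool}, p ∈ E → q ∈ E → v * p * v⁻¹ = p * zb z t →
          v * q * v⁻¹ = q * zb z t → (p * q) * v = v * (p * q) := by
        intro p q t hp hq e e'
        refine (mul_inv_eq_iff_eq_mul.mp ?_).symm
        rw [← conj_mul, e, e', show p * zb z t * (q * zb z t) = p * (zb z t * q) * zb z t by group,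
          ← h.zb_comm (h.cz q hq), show p * (q * zb z t) * zb z t = p * q * (zb z t * zb z t) by group,
          h.zb_mul, Bool.xor_self]
        simp [zb]
      by_cases a1 : F.fl v c = F.fl v c'
      · exact ⟨F.f c * F.f c', mul_mem (F.hf c).1 (F.hf c').1,
          mk (F.hf c).1 (F.hf c').1 e1 (a1 ▸ e2), F.f_mul_sq h hcc⟩
      · by_cases a2 : F.fl v c = s
        · exact ⟨F.f c * F.e, mul_mem (F.hf c).1 F.he.1, mk (F.hf c).1 F.he.1 e1 (a2 ▸ hs),
            F.fe_sq h c⟩
        · have a3 : F.fl v c' = s := by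
            revert a1 a2; cases F.fl v c <;> cases F.fl v c' <;> cases s <;> simp
          exact ⟨F.f c' * F.e, mul_mem (F.hf c').1 F.he.1, mk (F.hf c').1 F.he.1 e2 (a3 ▸ hs),
            F.fe_sq h c'⟩

theorem comm_of_sq {B : Subgroup G} (hB : ∀ b ∈ B, b * b = 1) {a b : G} (ha : a ∈ B) (hb : b ∈ B) :
    a * b = b * a := by
  have e := hB _ (mul_mem ha hb)
  calc a * b = (a * b)⁻¹ := (inv_eq_of_mul_eq_one_left e).symm
    _ = b⁻¹ * a⁻¹ := mul_inv_rev a b
    _ = _ := by rw [inv_eq_of_mul_eq_one_left (hB a ha), inv_eq_of_mul_eq_one_left (hB b hb)]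

/-- No elementary abelian subgroup of order 16 centralises a controlled involution. -/
theorem rank_Tp {u : G} (hu : F.Tp u) {B : Subgroup G} (h16 : Nat.card B = 16)
    (hB : ∀ b ∈ B, b * b = 1) (hBz : ∀ b ∈ B, b * z = z * b) (hBu : ∀ b ∈ B, b * u = u * b) :
    False := by
  classical
  obtain ⟨hu2, huz, hcase⟩ := hu
  obtain ⟨-, -, -, -, -, -, o7⟩ := odd2_facts
  let φ : B →* Perm (Fin 4) :=
    MonoidHom.mk' (fun b => F.π b) fun a b => F.π_mul a b (hBz a a.2) (hBz b b.2)
  have hker : ∀ {b : B}, b ∈ φ.ker → (b : G) ∈ E := fun {b} hb =>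
    (F.π_one _ (hBz b b.2)).mp hb
  have hk4 : Nat.card φ.ker ≤ 4 := by
    by_cases hall : ∀ b : φ.ker, (b : G) = 1 ∨ (b : G) = z
    · let g : φ.ker → Bool := fun b => decide ((b : G) = 1)
      have hg : Function.Injective g := by
        intro a b e
        simp only [g, decide_eq_decide] at e
        apply Subtype.ext; apply Subtype.ext
        by_cases ha : (a : G) = 1
        · rw [ha, e.mp ha]
        · rw [(hall a).resolve_left ha, (hall b).resolve_left (fun hb => ha (e.mpr hb))]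
      have := Nat.card_le_card_of_injective g hg
      rw [Nat.card_eq_fintype_card (α := Bool), Fintype.card_bool] at this
      omega
    · push Not at hall
      obtain ⟨a, ha1, haz⟩ := hall
      have : Nat.card φ.ker ≤ ({1, z, (a : G), (a : G) * z} : Finset G).card := by
        rw [← Nat.card_eq_finsetCard]
        exact Nat.card_le_card_of_injective (fun b => ⟨(b : G), by
          have := h.rank _ (hker a.2) _ (hker b.2) (hB _ a.1.2) (hB _ b.1.2)
            (F.comm_of_sq h hB a.1.2 b.1.2) ha1 haz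
          simpa using this⟩) fun x y e => Subtype.ext (Subtype.ext (congrArg Subtype.val e :))
      exact this.trans Finset.card_le_four
  have hcard : Nat.card φ.ker * Nat.card φ.range = 16 := by
    rw [← index_ker, card_mul_index, h16]
  have hr : 4 ≤ Nat.card φ.range := by
    by_contra hlt
    have : Nat.card φ.ker * Nat.card φ.range ≤ 4 * 3 := Nat.mul_le_mul hk4 (by omega)
    omega
  have hrb : ∀ s : φ.range, ∃ b : B, F.π b = (s : Perm (Fin 4)) := fun s => s.2
  have hinv : ∀ b : B, F.π b * F.π b = 1 := fun b => by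
    rw [← F.π_mul _ _ (hBz b b.2) (hBz b b.2), hB b b.2, F.π_onev]
  have hcm : ∀ a b : B, F.π a * F.π b = F.π b * F.π a := fun a b => by
    rw [← F.π_mul _ _ (hBz a a.2) (hBz b b.2), F.comm_of_sq h hB a.2 b.2, F.π_mul _ _ (hBz b b.2) (hBz a a.2)]
  rcases hcase with ⟨huE, hne⟩ | hodd
  · obtain ⟨i, hi⟩ := F.sing_out h huE hu2 hne
    have hfix : ∀ b : B, F.π b i = i := by
      intro b
      have hbu : (b : G) * u * (b : G)⁻¹ = u := mul_inv_eq_iff_eq_mul.mpr (hBu b b.2)
      have e1 : Sim z (F.f i) ((b : G) * F.f i * (b : G)⁻¹) := by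
        rcases hi with e | e
        · rw [← e, hbu]; exact Or.inl rfl
        · rw [e, h.conj_z (hBz b b.2)] at hbu
          exact Or.inl (mul_right_cancel hbu)
      exact F.sim_f_eq h (h.sim_trans (F.conj_f _ (hBz b b.2) i) (h.sim_symm e1))
    by_cases hall : ∀ b : B, F.π b = 1
    · have : Nat.card φ.range = 1 := by
        have : φ.range = ⊥ := MonoidHom.range_eq_bot_iff.mpr (MonoidHom.ext hall)
        rw [this, card_bot]
      omega
    push Not at hall
    obtain ⟨b0, hb0⟩ := hall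
    have : Nat.card φ.range ≤ ({1, F.π b0} : Finset (Perm (Fin 4))).card := by
      rw [← Nat.card_eq_finsetCard]
      refine Nat.card_le_card_of_injective (fun s => ⟨s.1, ?_⟩) fun x y e =>
        Subtype.ext (congrArg Subtype.val e :)
      obtain ⟨b, hb⟩ := hrb s
      rw [← hb]
      rcases o7 i _ _ (hfix b) (hfix b0) (hinv b) (hinv b0) (hcm b b0) with e | e | e
      · simp [e]
      · exact absurd e hb0
      · simp [e]
    have h2 : ({1, F.π b0} : Finset (Perm (Fin 4))).card ≤ 2 := Finset.card_le_two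
    omega
  · have hcu : ∀ b : B, F.π b * F.π u = F.π u * F.π b := fun b => by
      rw [← F.π_mul _ _ (hBz b b.2) huz, hBu b b.2, F.π_mul _ _ huz (hBz b b.2)]
    by_cases hdb : ∃ b : B, Dbl (F.π b) ∧ F.π b ≠ 1
    · obtain ⟨b, hbd, hb1⟩ := hdb
      -- the kernel has order four, so contains a noncentral involution fixed by `b`
      have hk : 4 ≤ Nat.card φ.ker := by
        have hle : Nat.card φ.range ≤ 4 := by
          have := odd_cent
          have h3 : Nat.card φ.range ≤
              ({1, F.π u, F.π b, F.π b * F.π u} : Finset (Perm (Fin 4))).card := by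
            rw [← Nat.card_eq_finsetCard]
            refine Nat.card_le_card_of_injective (fun s => ⟨s.1, ?_⟩) fun x y e =>
              Subtype.ext (congrArg Subtype.val e :)
            obtain ⟨c, hc⟩ := hrb s
            rw [← hc]
            simpa using this _ hodd _ hbd hb1 (hcu b) _ (hinv c) (hcu c)
          exact h3.trans Finset.card_le_four
        by_contra hlt
        have : Nat.card φ.ker * Nat.card φ.range ≤ 3 * 4 := Nat.mul_le_mul (by omega) hle
        omega
      obtain ⟨a, ha, ha1, haz⟩ := h.not_subset_pair (K := φ.ker.map B.subtype)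
        (by rw [card_map_of_injective B.subtype_injective]; omega)
      obtain ⟨a', ha', rfl⟩ := ha
      have hsing : Sing z E (a' : G) := ⟨hker ha', hB _ a'.2, ha1, haz⟩
      have hae : Sim z F.e (a' : G) := by
        refine (F.sing _ hsing).resolve_right ?_
        rintro ⟨i, hi⟩
        have hc : (b : G) * (a' : G) * (b : G)⁻¹ = a' :=
          mul_inv_eq_iff_eq_mul.mpr (F.comm_of_sq h hB b.2 a'.2)
        have e1 : Sim z (F.f i) ((b : G) * F.f i * (b : G)⁻¹) := by
          rcases hi with e | e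
          · rw [← e, hc]; exact Or.inl rfl
          · rw [e, h.conj_z (hBz b b.2)] at hc
            exact Or.inl (mul_right_cancel hc)
        exact (hbd.resolve_left hb1).2 i
          (F.sim_f_eq h (h.sim_trans (F.conj_f _ (hBz b b.2) i) (h.sim_symm e1)))
      have hce : ∀ {c : G}, c * z = z * c → c * (a' : G) = (a' : G) * c → c * F.e = F.e * c := by
        intro c hcz hca
        rcases hae with e | e <;> rw [e] at hca
        · exact hca
        · rw [← mul_assoc, mul_assoc F.e z c, ← hcz, ← mul_assoc] at hca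
          exact mul_right_cancel hca
      have huH : u ∈ F.H1 := F.mem_H1.mpr ⟨huz, hce huz (hBu _ a'.2).symm⟩
      have hbU : (b : G) ∈ F.U := F.mem_U.mpr
        ⟨F.mem_H1.mpr ⟨hBz b b.2, hce (hBz b b.2) (F.comm_of_sq h hB b.2 a'.2)⟩, hbd⟩
      obtain ⟨om, hom, ho, hπ⟩ := F.exists_om h
      exact WData.no_odd ⟨om, b, hom, ho, hπ, hbU, hB b b.2, fun e =>
        hb1 (F.π_E h (F.mem_E4.mp ((F.inV_iff h).mp e).1).1)⟩ h huH hodd.1 (hBu b b.2).symm
    · push Not at hdb
      have := odd_nodbl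
      by_cases hall : ∀ b : B, F.π b = 1
      · have : Nat.card φ.range = 1 := by
          have : φ.range = ⊥ := MonoidHom.range_eq_bot_iff.mpr (MonoidHom.ext hall)
          rw [this, card_bot]
        omega
      push Not at hall
      obtain ⟨b0, hb0⟩ := hall
      have h2 : Nat.card φ.range ≤ ({1, F.π b0} : Finset (Perm (Fin 4))).card := by
        rw [← Nat.card_eq_finsetCard]
        refine Nat.card_le_card_of_injective (fun s => ⟨s.1, ?_⟩) fun x y e =>
          Subtype.ext (congrArg Subtype.val e :)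
        obtain ⟨b, hb⟩ := hrb s
        rw [← hb]
        rcases this _ hodd _ _ (hinv b) (hinv b0) (hcu b) (hcu b0) (hdb b) (hdb b0)
          (by rw [← F.π_mul _ _ (hBz b b.2) (hBz b0 b0.2)]; exact hdb (b * b0)) with e | e | e
        · simp [e]
        · exact absurd e hb0
        · simp [e]
      have : ({1, F.π b0} : Finset (Perm (Fin 4))).card ≤ 2 := Finset.card_le_two
      omega

/-- An involution of `C(z)` conjugate in `G` to a controlled one is conjugate to it in `C(z)`. -/
theorem fusion {u v g : G} (hu : F.Tp u) (hvz : v * z = z * v) (hg : g * u * g⁻¹ = v) :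
    ∃ k, k * z = z * k ∧ k * u * k⁻¹ = v := by
  classical
  haveI : Fact (Nat.Prime 2) := ⟨Nat.prime_two⟩
  set CH := centralizer ({z} : Set G) ⊓ centralizer ({u} : Set G) with hCH
  have hmem : ∀ {x}, x ∈ CH ↔ x * z = z * x ∧ x * u = u * x := fun {x} => by
    simp [hCH, mem_inf, mem_centralizer_singleton_iff]
  obtain ⟨S⟩ : Nonempty (Sylow 2 CH) := inferInstance
  set R := (S : Subgroup CH).map CH.subtype with hR
  have hR2 : IsPGroup 2 R := S.isPGroup'.map _
  have hRle : R ≤ CH := map_subtype_le _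
  have hRmax : ∀ U : Subgroup G, U ≤ CH → IsPGroup 2 U → Nat.card U ≤ Nat.card R := by
    intro U hU hU2
    have hp : IsPGroup 2 (U.subgroupOf CH) := hU2.of_equiv (subgroupOfEquivOfLe hU).symm
    obtain ⟨T, hT⟩ := hp.exists_le_sylow
    rw [hR, card_map_of_injective CH.subtype_injective, show Nat.card ↥(S : Subgroup CH) = Nat.card T from
      by rw [S.card_eq_multiplicity, T.card_eq_multiplicity],
      ← Nat.card_congr (subgroupOfEquivOfLe hU).toEquiv]
    exact card_le_of_le hT
  have hord : ∀ {x : G}, x ∈ R → ∃ k, orderOf x ∣ 2 ^ k := fun {x} hx => by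
    obtain ⟨k, hk⟩ := hR2 ⟨x, hx⟩
    exact ⟨k, orderOf_dvd_of_pow_eq_one (congrArg Subtype.val hk)⟩
  have hE4' : ∀ {x : G}, x ∈ E → orderOf x ∣ 2 ^ 2 := fun {x} hx => orderOf_dvd_of_pow_eq_one (by
    rw [show (2 : ℕ) ^ 2 = 2 * 2 by norm_num, pow_mul, pow_two x]
    rcases h.sq x hx with e | e <;> rw [e, pow_two]
    · rw [mul_one]
    · rw [h.zz])
  -- `z` is the square of an element of `R`
  obtain ⟨x0, hx0, hx0z⟩ : ∃ x ∈ R, x * x = z := by
    obtain ⟨x, hxE, hxu, hx2⟩ := (F.z_square h hu.2.1 hu.1).resolve_right (by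
      rintro ⟨huU, huV⟩
      rcases hu.2.2 with ⟨huE, hne⟩ | hodd
      · exact hne (F.mem_H1.mp (F.U_le_H1 huU)).2
      · have := dbl_even _ (F.mem_U.mp huU).2
        rw [hodd.1] at this
        exact absurd this (by decide))
    have hxp : IsPGroup 2 (zpowers x) := by
      obtain ⟨m, -, hm⟩ := (Nat.dvd_prime_pow Nat.prime_two).mp (hE4' hxE)
      exact IsPGroup.of_card (n := m) (by rw [Nat.card_zpowers, hm])
    obtain ⟨g', hg', hgx⟩ := Suz.exists_conj_le hRle hR2 hRmax
      (zpowers_le.mpr (hmem.mpr ⟨h.cz x hxE, hxu⟩)) hxp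
    refine ⟨g' * x * g'⁻¹, hgx x (mem_zpowers x), ?_⟩
    rw [conj_mul, hx2, (hmem.mp hg').1, mul_inv_cancel_right]
  have hsqR : ∀ {x : G}, x ∈ R → x * x * (x * x) = 1 → x * x = 1 ∨ x * x = z := fun {x} hx hq => by
    obtain ⟨k, hk⟩ := hord hx
    exact F.sq_z h hu (hmem.mp (hRle hx)).1 (hmem.mp (hRle hx)).2 hk hq
  -- `R` is a Sylow subgroup of the centraliser of `u`
  have hRC : R ≤ centralizer ({u} : Set G) := hRle.trans inf_le_right
  have hmax : ∀ P : Subgroup G, P ≤ centralizer ({u} : Set G) → IsPGroup 2 P →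
      Nat.card P ≤ Nat.card R := by
    intro P hP hP2
    obtain ⟨T, hT⟩ := (hR2.of_equiv (subgroupOfEquivOfLe hRC).symm).exists_le_sylow
    obtain ⟨T', hT'⟩ := (hP2.of_equiv (subgroupOfEquivOfLe hP).symm).exists_le_sylow
    set T0 := (T : Subgroup (centralizer ({u} : Set G))).map (centralizer ({u} : Set G)).subtype with hT0
    have hle : R ≤ T0 := fun y hy => ⟨⟨y, hRC hy⟩, hT hy, rfl⟩
    have hT0p : IsPGroup 2 T0 := T.isPGroup'.map _
    have heq : R = T0 := by
      by_contra hne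
      obtain ⟨y, hyT, hyR, hyn⟩ := Suz.exists_normalizing hle hT0p hne
      have hyu : y * u = u * y := mem_centralizer_singleton_iff.mp ((map_subtype_le _) hyT)
      have hx' := (hyn x0 hx0).2
      have hsq : y * x0 * y⁻¹ * (y * x0 * y⁻¹) = y * z * y⁻¹ := by rw [conj_mul, hx0z]
      have hyz : y * z = z * y := by
        rcases hsqR hx' (by rw [hsq, conj_mul, h.zz]; group) with e | e <;> rw [hsq] at e
        · exact absurd (conj_eq_one_iff.mp e) h.z_ne_one
        · exact mul_inv_eq_iff_eq_mul.mp e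
      have hle' : R ⊔ zpowers y ≤ CH :=
        sup_le hRle (zpowers_le.mpr (hmem.mpr ⟨hyz, hyu⟩))
      have hp' : IsPGroup 2 ↥(R ⊔ zpowers y) := hT0p.to_le (sup_le hle (zpowers_le.mpr hyT))
      have := hRmax _ hle' hp'
      exact hyR ((eq_of_le_of_card_ge le_sup_left this).symm ▸
        (mem_sup_right (mem_zpowers y) : y ∈ R ⊔ zpowers y))
    rw [heq, hT0, card_map_of_injective (subtype_injective _),
      show Nat.card ↥(T : Subgroup (centralizer ({u} : Set G))) = Nat.card T' from by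
        rw [T.card_eq_multiplicity, T'.card_eq_multiplicity],
      ← Nat.card_congr (subgroupOfEquivOfLe hP).toEquiv]
    exact card_le_of_le hT'
  have hgi : g⁻¹ * v * g = u := by rw [← hg]; group
  have hback : ∀ {x : G}, x * v = v * x → (g⁻¹ * x * g) * u = u * (g⁻¹ * x * g) := by
    intro x hx
    rw [← hgi, show g⁻¹ * x * g * (g⁻¹ * v * g) = g⁻¹ * (x * v) * g by group, hx]
    group
  rcases F.z_square h hvz (by rw [← hg, conj_mul, hu.1]; group) with
    ⟨x, hxE, hxv, hx2⟩ | ⟨hvU, hvV⟩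
  · have hord' : orderOf (g⁻¹ * x * g) ∣ 2 ^ 2 := orderOf_dvd_of_pow_eq_one (by
      rw [show g⁻¹ * x * g = g⁻¹ * x * g⁻¹⁻¹ by group, conj_pow,
        orderOf_dvd_iff_pow_eq_one.mp (hE4' hxE)]
      group)
    obtain ⟨c, hcC, hc⟩ := Suz.exists_conj_le hRC hR2 hmax
      (zpowers_le.mpr (mem_centralizer_singleton_iff.mpr (hback hxv))) (by
        obtain ⟨m, -, hm⟩ := (Nat.dvd_prime_pow Nat.prime_two).mp hord'
        exact IsPGroup.of_card (n := m) (by rw [Nat.card_zpowers, hm]))
    have hy := hc _ (mem_zpowers (g⁻¹ * x * g))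
    set y := c * (g⁻¹ * x * g) * c⁻¹ with hyd
    have hy2 : y * y = (c * g⁻¹) * z * (c * g⁻¹)⁻¹ := by rw [hyd, ← hx2]; group
    have hk : (c * g⁻¹) * z * (c * g⁻¹)⁻¹ = z := by
      rcases hsqR hy (by rw [hy2, conj_mul, h.zz]; group) with e | e <;> rw [hy2] at e
      · exact absurd (conj_eq_one_iff.mp e) h.z_ne_one
      · exact e
    have hcu : c * u = u * c := mem_centralizer_singleton_iff.mp hcC
    have hk' : Commute (c * g⁻¹) z := mul_inv_eq_iff_eq_mul.mp hk
    refine ⟨(c * g⁻¹)⁻¹, hk'.inv_left.eq, ?_⟩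
    rw [← hg, show (c * g⁻¹)⁻¹ * u * (c * g⁻¹)⁻¹⁻¹ = g * (c⁻¹ * (u * c)) * g⁻¹ by group, ← hcu]
    group
  · exfalso
    obtain ⟨om, hom, ho, hπ⟩ := F.exists_om h
    set d : WData F := ⟨om, v, hom, ho, hπ, hvU, by rw [← hg, conj_mul, hu.1]; group, hvV⟩ with hd
    set B0 := d.A.map (MulAut.conj g⁻¹).toMonoidHom with hB0
    have hB0le : B0 ≤ centralizer ({u} : Set G) := by
      rintro _ ⟨a, ha, rfl⟩
      simp only [MulEquiv.coe_toMonoidHom, MulAut.conj_apply, inv_inv]
      exact mem_centralizer_singleton_iff.mpr (hback (d.mem_A.mp ha).2)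
    have hB0card : Nat.card B0 = 16 := by
      rw [hB0, card_map_of_injective (MulAut.conj g⁻¹).injective, d.card_A h]
    obtain ⟨c, hcC, hc⟩ := Suz.exists_conj_le hRC hR2 hmax hB0le
      (IsPGroup.of_card (n := 4) (by rw [hB0card]; norm_num))
    set B := B0.map (MulAut.conj c).toMonoidHom with hB
    have hBR : ∀ b ∈ B, b ∈ R := by
      rintro _ ⟨a, ha, rfl⟩
      exact hc a ha
    refine F.rank_Tp h hu (B := B) ?_ ?_ (fun b hb => (hmem.mp (hRle (hBR b hb))).1)
      (fun b hb => (hmem.mp (hRle (hBR b hb))).2)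
    · rw [hB, card_map_of_injective (MulAut.conj c).injective, hB0card]
    · rintro _ ⟨_, ⟨a, ha, rfl⟩, rfl⟩
      simp only [MulEquiv.coe_toMonoidHom, MulAut.conj_apply, conj_mul, d.A_sq h ha]
      group

end Frame

end Cfsg.Agent.H55.Quat
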