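import Cfsg.Agent.H55.Quat.Shape

/-!
The elementary abelian subgroups of order 16 of `U` defined by an involution outside `⟨z, e⟩`.
-/

set_option autoImplicit false
set_option linter.unusedSectionVars false
set_option linter.unusedVariables false

namespace Cfsg.Agent.H55.Quat

open Subgroup Equiv

theorem dbl_facts : ∀ σ : Perm (Fin 4), Dbl σ → σ ≠ 1 →
    cyc * σ * cyc⁻¹ ≠ σ ∧ cyc * (cyc * σ * cyc⁻¹) * cyc⁻¹ ≠ σ ∧
    cyc * (cyc * σ * cyc⁻¹) * cyc⁻¹ * σ * (cyc * σ * cyc⁻¹) = 1 ∧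
    (∀ τ : Perm (Fin 4), τ * σ * τ⁻¹ = σ → Perm.sign τ = -1 →
      τ * (cyc * σ * cyc⁻¹) * τ⁻¹ = cyc * (cyc * σ * cyc⁻¹) * cyc⁻¹) ∧
    (∀ ρ, Dbl ρ → ρ = 1 ∨ ρ = σ ∨ ρ = cyc * σ * cyc⁻¹ ∨ ρ = cyc * (cyc * σ * cyc⁻¹) * cyc⁻¹) := by
  decide +kernel

variable {G : Type*} [Group G] [Finite G] {z : G} {E : Subgroup G}

namespace Frame

/-- The four-group `⟨z, e⟩`. -/
def InV (F : Frame z E) (x : G) : Prop := x = 1 ∨ x = z ∨ x = F.e ∨ x = F.e * z

variable (h : Setup z E) (F : Frame z E)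

theorem InV.one : F.InV 1 := Or.inl rfl

include h F

/-- The four-group as a subgroup. -/
theorem inV_iff {x : G} : F.InV x ↔ x ∈ F.E4 ∧ x * x = 1 := by
  constructor
  · rintro (e | e | e | e) <;> rw [e]
    · exact ⟨one_mem _, mul_one 1⟩
    · exact ⟨F.z_mem_E4 h, h.zz⟩
    · exact ⟨F.e_mem_E4 h, F.he.2.1⟩
    · exact ⟨mul_mem (F.e_mem_E4 h) (F.z_mem_E4 h), (h.sing_z F.he).2.1⟩
  · rintro ⟨h1, h2⟩; exact F.four_of_E4_inv h h1 h2

theorem InV.mem_U {x : G} (hx : F.InV x) : x ∈ F.U := F.E4_le_U h ((F.inV_iff h).mp hx).1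

theorem InV.comm {x c : G} (hx : F.InV x) (hc : c ∈ F.H1) : c * x = x * c := by
  obtain ⟨hcz, hce⟩ := F.mem_H1.mp hc
  rcases hx with e | e | e | e <;> rw [e]
  · rw [mul_one, one_mul]
  · exact hcz
  · exact hce
  · exact ((show Commute c F.e from hce).mul_right hcz).eq

theorem InV.inv {x : G} (hx : F.InV x) : x⁻¹ = x :=
  inv_eq_of_mul_eq_one_left ((F.inV_iff h).mp hx).2

theorem InV.mul {x y : G} (hx : F.InV x) (hy : F.InV y) : F.InV (x * y) := by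
  refine (F.inV_iff h).mpr ⟨mul_mem ((F.inV_iff h).mp hx).1 ((F.inV_iff h).mp hy).1, ?_⟩
  have hc := InV.comm h F hy (F.U_le_H1 (InV.mem_U h F hx))
  calc x * y * (x * y) = x * (y * x) * y := by group
    _ = (x * x) * (y * y) := by rw [← hc]; group
    _ = 1 := by rw [((F.inV_iff h).mp hx).2, ((F.inV_iff h).mp hy).2, mul_one]

theorem InV.conj {x c : G} (hx : F.InV x) (hc : c * z = z * c) : F.InV (c * x * c⁻¹) := by
  have hcz : c * z * c⁻¹ = z := by rw [hc, mul_inv_cancel_right]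
  rcases hx with e | e | e | e <;> rw [e]
  · exact Or.inl (by group)
  · exact Or.inr (Or.inl hcz)
  · rcases F.conj_e c hc with e' | e'
    · exact Or.inr (Or.inr (Or.inl e'))
    · exact Or.inr (Or.inr (Or.inr e'))
  · rw [h.conj_z hc]
    rcases F.conj_e c hc with e' | e' <;> rw [e']
    · exact Or.inr (Or.inr (Or.inr rfl))
    · exact Or.inr (Or.inr (Or.inl (h.mulzz _)))

theorem comm_U {u v : G} (hu : u ∈ F.U) (hv : v ∈ F.U) : F.InV (u * v * u⁻¹ * v⁻¹) :=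
  F.comm_four h hu hv

theorem f_U {u : G} (i : Fin 4) (hu : u ∈ F.U) : F.f i * u * F.f i ∈ F.U := by
  have := F.conj_U h (F.f_z h i) hu
  rwa [F.f_inv h] at this

end Frame

/-- The data: an element of order three of `D` and an involution of `U` outside `⟨z, e⟩`. -/
structure WData (F : Frame z E) where
  om : G
  w : G
  hom : om ∈ F.D
  ho : orderOf om = 3
  hπ : F.π om = cyc
  hw : w ∈ F.U
  w2 : w * w = 1
  hwV : ¬ F.InV w

namespace WData

variable {F : Frame z E} (d : WData F) (h : Setup z E)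

/-- The first conjugate. -/
def w1 : G := d.om * d.w * d.om⁻¹

/-- The second conjugate. -/
def w2' : G := d.om * d.w1 * d.om⁻¹

/-- The elementary abelian group of order 16. -/
def A : Subgroup G := F.U ⊓ centralizer ({d.w} : Set G)

theorem mem_A {x : G} : x ∈ d.A ↔ x ∈ F.U ∧ x * d.w = d.w * x := by
  simp [A, mem_inf, mem_centralizer_singleton_iff]

/-- The fixed representative. -/
def ff (_d : WData F) : G := F.f 3

include h

theorem om_z : d.om * z = z * d.om := F.om_z h d.hom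

theorem ff_z : d.ff * z = z * d.ff := F.f_z h 3

theorem ff2 : d.ff * d.ff = 1 := (F.hf 3).2.1

theorem om_pow : d.om ^ 3 = 1 := d.ho ▸ pow_orderOf_eq_one d.om

theorem om_ff : d.om * d.ff = d.ff * d.om := by
  have hoz := d.om_z h
  have h33 : F.π d.om 3 = 3 := by rw [d.hπ]; exact cyc_facts.2.2.2.1
  refine F.comm_of_fl h hoz h33 ?_
  have h1 : F.fl (1 : G) 3 = false :=
    F.fl_eq h (c := 1) (by simp) (by rw [F.π_onev]; simp [zb])
  have h2 := F.fl_mul h ((show Commute d.om z from hoz).pow_left 2).eq hoz 3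
  rw [← pow_succ, d.om_pow h, h1, h33, pow_two, F.fl_mul h hoz hoz, h33] at h2
  revert h2
  cases F.fl d.om 3 <;> simp

theorem om_InV {v : G} (hv : F.InV v) : d.om * v * d.om⁻¹ = v := by
  rw [Frame.InV.comm h F hv (F.D_le_H1 d.hom), mul_inv_cancel_right]

theorem hw1 : d.w1 ∈ F.U := F.conj_U h (d.om_z h) d.hw

theorem hw2 : d.w2' ∈ F.U := F.conj_U h (d.om_z h) (d.hw1 h)

theorem w1_sq : d.w1 * d.w1 = 1 := by rw [w1, conj_mul, d.w2]; group

theorem w2_sq : d.w2' * d.w2' = 1 := by rw [w2', conj_mul, d.w1_sq h]; group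

theorem om_w2 : d.om * d.w2' * d.om⁻¹ = d.w := by
  have e := d.om_pow h
  calc d.om * d.w2' * d.om⁻¹ = d.om ^ 3 * d.w * (d.om ^ 3)⁻¹ := by
        simp [w2', w1, pow_succ, mul_assoc]
    _ = d.w := by rw [e]; group

theorem w_z : d.w * z = z * d.w := (F.mem_H1.mp (F.U_le_H1 d.hw)).1

theorem π_ne : F.π d.w ≠ 1 := fun e => d.hwV <| (F.inV_iff h).mpr
  ⟨F.U_fix h d.hw (i := 0) (by rw [e]; rfl), d.w2⟩

theorem π_w : Dbl (F.π d.w) := (F.mem_U.mp d.hw).2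

theorem π_w1 : F.π d.w1 = cyc * F.π d.w * cyc⁻¹ := by
  rw [w1, F.π_conj h (d.om_z h) (d.w_z h), d.hπ]

theorem π_w2 : F.π d.w2' = cyc * (cyc * F.π d.w * cyc⁻¹) * cyc⁻¹ := by
  rw [w2', F.π_conj h (d.om_z h) (F.mem_H1.mp (F.U_le_H1 (d.hw1 h))).1, d.hπ, d.π_w1 h]

theorem prod_mem : F.InV (d.w2' * d.w * d.w1) := by
  have hq : d.w2' * d.w * d.w1 ∈ F.U := mul_mem (mul_mem (d.hw2 h) d.hw) (d.hw1 h)
  refine F.om_fpf h d.hom d.hπ hq ?_
  set q := d.w2' * d.w * d.w1 with hqd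
  have e1 : d.om * q * d.om⁻¹ = d.w * d.w1 * d.w2' := by
    rw [hqd, ← conj_mul, ← conj_mul, d.om_w2 h]; rfl
  rw [e1, hqd]
  have := F.comm_U h (mul_mem d.hw (d.hw1 h)) (d.hw2 h)
  rwa [show d.w * d.w1 * d.w2' * (d.w2' * d.w * d.w1)⁻¹ =
    d.w * d.w1 * d.w2' * (d.w * d.w1)⁻¹ * d.w2'⁻¹ by group]

theorem w_w1 : d.w * d.w1 = d.w1 * d.w := by
  have hv := d.prod_mem h
  set v := d.w2' * d.w * d.w1 with hv'
  have e : d.w * d.w1 = d.w2' * v := by
    rw [hv', ← mul_assoc, ← mul_assoc, d.w2_sq h, one_mul]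
  have hs : (d.w * d.w1) * (d.w * d.w1) = 1 := by
    have hc := Frame.InV.comm h F hv (F.U_le_H1 (d.hw2 h))
    rw [e, show d.w2' * v * (d.w2' * v) = d.w2' * (v * d.w2') * v by group, ← hc,
      show d.w2' * (d.w2' * v) * v = (d.w2' * d.w2') * (v * v) by group, d.w2_sq h,
      ((F.inV_iff h).mp hv).2, one_mul]
  calc d.w * d.w1 = (d.w * d.w1) * (d.w1 * d.w1) := by rw [d.w1_sq h, mul_one]
    _ = d.w * d.w1 * d.w1 * d.w1 := by group
    _ = ((d.w * d.w1) * (d.w * d.w1))⁻¹ * (d.w * d.w1) := by rw [hs]; simp [mul_assoc, d.w1_sq h]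
    _ = d.w1⁻¹ * d.w⁻¹ := by group
    _ = d.w1 * d.w := by
      rw [inv_eq_of_mul_eq_one_left (d.w1_sq h), inv_eq_of_mul_eq_one_left d.w2]

theorem w1_w2 : d.w1 * d.w2' = d.w2' * d.w1 := by
  have := congrArg (fun x => d.om * x * d.om⁻¹) (d.w_w1 h)
  simp only [← conj_mul] at this
  exact this

theorem w_w2 : d.w * d.w2' = d.w2' * d.w := by
  have := congrArg (fun x => d.om * x * d.om⁻¹) (d.w1_w2 h)
  simp only [← conj_mul, d.om_w2 h] at this
  exact this.symm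

theorem w1_mem_A : d.w1 ∈ d.A := d.mem_A.mpr ⟨d.hw1 h, (d.w_w1 h).symm⟩

theorem w2_mem_A : d.w2' ∈ d.A := d.mem_A.mpr ⟨d.hw2 h, (d.w_w2 h).symm⟩

theorem InV_mem_A {v : G} (hv : F.InV v) : v ∈ d.A :=
  d.mem_A.mpr ⟨Frame.InV.mem_U h F hv, (Frame.InV.comm h F hv (F.U_le_H1 d.hw)).symm⟩

/-- The pairing of `A` with its conjugate. -/
def m (_d : WData F) (_h : Setup z E) (x y : G) : G :=
  x * (F.f 3 * y * F.f 3) * x⁻¹ * (F.f 3 * y * F.f 3)⁻¹

theorem m_mem {x y : G} (hx : x ∈ F.U) (hy : y ∈ F.U) : F.InV (d.m h x y) :=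
  F.comm_U h hx (F.f_U h 3 hy)

theorem ff_conj (y : G) : d.ff * y * d.ff⁻¹ = F.f 3 * y * F.f 3 := by rw [ff, F.f_inv h]

theorem m_om (x y : G) (hx : x ∈ F.U) (hy : y ∈ F.U) :
    d.m h (d.om * x * d.om⁻¹) (d.om * y * d.om⁻¹) = d.m h x y := by
  have e : F.f 3 * (d.om * y * d.om⁻¹) * F.f 3 = d.om * (F.f 3 * y * F.f 3) * d.om⁻¹ := by
    have c : Commute d.om (F.f 3) := d.om_ff h
    calc F.f 3 * (d.om * y * d.om⁻¹) * F.f 3 = (F.f 3 * d.om) * y * (d.om⁻¹ * F.f 3) := by group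
      _ = (d.om * F.f 3) * y * (F.f 3 * d.om⁻¹) := by rw [c.eq, c.inv_left.eq]
      _ = _ := by group
  unfold m
  rw [e, conj_inv, conj_inv, conj_mul, conj_mul, conj_mul]
  exact d.om_InV h (d.m_mem h hx hy)

theorem m_sym {x y : G} (hx : x ∈ F.U) (hy : y ∈ F.U) :
    F.f 3 * d.m h x y * F.f 3 = d.m h y x := by
  have hfx := F.f_U h 3 hx
  set a := F.f 3 * x * F.f 3 with ha
  have hff := (F.hf 3).2.1
  have hi : (F.f 3)⁻¹ = F.f 3 := F.f_inv h 3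
  have e : F.f 3 * d.m h x y * F.f 3 = a * y * a⁻¹ * y⁻¹ := by
    have e2 : ∀ b, F.f 3 * b * F.f 3 = F.f 3 * b * (F.f 3)⁻¹ := fun b => by rw [hi]
    rw [e2, m, ← conj_mul, ← conj_mul, ← conj_mul, ← conj_inv, ← conj_inv, ← e2 x, ← ha,
      show F.f 3 * (F.f 3 * y * F.f 3) * (F.f 3)⁻¹ = (F.f 3 * F.f 3) * y by group, hff, one_mul]
  rw [e]
  have hinv : d.m h y x = (a * y * a⁻¹ * y⁻¹)⁻¹ := by unfold m; rw [← ha]; group
  rw [hinv, Frame.InV.inv h F (F.comm_U h hfx hy)]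

theorem m_mul {x y y' : G} (hx : x ∈ F.U) (hy : y ∈ F.U) (hy' : y' ∈ F.U) :
    d.m h x (y * y') = d.m h x y * d.m h x y' := by
  have e : F.f 3 * (y * y') * F.f 3 = (F.f 3 * y * F.f 3) * (F.f 3 * y' * F.f 3) := by
    calc F.f 3 * (y * y') * F.f 3 = F.f 3 * y * (F.f 3 * F.f 3) * y' * F.f 3 := by
          rw [(F.hf 3).2.1]; group
      _ = _ := by group
  unfold m
  rw [e]
  set b := F.f 3 * y * F.f 3
  set b' := F.f 3 * y' * F.f 3
  have hb : b ∈ F.H1 := F.U_le_H1 (F.f_U h 3 hy)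
  have hc := Frame.InV.comm h F (F.comm_U h hx (F.f_U h 3 hy')) hb
  change b * (x * b' * x⁻¹ * b'⁻¹) = x * b' * x⁻¹ * b'⁻¹ * b at hc
  calc x * (b * b') * x⁻¹ * (b * b')⁻¹ = (x * b * x⁻¹) * (x * b' * x⁻¹ * b'⁻¹) * b⁻¹ := by group
    _ = (x * b * x⁻¹ * b⁻¹) * (b * (x * b' * x⁻¹ * b'⁻¹)) * b⁻¹ := by group
    _ = _ := by rw [hc]; group

theorem m_InV {x v : G} (hx : x ∈ F.U) (hv : F.InV v) : d.m h x v = 1 := by
  have hv' : F.InV (F.f 3 * v * F.f 3) := by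
    have := Frame.InV.conj h F hv (F.f_z h 3)
    rwa [F.f_inv h] at this
  unfold m
  rw [Frame.InV.comm h F hv' (F.U_le_H1 hx)]
  group

theorem InV_m {x v : G} (hx : x ∈ F.U) (hv : F.InV v) : d.m h v x = 1 := by
  unfold m
  rw [← Frame.InV.comm h F hv (F.U_le_H1 (F.f_U h 3 hx))]
  group

theorem m_ww : d.m h d.w d.w = z := by
  have hq : d.w * F.f 3 * d.w * F.f 3 ∈ F.E4 := by
    have hwz := d.w_z h
    refine F.mem_E4.mpr ⟨mul_mem ?_ (F.hf 3).1, ?_⟩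
    · have := h.norm _ hwz _ (F.hf 3).1
      rwa [inv_eq_of_mul_eq_one_left d.w2] at this
    · exact (F.mem_H1.mp (mul_mem (show d.w ∈ F.H1 from F.U_le_H1 d.hw)
        (F.U_le_H1 (F.f_U h 3 d.hw)) |> fun e => by simpa [mul_assoc] using e)).2
  set q := d.w * F.f 3 * d.w * F.f 3 with hqd
  have hfwf : F.f 3 * d.w * F.f 3 = d.w * q := by
    rw [hqd, ← mul_assoc, ← mul_assoc, ← mul_assoc, d.w2, one_mul]
  have hqV : ¬ F.InV q := by
    intro hv
    have e : d.w * F.f 3 * d.w⁻¹ = q * F.f 3 := by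
      rw [hqd, mul_assoc (d.w * F.f 3 * d.w), (F.hf 3).2.1, mul_one,
        inv_eq_of_mul_eq_one_left d.w2]
    have hcj := F.conj_f d.w (d.w_z h) 3
    rw [e] at hcj
    have hπ3 : F.π d.w 3 ≠ 3 := (d.π_w h).resolve_left (d.π_ne h) |>.2 3
    have hne := h.ne_comm (F.hff _ 3 hπ3)
    refine hne ?_
    have c1 : ∀ x, Sim z (F.f (F.π d.w 3)) x → x * F.f 3 = F.f 3 * x → 
        F.f (F.π d.w 3) * F.f 3 = F.f 3 * F.f (F.π d.w 3) := by
      rintro x (e' | e') hx <;> rw [e'] at hx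
      · exact hx
      · apply mul_right_cancel (b := z)
        calc F.f (F.π d.w 3) * F.f 3 * z = F.f (F.π d.w 3) * (z * F.f 3) := by
              rw [mul_assoc, F.f_z h 3]
          _ = F.f (F.π d.w 3) * z * F.f 3 := by group
          _ = F.f 3 * (F.f (F.π d.w 3) * z) := hx
          _ = _ := by group
    have he2 : q * q = 1 := ((F.inV_iff h).mp hv).2
    rcases hv with e' | e' | e' | e'
    · exact c1 _ hcj (by rw [e', one_mul])
    · exact c1 _ hcj (by rw [e', mul_assoc, (F.hf 3).2.1, mul_one, ← mul_assoc, F.f_z h 3,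
        mul_assoc, (F.hf 3).2.1, mul_one])
    all_goals
      exfalso
      have hi : q * F.f 3 * (q * F.f 3) = 1 := by
        rw [← e, conj_mul, (F.hf 3).2.1]; group
      rw [h.sq_mul (F.hf 3) (F.mem_E4.mp hq).1 ?_, he2, mul_one] at hi
      · exact h.z_ne_one hi
      rw [e']
    · exact h.noncomm_symm (F.hef 3)
    · rw [show F.e * z * F.f 3 = F.e * F.f 3 * z by rw [mul_assoc, ← F.f_z h 3, ← mul_assoc],
        h.noncomm_symm (F.hef 3)]
      group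
  -- `q` is inverted by `w`
  have hs : (d.w * q) * (d.w * q) = 1 := by
    rw [← hfwf]
    calc F.f 3 * d.w * F.f 3 * (F.f 3 * d.w * F.f 3) = F.f 3 * d.w * (F.f 3 * F.f 3) * d.w * F.f 3 := by group
      _ = F.f 3 * (d.w * d.w) * F.f 3 := by rw [(F.hf 3).2.1]; group
      _ = 1 := by rw [d.w2, mul_one, (F.hf 3).2.1]
  have hwq : d.w * q * d.w = q⁻¹ := eq_inv_of_mul_eq_one_left (by rw [← hs]; group)
  have hqq : q * q = z := (h.sq q (F.mem_E4.mp hq).1).resolve_left fun e =>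
    hqV ((F.inV_iff h).mpr ⟨hq, e⟩)
  unfold m
  rw [hfwf, mul_inv_rev, inv_eq_of_mul_eq_one_left d.w2]
  have hwq' : d.w * q⁻¹ * d.w = q := by
    rw [← hwq, show d.w * (d.w * q * d.w) * d.w = (d.w * d.w) * q * (d.w * d.w) by group, d.w2,
      one_mul, mul_one]
  calc d.w * (d.w * q) * d.w * (q⁻¹ * d.w) = (d.w * d.w) * q * (d.w * q⁻¹ * d.w) := by group
    _ = z := by rw [d.w2, hwq', one_mul, hqq]

theorem m_w1_w2 : F.InV (d.m h d.w d.w1) ∧ d.m h d.w d.w1 * d.m h d.w d.w2' = z ∧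
    F.f 3 * d.m h d.w d.w1 * F.f 3 = d.m h d.w d.w2' := by
  refine ⟨d.m_mem h d.hw (d.hw1 h), ?_, ?_⟩
  · rw [← d.m_mul h d.hw (d.hw1 h) (d.hw2 h)]
    have hv := d.prod_mem h
    have e : d.w1 * d.w2' = (d.w2' * d.w * d.w1) * d.w := by
      rw [mul_assoc (d.w2' * d.w), ← d.w_w1 h, ← mul_assoc, mul_assoc d.w2' d.w d.w, d.w2, mul_one,
        d.w1_w2 h]
    rw [e, d.m_mul h d.hw (Frame.InV.mem_U h F hv) d.hw, d.m_InV h d.hw hv, one_mul, d.m_ww h]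
  · rw [d.m_sym h d.hw (d.hw1 h)]
    have := d.m_om h d.w d.w2' d.hw (d.hw2 h)
    rw [d.om_w2 h] at this
    exact this

theorem m_ne : d.m h d.w d.w1 ≠ 1 ∧ d.m h d.w d.w2' ≠ 1 ∧ d.m h d.w d.w1 ≠ d.m h d.w d.w2' := by
  obtain ⟨hv, hp, hs⟩ := d.m_w1_w2 h
  have hne : d.m h d.w d.w1 ≠ d.m h d.w d.w2' := fun e => by
    rw [← e, ((F.inV_iff h).mp hv).2] at hp
    exact h.z_ne_one hp.symm
  have hfix : ∀ x, x = 1 ∨ x = z → F.f 3 * x * F.f 3 = x := by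
    rintro x (e | e) <;> rw [e]
    · rw [mul_one, (F.hf 3).2.1]
    · rw [F.f_z h 3, mul_assoc, (F.hf 3).2.1, mul_one]
  refine ⟨fun e => hne ?_, fun e => hne ?_, hne⟩
  · rw [← hs, hfix _ (Or.inl e)]
  · rw [e, mul_one] at hp
    rw [← hs, hfix _ (Or.inr hp)]

end WData

end Cfsg.Agent.H55.Quat
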