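import Cfsg.Agent.H55.Quat.Invol

/-!
All involutions of `U` lie in `A` or in its conjugate.
-/

set_option autoImplicit false
set_option linter.unusedSectionVars false
set_option linter.unusedVariables false

namespace Cfsg.Agent.H55.Quat.WData

open Subgroup Equiv

variable {G : Type*} [Group G] [Finite G] {z : G} {E : Subgroup G} {F : Frame z E}
variable (d : WData F) (h : Setup z E)

/-- Representatives of `A` modulo the four-group. -/
def rep : Fin 4 → G := ![1, d.w, d.w1, d.w2']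

/-- The elements of the four-group. -/
def vv (_d : WData F) : Fin 4 → G := ![1, z, F.e, F.e * z]

include h

theorem vv_mem (k : Fin 4) : F.InV (d.vv k) := by
  fin_cases k
  · exact Or.inl rfl
  · exact Or.inr (Or.inl rfl)
  · exact Or.inr (Or.inr (Or.inl rfl))
  · exact Or.inr (Or.inr (Or.inr rfl))

theorem InV_vv {v : G} (hv : F.InV v) : ∃ k, v = d.vv k := by
  rcases hv with e | e | e | e
  exacts [⟨0, e⟩, ⟨1, e⟩, ⟨2, e⟩, ⟨3, e⟩]

theorem vv_inj : Function.Injective d.vv := by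
  have a1 := h.z_ne_one
  have a2 := F.he.2.2.1
  have a3 := F.he.2.2.2
  have a4 := (h.sing_z F.he).2.2.1
  have a5 := (h.sing_z F.he).2.2.2
  have a6 := F.e_ne_ez h
  intro i j e
  fin_cases i <;> fin_cases j <;> first | rfl | (exfalso; simp [vv] at e; first
    | exact a1 e | exact a1 e.symm | exact a2 e | exact a2 e.symm | exact a3 e | exact a3 e.symm
    | exact a4 e | exact a4 e.symm | exact a5 e | exact a5 e.symm | exact a6 e | exact a6 e.symm)

theorem rep_mem (i : Fin 4) : d.rep i ∈ F.U := by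
  fin_cases i
  exacts [one_mem _, d.hw, d.hw1 h, d.hw2 h]

theorem rep_sq (i : Fin 4) : d.rep i * d.rep i = 1 := by
  fin_cases i
  exacts [mul_one 1, d.w2, d.w1_sq h, d.w2_sq h]

theorem rep_comm (i j : Fin 4) : d.rep i * d.rep j = d.rep j * d.rep i := by
  have a := d.w_w1 h
  have b := d.w_w2 h
  have c := d.w1_w2 h
  fin_cases i <;> fin_cases j <;> first | rfl | exact (one_mul _).trans (mul_one _).symm | exact (mul_one _).trans (one_mul _).symm | exact a | exact a.symm | exact b | exact b.symm | exact c | exact c.symm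

theorem rep_m (i : Fin 4) :
    d.m h (d.rep i) d.w = ![1, z, d.m h d.w d.w2', d.m h d.w d.w1] i ∧
    d.m h d.w (d.rep i) = ![1, z, d.m h d.w d.w1, d.m h d.w d.w2'] i := by
  have e1 : d.m h d.w1 d.w = d.m h d.w d.w2' := by
    have := d.m_om h d.w d.w2' d.hw (d.hw2 h)
    rwa [d.om_w2 h] at this
  have e2 : d.m h d.w2' d.w = d.m h d.w d.w1 := by
    have := d.m_om h d.w1 d.w2' (d.hw1 h) (d.hw2 h)
    have e3 := d.m_om h d.w2' d.w (d.hw2 h) d.hw
    rw [d.om_w2 h] at this e3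
    rw [← e3]; rfl
  fin_cases i
  · exact ⟨d.InV_m h d.hw (Or.inl rfl), d.m_InV h d.hw (Or.inl rfl)⟩
  · exact ⟨d.m_ww h, d.m_ww h⟩
  · exact ⟨e1, rfl⟩
  · exact ⟨e2, rfl⟩

theorem four_distinct {α β : G} (hα : α ≠ 1) (hβ : β ≠ 1) (hαz : α ≠ z) (hβz : β ≠ z) (hne : α ≠ β) :
    Function.Injective ![1, z, α, β] := by
  have a1 := h.z_ne_one
  intro i j e
  fin_cases i <;> fin_cases j <;> first | rfl | (exfalso; simp at e; first
    | exact a1 e | exact a1 e.symm | exact hα e | exact hα e.symm | exact hβ e | exact hβ e.symm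
    | exact hαz e | exact hαz e.symm | exact hβz e | exact hβz e.symm | exact hne e | exact hne e.symm)

theorem rep_m_inj : Function.Injective (fun i => d.m h (d.rep i) d.w) ∧
    Function.Injective (fun i => d.m h d.w (d.rep i)) := by
  obtain ⟨n1, n2, n3⟩ := d.m_ne h
  obtain ⟨-, hp, -⟩ := d.m_w1_w2 h
  have z1 : d.m h d.w d.w1 ≠ z := fun e => n2 (by rwa [e, mul_eq_left] at hp)
  have z2 : d.m h d.w d.w2' ≠ z := fun e => n1 (by rwa [e, mul_eq_right] at hp)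
  constructor
  · intro i j e
    refine four_distinct h n2 n1 z2 z1 n3.symm ?_
    rw [← (d.rep_m h i).1, ← (d.rep_m h j).1]; exact e
  · intro i j e
    refine four_distinct h n1 n2 z1 z2 n3 ?_
    rw [← (d.rep_m h i).2, ← (d.rep_m h j).2]; exact e

theorem rep_m_ne {i j : Fin 4} (hi : i ≠ 0) (hj : j ≠ 0) : d.m h (d.rep i) (d.rep j) ≠ 1 := by
  obtain ⟨inj1, inj2⟩ := d.rep_m_inj h
  have base : ∀ k : Fin 4, k ≠ 0 → d.m h d.w (d.rep k) ≠ 1 := fun k hk e =>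
    hk (inj2 (show d.m h d.w (d.rep k) = d.m h d.w (d.rep 0) by
      rw [e]; exact ((d.rep_m h 0).2).symm))
  have shift1 : ∀ y ∈ F.U, d.m h d.w1 (d.om * y * d.om⁻¹) = d.m h d.w y := fun y hy =>
    d.m_om h d.w y d.hw hy
  have shift2 : ∀ y ∈ F.U, d.m h d.w2' (d.om * y * d.om⁻¹) = d.m h d.w1 y := fun y hy =>
    d.m_om h d.w1 y (d.hw1 h) hy
  have one_ : ∀ k : Fin 4, k ≠ 0 → d.m h d.w1 (d.rep k) ≠ 1 := by
    intro k hk
    fin_cases k
    · exact absurd rfl hk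
    · change d.m h d.w1 d.w ≠ 1
      rw [← d.om_w2 h, shift1 _ (d.hw2 h)]; exact base 3 (by decide)
    · change d.m h d.w1 d.w1 ≠ 1
      rw [show d.m h d.w1 d.w1 = d.m h d.w d.w from shift1 _ d.hw]; exact base 1 (by decide)
    · change d.m h d.w1 d.w2' ≠ 1
      rw [show d.m h d.w1 d.w2' = d.m h d.w d.w1 from shift1 _ (d.hw1 h)]; exact base 2 (by decide)
  fin_cases i
  · exact absurd rfl hi
  · exact base j hj
  · exact one_ j hj
  · fin_cases j
    · exact absurd rfl hj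
    · change d.m h d.w2' d.w ≠ 1
      rw [← d.om_w2 h, shift2 _ (d.hw2 h)]; exact one_ 3 (by decide)
    · change d.m h d.w2' d.w1 ≠ 1
      rw [show d.m h d.w2' d.w1 = d.m h d.w1 d.w from shift2 _ d.hw]; exact one_ 1 (by decide)
    · change d.m h d.w2' d.w2' ≠ 1
      rw [show d.m h d.w2' d.w2' = d.m h d.w1 d.w1 from shift2 _ (d.hw1 h)]; exact one_ 2 (by decide)

theorem m_one_iff {x y : G} : d.m h x y = 1 ↔ x * (F.f 3 * y * F.f 3) = (F.f 3 * y * F.f 3) * x := by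
  unfold m
  rw [mul_inv_eq_one, mul_inv_eq_iff_eq_mul]

theorem frep_comm (i j : Fin 4) :
    Commute (F.f 3 * d.rep i * F.f 3) (F.f 3 * d.rep j * F.f 3) := by
  show _ = _
  rw [← F.f_inv h 3] at *
  have key : ∀ a b : G, (F.f 3)⁻¹ * a * (F.f 3)⁻¹ * ((F.f 3)⁻¹ * b * (F.f 3)⁻¹) = (F.f 3)⁻¹ * (a * b) * (F.f 3)⁻¹ := by
    intro a b
    calc (F.f 3)⁻¹ * a * (F.f 3)⁻¹ * ((F.f 3)⁻¹ * b * (F.f 3)⁻¹)
        = (F.f 3)⁻¹ * a * (F.f 3 * F.f 3)⁻¹ * b * (F.f 3)⁻¹ := by group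
      _ = _ := by rw [(F.hf 3).2.1]; group
  rw [key, key, d.rep_comm h]

/-- The decomposition of `U`. -/
theorem decomp {x : G} (hx : x ∈ F.U) :
    ∃ i j k, x = d.rep i * (F.f 3 * d.rep j * F.f 3) * d.vv k := by
  classical
  let g : Fin 4 × Fin 4 × Fin 4 → F.U := fun q =>
    ⟨d.rep q.1 * (F.f 3 * d.rep q.2.1 * F.f 3) * d.vv q.2.2,
      mul_mem (mul_mem (d.rep_mem h _) (F.f_U h 3 (d.rep_mem h _))) (Frame.InV.mem_U h F (d.vv_mem h _))⟩
  have hm1 : ∀ i j k l, (g (i, j, k) : G) * (F.f 3 * d.rep l * F.f 3) * (g (i, j, k) : G)⁻¹ *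
      (F.f 3 * d.rep l * F.f 3)⁻¹ = d.m h (d.rep i) (d.rep l) := by
    intro i j k l
    have c1 : (d.vv k) * (F.f 3 * d.rep l * F.f 3) = (F.f 3 * d.rep l * F.f 3) * d.vv k :=
      (Frame.InV.comm h F (d.vv_mem h k) (F.U_le_H1 (F.f_U h 3 (d.rep_mem h l)))).symm
    have c2 := (d.frep_comm h j l).eq
    show d.rep i * (F.f 3 * d.rep j * F.f 3) * d.vv k * _ * _ * _ = _
    unfold m
    set a := F.f 3 * d.rep l * F.f 3
    set b := F.f 3 * d.rep j * F.f 3
    calc d.rep i * b * d.vv k * a * (d.rep i * b * d.vv k)⁻¹ * a⁻¹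
        = d.rep i * b * (d.vv k * a) * (d.vv k)⁻¹ * b⁻¹ * (d.rep i)⁻¹ * a⁻¹ := by group
      _ = d.rep i * (b * a) * b⁻¹ * (d.rep i)⁻¹ * a⁻¹ := by rw [c1]; group
      _ = _ := by rw [c2]; group
  have hm2 : ∀ i j k l, d.rep l * (g (i, j, k) : G) * (d.rep l)⁻¹ * (g (i, j, k) : G)⁻¹ =
      d.m h (d.rep l) (d.rep j) := by
    intro i j k l
    have c1 := Frame.InV.comm h F (d.vv_mem h k) (F.U_le_H1 (d.rep_mem h l))
    have c2 := d.rep_comm h l i
    have c3 := Frame.InV.comm h F (d.m_mem h (d.rep_mem h l) (d.rep_mem h j)) (F.U_le_H1 (d.rep_mem h i))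
    show d.rep l * (d.rep i * (F.f 3 * d.rep j * F.f 3) * d.vv k) * _ * _ = _
    unfold m at c3 ⊢
    set b := F.f 3 * d.rep j * F.f 3
    calc d.rep l * (d.rep i * b * d.vv k) * (d.rep l)⁻¹ * (d.rep i * b * d.vv k)⁻¹
        = (d.rep l * d.rep i) * b * ((d.rep l)⁻¹ * (d.rep l * d.vv k) * (d.rep l)⁻¹) * (d.vv k)⁻¹ * b⁻¹ * (d.rep i)⁻¹ := by group
      _ = (d.rep i * (d.rep l * b * (d.rep l)⁻¹ * b⁻¹)) * (d.rep i)⁻¹ := by rw [c1, c2]; group
      _ = _ := by rw [c3, mul_inv_cancel_right]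
  have hg : Function.Injective g := by
    rintro ⟨i, j, k⟩ ⟨i', j', k'⟩ e
    obtain rfl : i = i' := (d.rep_m_inj h).1 (by
      have a := hm1 i j k 1
      rw [e, hm1] at a
      exact a.symm)
    obtain rfl : j = j' := (d.rep_m_inj h).2 (by
      have a := hm2 i j k 1
      rw [e, hm2] at a
      exact a.symm)
    obtain rfl : k = k' := d.vv_inj h (mul_left_cancel (congrArg Subtype.val e))
    rfl
  haveI := Fintype.ofFinite F.U
  have hb : Function.Bijective g := (Fintype.bijective_iff_injective_and_card g).mpr ⟨hg, by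
    rw [← Nat.card_eq_fintype_card (α := F.U), F.card_U h]; simp⟩
  obtain ⟨⟨i, j, k⟩, e⟩ := hb.2 ⟨x, hx⟩
  exact ⟨i, j, k, (congrArg Subtype.val e).symm⟩

theorem mem_A_iff {x : G} : x ∈ d.A ↔ ∃ i k, x = d.rep i * d.vv k := by
  constructor
  · intro hx
    obtain ⟨hxU, hxw⟩ := d.mem_A.mp hx
    obtain ⟨i, j, k, rfl⟩ := d.decomp h hxU
    have hj : j = 0 := by
      refine (d.rep_m_inj h).2 ?_
      show d.m h d.w (d.rep j) = d.m h d.w (d.rep 0)
      rw [show d.m h d.w (d.rep 0) = 1 from (d.rep_m h 0).2, d.m_one_iff h]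
      set b := F.f 3 * d.rep j * F.f 3
      have c1 := Frame.InV.comm h F (d.vv_mem h k) (F.U_le_H1 d.hw)
      have c2 : d.rep i * d.w = d.w * d.rep i := d.rep_comm h i 1
      apply mul_left_cancel (a := d.rep i)
      apply mul_right_cancel (b := d.vv k)
      calc d.rep i * (d.w * b) * d.vv k = (d.rep i * d.w) * b * d.vv k := by group
        _ = d.w * (d.rep i * b * d.vv k) := by rw [c2]; group
        _ = d.rep i * b * d.vv k * d.w := hxw.symm
        _ = _ := by rw [mul_assoc _ (d.vv k), ← c1]; group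
    refine ⟨i, k, ?_⟩
    rw [hj, show d.rep 0 = 1 from rfl, mul_one, (F.hf 3).2.1, mul_one]
  · rintro ⟨i, k, rfl⟩
    exact d.mem_A.mpr ⟨mul_mem (d.rep_mem h i) (Frame.InV.mem_U h F (d.vv_mem h k)),
      ((show Commute (d.rep i) d.w from d.rep_comm h i 1).mul_left
        (Frame.InV.comm h F (d.vv_mem h k) (F.U_le_H1 d.hw)).symm).eq⟩

theorem A_sq {x : G} (hx : x ∈ d.A) : x * x = 1 := by
  obtain ⟨i, k, rfl⟩ := (d.mem_A_iff h).mp hx
  have hc := Frame.InV.comm h F (d.vv_mem h k) (F.U_le_H1 (d.rep_mem h i))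
  calc d.rep i * d.vv k * (d.rep i * d.vv k) = d.rep i * d.vv k * (d.vv k * d.rep i) := by rw [← hc]
    _ = d.rep i * (d.vv k * d.vv k) * d.rep i := by group
    _ = 1 := by rw [((F.inV_iff h).mp (d.vv_mem h k)).2, mul_one, d.rep_sq h]

theorem A_comm {x y : G} (hx : x ∈ d.A) (hy : y ∈ d.A) : x * y = y * x := by
  have e := d.A_sq h (mul_mem hx hy)
  calc x * y = (x * y)⁻¹ := (inv_eq_of_mul_eq_one_left e).symm
    _ = y⁻¹ * x⁻¹ := mul_inv_rev x y
    _ = _ := by rw [inv_eq_of_mul_eq_one_left (d.A_sq h hx), inv_eq_of_mul_eq_one_left (d.A_sq h hy)]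

theorem card_A : Nat.card d.A = 16 := by
  classical
  let g : Fin 4 × Fin 4 → d.A := fun q => ⟨d.rep q.1 * d.vv q.2, (d.mem_A_iff h).mpr ⟨_, _, rfl⟩⟩
  have hg : Function.Bijective g := by
    constructor
    · rintro ⟨i, k⟩ ⟨i', k'⟩ e
      have e' : d.rep i * d.vv k = d.rep i' * d.vv k' := congrArg Subtype.val e
      obtain rfl : i = i' := (d.rep_m_inj h).1 (by
        show d.m h (d.rep i) d.w = d.m h (d.rep i') d.w
        have key : ∀ i k, d.m h (d.rep i) d.w = d.rep i * d.vv k * (F.f 3 * d.w * F.f 3) *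
            (d.rep i * d.vv k)⁻¹ * (F.f 3 * d.w * F.f 3)⁻¹ := by
          intro i k
          unfold m
          rw [mul_assoc _ (d.vv k) (F.f 3 * d.w * F.f 3),
            ← Frame.InV.comm h F (d.vv_mem h k) (F.U_le_H1 (F.f_U h 3 d.hw))]
          group
        rw [key i k, key i' k', e'])
      obtain rfl : k = k' := d.vv_inj h (mul_left_cancel e')
      rfl
    · rintro ⟨x, hx⟩
      obtain ⟨i, k, rfl⟩ := (d.mem_A_iff h).mp hx
      exact ⟨(i, k), rfl⟩
  rw [← Nat.card_eq_of_bijective g hg]; simp [Nat.card_eq_fintype_card]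

/-- An element of `U` centralising an element of `A` outside the four-group lies in `A`. -/
theorem cen_le {a x : G} (ha : a ∈ d.A) (haV : ¬ F.InV a) (hx : x ∈ F.U) (e : x * a = a * x) :
    x ∈ d.A := by
  obtain ⟨i, k, rfl⟩ := (d.mem_A_iff h).mp ha
  obtain ⟨i', j, k', rfl⟩ := d.decomp h hx
  have hj : j = 0 := by
    by_contra hj
    have hi : i ≠ 0 := fun e' => haV (by
      rw [e', show d.rep 0 = 1 from rfl, one_mul]; exact d.vv_mem h k)
    refine d.rep_m_ne h hi hj ((d.m_one_iff h).mpr ?_)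
    set b := F.f 3 * d.rep j * F.f 3 with hb0
    have hb : b ∈ F.H1 := F.U_le_H1 (F.f_U h 3 (d.rep_mem h j))
    have c1 := Frame.InV.comm h F (d.vv_mem h k)
      (mul_mem (mul_mem (F.U_le_H1 (d.rep_mem h i')) hb) (F.U_le_H1 (Frame.InV.mem_U h F (d.vv_mem h k'))))
    have c2 := Frame.InV.comm h F (d.vv_mem h k') (F.U_le_H1 (d.rep_mem h i))
    have c3 : d.rep i * d.rep i' = d.rep i' * d.rep i := d.rep_comm h i i'
    apply mul_left_cancel (a := d.rep i')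
    apply mul_right_cancel (b := d.vv k')
    apply mul_right_cancel (b := d.vv k)
    calc d.rep i' * (d.rep i * b) * d.vv k' * d.vv k
        = d.rep i * (d.rep i' * b * d.vv k' * d.vv k) := by rw [← mul_assoc, ← c3]; group
      _ = d.rep i * d.vv k * (d.rep i' * b * d.vv k') := by rw [c1]; group
      _ = d.rep i' * b * d.vv k' * (d.rep i * d.vv k) := e.symm
      _ = _ := by rw [← mul_assoc, mul_assoc _ (d.vv k'), ← c2]; group
  rw [hj, show d.rep 0 = 1 from rfl, mul_one, (F.hf 3).2.1, mul_one]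
  exact (d.mem_A_iff h).mpr ⟨i', k', rfl⟩

/-- All involutions of `U` lie in `A` or in `A` conjugated. -/
theorem invol {x : G} (hx : x ∈ F.U) (h2 : x * x = 1) : x ∈ d.A ∨ F.f 3 * x * F.f 3 ∈ d.A := by
  obtain ⟨i, j, k, rfl⟩ := d.decomp h hx
  by_cases hj : j = 0
  · left
    rw [hj, show d.rep 0 = 1 from rfl, mul_one, (F.hf 3).2.1, mul_one]
    exact (d.mem_A_iff h).mpr ⟨i, k, rfl⟩
  by_cases hi : i = 0
  · right
    rw [hi, show d.rep 0 = 1 from rfl, one_mul]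
    have hv : F.InV (F.f 3 * d.vv k * F.f 3) := by
      have := Frame.InV.conj h F (d.vv_mem h k) (F.f_z h 3)
      rwa [F.f_inv h] at this
    rw [show F.f 3 * (F.f 3 * d.rep j * F.f 3 * d.vv k) * F.f 3 =
      (F.f 3 * F.f 3) * d.rep j * (F.f 3 * d.vv k * F.f 3) by group, (F.hf 3).2.1, one_mul]
    exact mul_mem ((d.mem_A_iff h).mpr ⟨j, 0, (mul_one _).symm⟩) (d.InV_mem_A h hv)
  exfalso
  refine d.rep_m_ne h hi hj ((d.m_one_iff h).mpr ?_)
  set b := F.f 3 * d.rep j * F.f 3 with hb'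
  have hb : b ∈ F.U := F.f_U h 3 (d.rep_mem h j)
  have c1 := Frame.InV.comm h F (d.vv_mem h k) (F.U_le_H1 (mul_mem (d.rep_mem h i) hb))
  have hv2 := ((F.inV_iff h).mp (d.vv_mem h k)).2
  have hb2 : b * b = 1 := by
    calc b * b = F.f 3 * d.rep j * (F.f 3 * F.f 3) * d.rep j * F.f 3 := by rw [hb']; group
      _ = F.f 3 * (d.rep j * d.rep j) * F.f 3 := by rw [(F.hf 3).2.1]; group
      _ = 1 := by rw [d.rep_sq h, mul_one, (F.hf 3).2.1]
  have h3 : (d.rep i * b) * (d.rep i * b) = 1 := by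
    calc (d.rep i * b) * (d.rep i * b) = (d.rep i * b) * (d.rep i * b) * (d.vv k * d.vv k) := by
          rw [hv2, mul_one]
      _ = (d.rep i * b) * ((d.rep i * b) * d.vv k) * d.vv k := by group
      _ = (d.rep i * b) * (d.vv k * (d.rep i * b)) * d.vv k := by rw [← c1]
      _ = d.rep i * b * d.vv k * (d.rep i * b * d.vv k) := by group
      _ = 1 := h2
  calc d.rep i * b = (d.rep i * b)⁻¹ := (inv_eq_of_mul_eq_one_left h3).symm
    _ = b⁻¹ * (d.rep i)⁻¹ := mul_inv_rev _ _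
    _ = _ := by rw [inv_eq_of_mul_eq_one_left hb2, inv_eq_of_mul_eq_one_left (d.rep_sq h i)]

theorem conj_A_inter {x : G} (hx : x ∈ d.A) (hx' : F.f 3 * x * F.f 3 ∈ d.A) : F.InV x := by
  by_contra hV
  obtain ⟨i, k, rfl⟩ := (d.mem_A_iff h).mp hx
  have hi : i ≠ 0 := fun e' => hV (by rw [e', show d.rep 0 = 1 from rfl, one_mul]; exact d.vv_mem h k)
  have hv : F.InV (F.f 3 * d.vv k * F.f 3) := by
    have := Frame.InV.conj h F (d.vv_mem h k) (F.f_z h 3)
    rwa [F.f_inv h] at this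
  have : F.f 3 * d.rep i * F.f 3 ∈ d.A := by
    have e : F.f 3 * (d.rep i * d.vv k) * F.f 3 = (F.f 3 * d.rep i * F.f 3) * (F.f 3 * d.vv k * F.f 3) := by
      calc F.f 3 * (d.rep i * d.vv k) * F.f 3 = F.f 3 * d.rep i * (F.f 3 * F.f 3) * d.vv k * F.f 3 := by
            rw [(F.hf 3).2.1]; group
        _ = _ := by group
    rw [e] at hx'
    exact (mul_mem_cancel_right (d.InV_mem_A h hv)).mp hx'
  have hw := (d.mem_A.mp this).2
  exact d.rep_m_ne h (i := 1) one_ne_zero hi ((d.m_one_iff h).mpr hw.symm)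

theorem om_A {x : G} (hx : x ∈ d.A) : d.om * x * d.om⁻¹ ∈ d.A := by
  obtain ⟨i, k, rfl⟩ := (d.mem_A_iff h).mp hx
  rw [← conj_mul, d.om_InV h (d.vv_mem h k)]
  refine mul_mem ?_ (d.InV_mem_A h (d.vv_mem h k))
  fin_cases i
  · simp [rep]
  · exact d.w1_mem_A h
  · exact d.w2_mem_A h
  · simp [rep, d.om_w2 h]
    exact d.mem_A.mpr ⟨d.hw, rfl⟩

theorem U_A {u x : G} (hu : u ∈ F.U) (hx : x ∈ d.A) : u * x * u⁻¹ ∈ d.A := by
  have hm := mul_mem (d.InV_mem_A h (F.comm_U h hu (d.mem_A.mp hx).1)) hx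
  rwa [show u * x * u⁻¹ * x⁻¹ * x = u * x * u⁻¹ by group] at hm

/-- No element of `C(z) ∩ C(e)` inducing an odd permutation centralises `w`. -/
theorem no_odd {s : G} (hs : s ∈ F.H1) (hodd : Perm.sign (F.π s) = -1) (hsw : s * d.w = d.w * s) :
    False := by
  obtain ⟨hsz, hse⟩ := F.mem_H1.mp hs
  obtain ⟨-, -, -, hτ, -⟩ := dbl_facts _ (d.π_w h) (d.π_ne h)
  have hτ' := hτ (F.π s) (by
    rw [mul_inv_eq_iff_eq_mul, ← F.π_mul _ _ hsz (d.w_z h), hsw, F.π_mul _ _ (d.w_z h) hsz]) hodd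
  rw [← d.π_w2 h, ← d.π_w1 h, ← F.π_conj h hsz (F.mem_H1.mp (F.U_le_H1 (d.hw1 h))).1] at hτ'
  have hsw1 : s * d.w1 * s⁻¹ ∈ d.A := by
    refine d.mem_A.mpr ⟨F.conj_U h hsz (d.hw1 h), ?_⟩
    have := congrArg (fun x => s * x * s⁻¹) (d.w_w1 h)
    simp only [← conj_mul] at this
    rwa [show s * d.w * s⁻¹ = d.w by rw [hsw, mul_inv_cancel_right], eq_comm] at this
  set y := s * d.w1 * s⁻¹ with hy
  have hyU := (d.mem_A.mp hsw1).1
  have hyw : F.InV (d.w2' * y) := by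
    refine (F.inV_iff h).mpr ⟨?_, d.A_sq h (mul_mem (d.w2_mem_A h) hsw1)⟩
    have hm := mul_mem (d.hw2 h) hyU
    refine F.U_fix h hm (i := 0) ?_
    rw [F.π_mul _ _ (F.mem_H1.mp (F.U_le_H1 (d.hw2 h))).1 (F.mem_H1.mp (F.U_le_H1 hyU)).1, hτ']
    have : ∀ σ : Perm (Fin 4), Dbl σ → (σ * σ) 0 = 0 := by decide +kernel
    exact this _ (F.mem_U.mp (d.hw2 h)).2
  set c := F.f 3 * (s * F.f 3 * s⁻¹) with hc
  have hcU : c ∈ F.U := F.E4_le_U h (F.mem_E4.mpr ⟨mul_mem (F.hf 3).1 (h.norm s hsz _ (F.hf 3).1),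
    h.comm_mul (F.hf 3).1 (F.hef 3) (h.noncomm (h.norm s hsz _ (F.hf 3).1) F.he.1 fun e => by
      refine h.ne_comm (F.hef 3) ?_
      have e' : s⁻¹ * (s * F.f 3 * s⁻¹ * F.e) * s = s⁻¹ * (F.e * (s * F.f 3 * s⁻¹)) * s := by rw [e]
      rwa [show s⁻¹ * (s * F.f 3 * s⁻¹ * F.e) * s = F.f 3 * (s⁻¹ * (F.e * s)) by group,
        show s⁻¹ * (F.e * (s * F.f 3 * s⁻¹)) * s = s⁻¹ * (F.e * s) * F.f 3 by group, ← hse,
        inv_mul_cancel_left] at e')⟩)
  have hsf : s * F.f 3 * s⁻¹ = F.f 3 * c := by rw [hc, ← mul_assoc, (F.hf 3).2.1, one_mul]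
  have hm := d.m_mem h d.hw (d.hw1 h)
  have e1 : d.m h d.w d.w1 = d.m h d.w d.w2' := by
    have hinv : (F.f 3)⁻¹ = F.f 3 := F.f_inv h 3
    have hsf' : s * F.f 3 * s⁻¹ = c⁻¹ * F.f 3 := by
      rw [← inv_inv (s * F.f 3 * s⁻¹), conj_inv, hinv, hsf, mul_inv_rev, hinv]
    have eY : s * (F.f 3 * d.w1 * F.f 3) * s⁻¹ = F.f 3 * (c * y * c⁻¹) * F.f 3 := by
      rw [← conj_mul, ← conj_mul, ← hy]
      nth_rw 1 [hsf]
      rw [hsf']
      group
    have hyy : c * y * c⁻¹ = d.w2' * ((d.w2' * y) * (c * y * c⁻¹ * y⁻¹)) := by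
      have hcy := Frame.InV.comm h F (F.comm_U h hcU hyU) (F.U_le_H1 hyU)
      calc c * y * c⁻¹ = (c * y * c⁻¹ * y⁻¹) * y := by group
        _ = y * (c * y * c⁻¹ * y⁻¹) := hcy.symm
        _ = (d.w2' * d.w2') * y * (c * y * c⁻¹ * y⁻¹) := by rw [d.w2_sq h, one_mul]
        _ = _ := by group
    have hv := Frame.InV.mul h F hyw (F.comm_U h hcU hyU)
    calc d.m h d.w d.w1 = s * d.m h d.w d.w1 * s⁻¹ := by
          rw [Frame.InV.comm h F hm hs, mul_inv_cancel_right]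
      _ = d.m h d.w (c * y * c⁻¹) := by
          unfold m
          rw [← conj_mul, ← conj_mul, ← conj_mul, ← conj_inv, ← conj_inv, eY,
            show s * d.w * s⁻¹ = d.w by rw [hsw, mul_inv_cancel_right]]
      _ = _ := by
          rw [hyy, d.m_mul h d.hw (d.hw2 h) (Frame.InV.mem_U h F hv), d.m_InV h d.hw hv, mul_one]
  exact (d.m_ne h).2.2 e1

end Cfsg.Agent.H55.Quat.WData
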