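import Cfsg.Agent.H55.Quat.Frame
import Mathlib.GroupTheory.SpecificGroups.Alternating
import Mathlib.GroupTheory.Index

/-!
The subgroups `E4 = C_E(e)`, `U` and `D` of `H = C(z)`.
-/

set_option autoImplicit false
set_option linter.unusedSectionVars false
set_option linter.unusedVariables false

namespace Cfsg.Agent.H55.Quat

open Subgroup Equiv

/-- The normal four-group of the symmetric group of degree four, as a predicate. -/
def Dbl (σ : Perm (Fin 4)) : Prop := σ = 1 ∨ (σ * σ = 1 ∧ ∀ i, σ i ≠ i)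

instance (σ : Perm (Fin 4)) : Decidable (Dbl σ) := by unfold Dbl; infer_instance

theorem dbl_mul : ∀ σ τ : Perm (Fin 4), Dbl σ → Dbl τ → Dbl (σ * τ) := by decide +kernel
theorem dbl_inv : ∀ σ : Perm (Fin 4), Dbl σ → Dbl σ⁻¹ := by decide +kernel
theorem dbl_conj : ∀ c σ : Perm (Fin 4), Dbl σ → Dbl (c * σ * c⁻¹) := by decide +kernel
theorem dbl_even : ∀ σ : Perm (Fin 4), Dbl σ → Perm.sign σ = 1 := by decide +kernel

/-- The normal four-group of the symmetric group of degree four. -/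
def V4 : Subgroup (Perm (Fin 4)) where
  carrier := {σ | Dbl σ}
  one_mem' := Or.inl rfl
  mul_mem' := fun ha hb => dbl_mul _ _ ha hb
  inv_mem' := fun ha => dbl_inv _ ha

theorem card_V4 : Nat.card V4 = 4 := by
  show Nat.card {σ : Perm (Fin 4) // Dbl σ} = 4
  rw [Nat.card_eq_fintype_card]; decide +kernel

theorem flip_const : ∀ σ τ : Perm (Fin 4), Dbl σ → Dbl τ → ∀ a b : Fin 4 → Bool,
    xor (xor (a 0) (a 1)) (xor (a 2) (a 3)) = false → xor (xor (b 0) (b 1)) (xor (b 2) (b 3)) = false →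
    ∀ i, xor (xor (a i) (a (τ i))) (xor (b i) (b (σ i))) =
      xor (xor (a 0) (a (τ 0))) (xor (b 0) (b (σ 0))) := by
  decide +kernel

theorem flip_three : ∀ b : Fin 4 → Bool, ∀ t : Bool, b 1 = xor (b 0) t → b 2 = xor (b 1) t →
    b 0 = xor (b 2) t → xor (xor (b 0) (b 1)) (xor (b 2) (b 3)) = false → ∀ i, b i = b 0 := by
  decide +kernel

/-- The three-cycle used for the element of order three. -/
def cyc : Perm (Fin 4) := swap 0 1 * swap 1 2

theorem cyc_facts : cyc 0 = 1 ∧ cyc 1 = 2 ∧ cyc 2 = 0 ∧ cyc 3 = 3 ∧ cyc ^ 3 = 1 ∧ cyc ^ 4 = cyc ∧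
    cyc ≠ 1 ∧ Perm.sign cyc = 1 ∧ (∀ σ, Dbl σ → cyc * σ * cyc⁻¹ = σ → σ = 1) ∧
    (∀ σ, Dbl σ → ∃ τ, Dbl τ ∧ cyc * τ * cyc⁻¹ * τ⁻¹ = σ) ∧
    (∀ σ, Perm.sign σ = 1 → Dbl σ ∨ Dbl (σ * cyc) ∨ Dbl (σ * (cyc * cyc))) := by
  decide +kernel

theorem perm_move : ∀ a b : Fin 4, ∃ σ : Perm (Fin 4), σ a = b := fun a b => ⟨swap a b, swap_apply_left a b⟩

variable {G : Type*} [Group G] [Finite G] {z : G} {E : Subgroup G}

/-- `z` to a Boolean power. -/
def zb (z : G) (t : Bool) : G := if t then z else 1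

theorem sim_iff {x y : G} : Sim z x y ↔ ∃ t, y = x * zb z t := by
  constructor
  · rintro (e | e)
    · exact ⟨false, by simp [zb, e]⟩
    · exact ⟨true, by simp [zb, e]⟩
  · rintro ⟨t, e⟩
    cases t
    · exact Or.inl (by simpa [zb] using e)
    · exact Or.inr (by simpa [zb] using e)

namespace Setup

variable (h : Setup z E)

include h

theorem zb_mem (t : Bool) : zb z t ∈ E := by
  unfold zb; split_ifs <;> [exact h.zE; exact one_mem _]

theorem zb_comm {c : G} (hc : c * z = z * c) (t : Bool) : c * zb z t = zb z t * c := by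
  unfold zb; split_ifs <;> simp [hc]

theorem zb_mul (s t : Bool) : zb z s * zb z t = zb z (xor s t) := by
  cases s <;> cases t <;> simp [zb, h.zz]

theorem zb_inj {s t : Bool} (e : zb z s = zb z t) : s = t := by
  cases s <;> cases t <;> simp [zb] at e ⊢
  · exact h.z_ne_one e.symm
  · exact h.z_ne_one e

end Setup

variable (h : Setup z E) (F : Frame z E)

namespace Frame

/-- `C(z) ∩ C(e)`. -/
def H1 : Subgroup G := centralizer ({z} : Set G) ⊓ centralizer ({F.e} : Set G)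

/-- `C_E(e)`. -/
def E4 : Subgroup G := E ⊓ centralizer ({F.e} : Set G)

theorem mem_H1 {x : G} : x ∈ F.H1 ↔ x * z = z * x ∧ x * F.e = F.e * x := by
  simp [H1, mem_inf, mem_centralizer_singleton_iff]

theorem mem_E4 {x : G} : x ∈ F.E4 ↔ x ∈ E ∧ x * F.e = F.e * x := by
  simp [E4, mem_inf, mem_centralizer_singleton_iff]

/-- The action of `C(z) ∩ C(e)` on the four pairs. -/
def πH1 : ↥F.H1 →* Perm (Fin 4) :=
  MonoidHom.mk' (fun x => F.π x) fun a b => F.π_mul a b (F.mem_H1.mp a.2).1 (F.mem_H1.mp b.2).1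

/-- The group of order 64. -/
def U : Subgroup G := (V4.comap F.πH1).map F.H1.subtype

/-- The group of order 192. -/
def D : Subgroup G := ((alternatingGroup (Fin 4)).comap F.πH1).map F.H1.subtype

theorem mem_U {x : G} : x ∈ F.U ↔ x ∈ F.H1 ∧ Dbl (F.π x) := by
  constructor
  · rintro ⟨y, hy, rfl⟩; exact ⟨y.2, hy⟩
  · rintro ⟨h1, h2⟩; exact ⟨⟨x, h1⟩, h2, rfl⟩

theorem mem_D {x : G} : x ∈ F.D ↔ x ∈ F.H1 ∧ Perm.sign (F.π x) = 1 := by
  constructor
  · rintro ⟨y, hy, rfl⟩; exact ⟨y.2, Perm.mem_alternatingGroup.mp hy⟩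
  · rintro ⟨h1, h2⟩; exact ⟨⟨x, h1⟩, Perm.mem_alternatingGroup.mpr h2, rfl⟩

theorem U_le_D : F.U ≤ F.D := fun x hx =>
  F.mem_D.mpr ⟨(F.mem_U.mp hx).1, dbl_even _ (F.mem_U.mp hx).2⟩

theorem D_le_H1 : F.D ≤ F.H1 := fun x hx => (F.mem_D.mp hx).1

theorem U_le_H1 : F.U ≤ F.H1 := F.U_le_D.trans F.D_le_H1

theorem π_pow {c : G} (hc : c * z = z * c) : ∀ n : ℕ, F.π (c ^ n) = F.π c ^ n
  | 0 => by
    have := F.π_mul 1 1 (by simp) (by simp)
    simp only [mul_one] at this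
    rw [pow_zero, pow_zero]
    exact mul_eq_left.mp this.symm
  | n + 1 => by
    rw [pow_succ, pow_succ, F.π_mul _ _ ((show Commute c z from hc).pow_left n).eq hc, π_pow hc n]

theorem π_onev : F.π 1 = 1 := by
  have := F.π_pow (c := (1 : G)) (by simp) 0
  simpa using this

theorem π_inv {c : G} (hc : c * z = z * c) : F.π c⁻¹ = (F.π c)⁻¹ := by
  refine eq_inv_of_mul_eq_one_left ?_
  rw [← F.π_mul _ _ (show Commute c z from hc).inv_left.eq hc, inv_mul_cancel, F.π_onev]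

include h

theorem π_E {q : G} (hq : q ∈ E) : F.π q = 1 := (F.π_one q (h.cz q hq)).mpr hq

theorem e_z : F.e * z = z * F.e := h.cz _ F.he.1

theorem f_z (i : Fin 4) : F.f i * z = z * F.f i := h.cz _ (F.hf i).1

theorem e_inv : F.e⁻¹ = F.e := inv_eq_of_mul_eq_one_left F.he.2.1

theorem f_inv (i : Fin 4) : (F.f i)⁻¹ = F.f i := inv_eq_of_mul_eq_one_left (F.hf i).2.1

theorem e_ne_ez : F.e ≠ F.e * z := (h.mulz_ne _).symm

theorem f_conj_e (i : Fin 4) : F.f i * F.e * (F.f i)⁻¹ = F.e * z :=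
  h.conj_noncomm F.he.1 (F.hef i)

theorem f_notMem_H1 (i : Fin 4) : F.f i ∉ F.H1 := fun e =>
  h.ne_comm (F.hef i) (F.mem_H1.mp e).2

theorem e_conj_f (i : Fin 4) : F.e * F.f i * F.e⁻¹ = F.f i * z :=
  h.conj_noncomm (F.hf i).1 (h.noncomm_symm (F.hef i))

/-- The form of the elements of `E` outside `C(e)`. -/
theorem out {x : G} (hx : x ∈ E) (hxe : x * F.e ≠ F.e * x) :
    ∃ i, ∃ b : Bool, Sim z (if b then F.f i * F.e else F.f i) x := by
  rcases h.inv_or F.he hx (h.noncomm hx F.he.1 hxe) with ⟨hs, -⟩ | ⟨-, hs⟩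
  · rcases F.sing x hs with e | ⟨i, e⟩
    · exact absurd (h.comm_sim hx F.he.1 e rfl).symm hxe
    · exact ⟨i, false, by simpa using e⟩
  · rcases F.sing _ hs with e | ⟨i, e⟩
    · refine absurd ?_ hxe
      have h1 := (h.comm_sim hs.1 F.he.1 e rfl).symm
      calc x * F.e = x * F.e * (F.e * F.e) := by rw [F.he.2.1, mul_one]
        _ = x * F.e * F.e * F.e := by group
        _ = F.e * (x * F.e) * F.e := by rw [h1]
        _ = F.e * x := by rw [mul_assoc, mul_assoc x, F.he.2.1, mul_one]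
    · refine ⟨i, true, ?_⟩
      simp only [if_true]
      have hx' : x = x * F.e * F.e := by rw [mul_assoc, F.he.2.1, mul_one]
      rcases e with e | e
      · exact Or.inl (by rw [hx', e])
      · exact Or.inr (by rw [hx', e, mul_assoc, ← F.e_z h, mul_assoc])

/-- Anything commuting with `e` and all `f i` commutes with `E`. -/
theorem gen_comm {c : G} (hc : c * z = z * c) (hce : c * F.e = F.e * c)
    (hcf : ∀ i, c * F.f i = F.f i * c) {q : G} (hq : q ∈ E) : q * c = c * q := by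
  have key : ∀ x ∈ E, x * F.e ≠ F.e * x → Commute x c := by
    intro x hx hxe
    obtain ⟨i, b, e⟩ := F.out h hx hxe
    obtain ⟨t, rfl⟩ := sim_iff.mp e
    refine Commute.mul_left ?_ (h.zb_comm hc t).symm
    cases b
    · simpa using (show Commute c (F.f i) from hcf i).symm
    · simpa using ((show Commute c (F.f i) from hcf i).mul_right hce).symm
  by_cases hqe : q * F.e = F.e * q
  · have h1 : (F.f 0 * q) * F.e ≠ F.e * (F.f 0 * q) := by
      intro e
      refine h.ne_comm (F.hef 0) ?_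
      calc F.f 0 * F.e = F.f 0 * q * F.e * q⁻¹ := by rw [mul_assoc (F.f 0), hqe]; group
        _ = F.e * (F.f 0 * q) * q⁻¹ := by rw [e]
        _ = _ := by group
    have := (show Commute (F.f 0) c from (hcf 0).symm).inv_left.mul_left
      (key _ (mul_mem (F.hf 0).1 hq) h1)
    rwa [inv_mul_cancel_left] at this
  · exact key q hq hqe

/-- The sign of the action of `c` on the `i`-th representative. -/
noncomputable def fl (c : G) (i : Fin 4) : Bool := by
  classical exact decide (¬ c * F.f i * c⁻¹ = F.f (F.π c i))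

theorem fl_spec {c : G} (hc : c * z = z * c) (i : Fin 4) :
    c * F.f i * c⁻¹ = F.f (F.π c i) * zb z (F.fl c i) := by
  classical
  unfold fl
  by_cases e : c * F.f i * c⁻¹ = F.f (F.π c i)
  · simp [e, zb]
  · simpa [e, zb] using (F.conj_f c hc i).resolve_left e

theorem fl_eq {c : G} (hc : c * z = z * c) {i : Fin 4} {t : Bool}
    (e : c * F.f i * c⁻¹ = F.f (F.π c i) * zb z t) : F.fl c i = t := by
  rw [F.fl_spec h hc i] at e
  exact h.zb_inj (mul_left_cancel e)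

theorem fl_mul {c d : G} (hc : c * z = z * c) (hd : d * z = z * d) (i : Fin 4) :
    F.fl (c * d) i = xor (F.fl d i) (F.fl c (F.π d i)) := by
  refine F.fl_eq h ((show Commute c z from hc).mul_left hd).eq ?_
  rw [F.π_mul c d hc hd, Perm.mul_apply,
    show c * d * F.f i * (c * d)⁻¹ = c * (d * F.f i * d⁻¹) * c⁻¹ by group, F.fl_spec h hd i,
    show c * (F.f (F.π d i) * zb z (F.fl d i)) * c⁻¹
      = (c * F.f (F.π d i) * c⁻¹) * (c * zb z (F.fl d i) * c⁻¹) by group,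
    F.fl_spec h hc, h.zb_comm hc, mul_inv_cancel_right, mul_assoc, h.zb_mul, Bool.xor_comm]

theorem fl_f (j i : Fin 4) : F.fl (F.f j) i = decide (i ≠ j) := by
  refine F.fl_eq h (F.f_z h j) ?_
  rw [F.π_E h (F.hf j).1, Perm.one_apply]
  by_cases e : i = j
  · subst e; simp [zb]
  · simp [zb, e, h.conj_noncomm (F.hf i).1 (F.hff j i (Ne.symm e))]

theorem fl_e (i : Fin 4) : F.fl F.e i = true := by
  refine F.fl_eq h (F.e_z h) ?_
  rw [F.π_E h F.he.1, Perm.one_apply]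
  simpa [zb] using F.e_conj_f h i

theorem comm_of_fl {c : G} (hc : c * z = z * c) {i : Fin 4} (hp : F.π c i = i)
    (hf : F.fl c i = false) : c * F.f i = F.f i * c := by
  have := F.fl_spec h hc i
  rw [hp, hf] at this
  exact mul_inv_eq_iff_eq_mul.mp (by simpa [zb] using this)

/-- An element of `E` commuting with `e` and flipping all four pairs alike. -/
theorem mem_four {q : G} (hq : q ∈ E) (hqe : q * F.e = F.e * q)
    (hfl : ∀ i, F.fl q i = F.fl q 0) : q = 1 ∨ q = z ∨ q = F.e ∨ q = F.e * z := by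
  have hqz := h.cz q hq
  have hez := F.e_z h
  cases h0 : F.fl q 0
  · rcases h.cQ q hqz (fun y hy => F.gen_comm h hqz hqe
      (fun i => F.comm_of_fl h hqz (by rw [F.π_E h hq, Perm.one_apply]) (by rw [hfl, h0])) hy) with e | e
    · exact Or.inl e
    · exact Or.inr (Or.inl e)
  · have hq' : q * F.e ∈ E := mul_mem hq F.he.1
    have hqz' := h.cz _ hq'
    rcases h.cQ (q * F.e) hqz' (fun y hy => F.gen_comm h hqz'
      (by rw [← mul_assoc, ← hqe])
      (fun i => F.comm_of_fl h hqz' (by rw [F.π_E h hq', Perm.one_apply])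
        (by rw [F.fl_mul h hqz hez, F.fl_e h, F.π_E h F.he.1, Perm.one_apply, hfl, h0]; rfl)) hy) with e | e
    · exact Or.inr (Or.inr (Or.inl (by rw [eq_inv_of_mul_eq_one_left e, F.e_inv h])))
    · refine Or.inr (Or.inr (Or.inr ?_))
      rw [eq_mul_inv_of_mul_eq e, F.e_inv h, hez]

/-- The product of the four representatives. -/
theorem five : Sim z F.e (F.f 0 * F.f 1 * F.f 2 * F.f 3) := by
  set y := F.f 0 * F.f 1 * F.f 2 * F.f 3 with hy
  have hyE : y ∈ E := mul_mem (mul_mem (mul_mem (F.hf 0).1 (F.hf 1).1) (F.hf 2).1) (F.hf 3).1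
  have hce : ∀ {u v : G}, u * F.e = z * (F.e * u) → v * F.e = z * (F.e * v) → u ∈ E →
      (u * v) * F.e = F.e * (u * v) := fun e1 e2 hu => h.comm_mul hu e1 e2
  have hye : y * F.e = F.e * y := by
    rw [hy, mul_assoc (F.f 0 * F.f 1)]
    exact ((show Commute (F.f 0 * F.f 1) F.e from hce (F.hef 0) (F.hef 1) (F.hf 0).1).mul_left
      (hce (F.hef 2) (F.hef 3) (F.hf 2).1)).eq
  have hfl : ∀ i, F.fl y i = true := by
    intro i
    rw [hy, F.fl_mul h (h.cz _ (mul_mem (mul_mem (F.hf 0).1 (F.hf 1).1) (F.hf 2).1)) (F.f_z h 3),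
      F.π_E h (F.hf 3).1, Perm.one_apply,
      F.fl_mul h (h.cz _ (mul_mem (F.hf 0).1 (F.hf 1).1)) (F.f_z h 2), F.π_E h (F.hf 2).1,
      Perm.one_apply, F.fl_mul h (F.f_z h 0) (F.f_z h 1), F.π_E h (F.hf 1).1, Perm.one_apply,
      F.fl_f h, F.fl_f h, F.fl_f h, F.fl_f h]
    fin_cases i <;> rfl
  rcases F.mem_four h hyE hye (fun i => by rw [hfl, hfl]) with e | e | e | e
  · exact absurd (hfl 0) (by rw [e]; rw [F.fl_eq h (c := 1) (t := false) (by simp) (by
      rw [F.π_onev]; simp [zb])]; simp)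
  · exact absurd (hfl 0) (by rw [e]; rw [F.fl_eq h (c := z) (t := false) rfl (by
      rw [F.π_E h h.zE, Perm.one_apply, ← F.f_z h 0, mul_inv_cancel_right]; simp [zb])]; simp)
  · exact Or.inl e
  · exact Or.inr e

theorem conj_five {c : G} (hc : c ∈ F.H1) :
    c * (F.f 0 * F.f 1 * F.f 2 * F.f 3) * c⁻¹ = F.f 0 * F.f 1 * F.f 2 * F.f 3 := by
  obtain ⟨hcz, hce⟩ := F.mem_H1.mp hc
  obtain ⟨t, e⟩ := sim_iff.mp (F.five h)
  rw [e, mul_inv_eq_iff_eq_mul, ← mul_assoc, hce, mul_assoc, h.zb_comm hcz, ← mul_assoc]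

theorem swap_pair {a b : Fin 4} (hab : a ≠ b) : F.f a * F.f b = z * (F.f b * F.f a) := F.hff a b hab

theorem reorder {σ : Perm (Fin 4)} (hσ : Dbl σ) :
    F.f (σ 0) * F.f (σ 1) * F.f (σ 2) * F.f (σ 3) = F.f 0 * F.f 1 * F.f 2 * F.f 3 := by
  have hcases : ∀ σ : Perm (Fin 4), Dbl σ → (σ 0 = 0 ∧ σ 1 = 1 ∧ σ 2 = 2 ∧ σ 3 = 3) ∨
      (σ 0 = 1 ∧ σ 1 = 0 ∧ σ 2 = 3 ∧ σ 3 = 2) ∨ (σ 0 = 2 ∧ σ 1 = 3 ∧ σ 2 = 0 ∧ σ 3 = 1) ∨
      (σ 0 = 3 ∧ σ 1 = 2 ∧ σ 2 = 1 ∧ σ 3 = 0) := by decide +kernel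
  have key : ∀ {a b c d : Fin 4}, a ≠ b → c ≠ d →
      F.f b * F.f a * F.f d * F.f c = F.f a * F.f b * F.f c * F.f d := by
    intro a b c d hab hcd
    have hm : F.f b * F.f a ∈ E := mul_mem (F.hf b).1 (F.hf a).1
    rw [F.hff a b hab, mul_assoc (z * _) (F.f c) (F.f d), F.hff c d hcd,
      show z * (F.f b * F.f a) * (z * (F.f d * F.f c)) =
        z * ((F.f b * F.f a) * z) * (F.f d * F.f c) by group, h.cz _ hm, h.zmulz]
    group
  have pair : F.f 2 * F.f 3 * F.f 0 * F.f 1 = F.f 0 * F.f 1 * F.f 2 * F.f 3 := by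
    have c1 : ∀ j : Fin 4, j ≠ 0 → j ≠ 1 → (F.f 0 * F.f 1) * F.f j = F.f j * (F.f 0 * F.f 1) :=
      fun j h0 h1 => h.comm_mul (F.hf 0).1 (F.hff 0 j h0.symm) (F.hff 1 j h1.symm)
    have := ((show Commute (F.f 0 * F.f 1) (F.f 2) from c1 2 (by decide) (by decide)).mul_right
      (c1 3 (by decide) (by decide))).eq
    calc F.f 2 * F.f 3 * F.f 0 * F.f 1 = F.f 2 * F.f 3 * (F.f 0 * F.f 1) := by group
      _ = F.f 0 * F.f 1 * (F.f 2 * F.f 3) := this.symm
      _ = _ := by group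
  rcases hcases σ hσ with ⟨e0, e1, e2, e3⟩ | ⟨e0, e1, e2, e3⟩ | ⟨e0, e1, e2, e3⟩ | ⟨e0, e1, e2, e3⟩ <;>
    rw [e0, e1, e2, e3]
  · exact key (by decide) (by decide)
  · exact pair
  · rw [key (a := 2) (b := 3) (c := 0) (d := 1) (by decide) (by decide)]
    exact pair

/-- The signs of an element of `U` add up to zero. -/
theorem fl_sum {u : G} (hu : u ∈ F.U) :
    xor (xor (F.fl u 0) (F.fl u 1)) (xor (F.fl u 2) (F.fl u 3)) = false := by
  obtain ⟨h1, hd⟩ := F.mem_U.mp hu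
  have huz := (F.mem_H1.mp h1).1
  have e := F.conj_five h h1
  rw [← conj_mul, ← conj_mul, ← conj_mul, F.fl_spec h huz, F.fl_spec h huz, F.fl_spec h huz,
    F.fl_spec h huz] at e
  have hcm : ∀ (t : Bool) (i : Fin 4), zb z t * F.f i = F.f i * zb z t := fun t i =>
    (h.zb_comm (F.f_z h i) t).symm
  have hr : ∀ {a : G} (s : Bool) (i : Fin 4) (t : Bool),
      a * zb z s * (F.f i * zb z t) = a * F.f i * zb z (xor s t) := by
    intro a s i t
    rw [show a * zb z s * (F.f i * zb z t) = a * (zb z s * F.f i) * zb z t by group, hcm,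
      ← h.zb_mul]
    group
  rw [hr, hr, hr, F.reorder h hd] at e
  have := h.zb_inj (t := false) (mul_left_cancel (e.trans (by simp [zb] : _ = F.f 0 * F.f 1 * F.f 2 * F.f 3 * zb z false)))
  revert this
  cases F.fl u 0 <;> cases F.fl u 1 <;> cases F.fl u 2 <;> cases F.fl u 3 <;> simp

theorem π_U_comm {u v : G} (hu : u ∈ F.U) (hv : v ∈ F.U) : F.π (u * v * u⁻¹ * v⁻¹) = 1 := by
  have huz := (F.mem_H1.mp (F.mem_U.mp hu).1).1
  have hvz := (F.mem_H1.mp (F.mem_U.mp hv).1).1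
  have hi : ∀ {a : G}, a * z = z * a → a⁻¹ * z = z * a⁻¹ := fun e => (show Commute _ z from e).inv_left.eq
  have hm : ∀ {a b : G}, a * z = z * a → b * z = z * b → (a * b) * z = z * (a * b) :=
    fun e1 e2 => ((show Commute _ z from e1).mul_left e2).eq
  rw [F.π_mul _ _ (hm (hm huz hvz) (hi huz)) (hi hvz), F.π_mul _ _ (hm huz hvz) (hi huz),
    F.π_mul _ _ huz hvz, F.π_inv huz, F.π_inv hvz]
  have : ∀ σ τ : Perm (Fin 4), Dbl σ → Dbl τ → σ * τ * σ⁻¹ * τ⁻¹ = 1 := by decide +kernel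
  exact this _ _ (F.mem_U.mp hu).2 (F.mem_U.mp hv).2

/-- `U` has class two with commutators in `⟨z, e⟩`. -/
theorem comm_four {u v : G} (hu : u ∈ F.U) (hv : v ∈ F.U) :
    u * v * u⁻¹ * v⁻¹ = 1 ∨ u * v * u⁻¹ * v⁻¹ = z ∨ u * v * u⁻¹ * v⁻¹ = F.e ∨
      u * v * u⁻¹ * v⁻¹ = F.e * z := by
  set c := u * v * u⁻¹ * v⁻¹ with hc
  have hcU : c ∈ F.U := mul_mem (mul_mem (mul_mem hu hv) (inv_mem hu)) (inv_mem hv)
  obtain ⟨hcz, hce⟩ := F.mem_H1.mp (F.mem_U.mp hcU).1
  have hc1 := F.π_U_comm h hu hv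
  rw [← hc] at hc1
  refine F.mem_four h ((F.π_one c hcz).mp hc1) hce fun i => ?_
  have huz := (F.mem_H1.mp (F.mem_U.mp hu).1).1
  have hvz := (F.mem_H1.mp (F.mem_U.mp hv).1).1
  have key : ∀ i, F.fl c i = xor (xor (F.fl u 0) (F.fl u (F.π v 0)))
      (xor (F.fl v 0) (F.fl v (F.π u 0))) := by
    intro i
    have e : c * (v * u) = u * v := by rw [hc]; group
    have hvu := ((show Commute v z from hvz).mul_left huz).eq
    obtain ⟨j, rfl⟩ : ∃ j, F.π (v * u) j = i := (F.π (v * u)).surjective i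
    have h1 := F.fl_mul h hcz hvu j
    rw [e, F.fl_mul h huz hvz, F.fl_mul h hvz huz] at h1
    rw [← flip_const _ _ (F.mem_U.mp hu).2 (F.mem_U.mp hv).2 _ _ (F.fl_sum h hu) (F.fl_sum h hv) j]
    revert h1
    cases F.fl c (F.π (v * u) j) <;> cases F.fl u j <;> cases F.fl u (F.π v j) <;>
      cases F.fl v j <;> cases F.fl v (F.π u j) <;> simp
  rw [key, key]

end Frame

end Cfsg.Agent.H55.Quat
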