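import Cfsg.Agent.H55.Quat.Classes
import Cfsg.Agent.H55.Quat.AutGroup

/-!
The group with a trivial odd core is `Aut PSL(3, 4)`.
-/

set_option autoImplicit false
set_option linter.unusedSectionVars false
set_option linter.unusedVariables false
set_option linter.style.haveILetI false

namespace Cfsg.Agent.H55.Quat

open Subgroup Equiv

variable {G : Type*} [Group G] [Finite G] {z : G} {E : Subgroup G}

theorem main (h : Setup z E) (F : Frame z E) (hO : Cfsg.oddCore G = ⊥) (hns : ¬ Group.IsSolvable G)
    {K : Type*} [Field K] [Fintype K] (hK : Fintype.card K = 4) :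
    Nonempty (G ≃* MulAut (GL (Fin 3) K ⧸ Subgroup.center (GL (Fin 3) K))) := by
  classical
  obtain ⟨N, hN⟩ := exists_ndata h F hO hns
  haveI := hN.normal
  haveI := hN.simple h
  have hUN := hN.U_le h
  obtain ⟨F', iF, iFt, hF', ⟨e0⟩⟩ := hN.iso h
  let e : N ≃* Matrix.ProjectiveSpecialLinearGroup (Fin 3) K :=
    e0.trans (H27.PermFamily.pslCongr (FiniteField.ringEquivOfCardEq (K := F') (K' := K) (hF'.trans hK.symm)))
  have hNcard : Nat.card N = 20160 := by
    rw [Nat.card_congr e.toEquiv]
    have h1 := Cfsg.Agent.Linear.card_PSL_mul (F := K) 3 (by norm_num)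
    rw [hK, Fin.prod_univ_three] at h1
    norm_num [Nat.gcd_self] at h1
    simp only [Nat.card_eq_fintype_card] at h1 ⊢
    omega
  -- the centraliser of `N` is trivial
  have hcen : centralizer (N : Set G) = ⊥ := by
    rw [eq_bot_iff]
    intro c hc
    have hcz : c * z = z * c := (mem_centralizer_iff.mp hc z (hN.z_mem h)).symm
    have hCN : ∀ x, x ∈ centralizer (N : Set G) → x ∈ N → x = 1 := by
      intro x hx hxN
      obtain ⟨d⟩ := hN.exists_wdata h
      have hnc : center N = ⊥ := (inferInstance : (center N).Normal).eq_bot_or_eq_top.resolve_right fun e => by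
        have hw := congrArg Subtype.val (mem_center_iff.mp (e ▸ mem_top (⟨F.f 3 * d.w * F.f 3, hUN (F.f_U h 3 d.hw)⟩ : N))
          ⟨d.w, hUN d.hw⟩)
        have hm := d.m_ww h
        rw [(d.m_one_iff h).mpr hw] at hm
        exact h.z_ne_one hm.symm
      have : (⟨x, hxN⟩ : N) ∈ center N := mem_center_iff.mpr fun g =>
        Subtype.ext (mem_centralizer_iff.mp hx g g.2)
      rw [hnc, mem_bot] at this
      exact congrArg Subtype.val this
    have hall : ∀ q ∈ E, q * c = c * q := by
      intro q hq
      set x := c * q * c⁻¹ * q⁻¹ with hx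
      have hxE : x ∈ E := mul_mem (h.norm c hcz q hq) (inv_mem hq)
      have hxC : x ∈ centralizer (N : Set G) := by
        rw [hx, show c * q * c⁻¹ * q⁻¹ = c * (q * c⁻¹ * q⁻¹) by group]
        exact mul_mem hc ((inferInstance : (centralizer (N : Set G)).Normal).conj_mem _ (inv_mem hc) q)
      have hxe : x * F.e = F.e * x := (mem_centralizer_iff.mp hxC F.e (hUN (F.e_mem_U h))).symm
      have := hCN x hxC (hUN (F.E4_le_U h (F.mem_E4.mpr ⟨hxE, hxe⟩)))
      rw [hx, mul_inv_eq_one, mul_inv_eq_iff_eq_mul] at this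
      exact this.symm
    rcases h.cQ c hcz hall with e | e
    · exact mem_bot.mpr e
    · exact absurd (hCN c hc (e ▸ hN.z_mem h)) (e ▸ h.z_ne_one)
  -- the order
  set H := centralizer ({z} : Set G) with hH
  let ψ : H →* G ⧸ N := (QuotientGroup.mk' N).comp H.subtype
  have hker : Nat.card ψ.ker ≤ 64 := by
    rw [← F.card_U h]
    refine Nat.card_le_card_of_injective (fun x => ⟨((x : H) : G), hN.inU h
      ((QuotientGroup.eq_one_iff _).mp (MonoidHom.mem_ker.mp x.2)) (mem_centralizer_singleton_iff.mp (x : H).2)⟩) ?_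
    intro a b e
    exact Subtype.ext (Subtype.ext (congrArg Subtype.val e :))
  have hG : 241920 ≤ Nat.card G := by
    have h1 := ψ.ker.card_mul_index
    rw [index_ker, F.card_H h] at h1
    have h2 : Nat.card ψ.range ≤ Nat.card (G ⧸ N) := card_le_card_group _
    have h3 := N.card_mul_index
    rw [index_eq_card, hNcard] at h3
    rw [← h3]
    have h4 : 768 ≤ 64 * Nat.card (G ⧸ N) := h1.ge.trans (Nat.mul_le_mul hker h2)
    omega
  obtain ⟨hfin, hcard⟩ := AutGroup.card_mulAut hK
  let φ : G →* MulAut (Matrix.ProjectiveSpecialLinearGroup (Fin 3) K) :=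
    (MulAut.congr e).toMonoidHom.comp MulAut.conjNormal
  have hφ : Function.Injective φ := by
    refine (MulAut.congr e).injective.comp ((injective_iff_map_eq_one _).mpr fun x hx => ?_)
    refine mem_bot.mp (hcen ▸ mem_centralizer_iff.mpr fun n hn => ?_)
    have e' := congrArg Subtype.val (MulEquiv.congr_fun hx ⟨n, hn⟩)
    rw [MulAut.conjNormal_apply] at e'
    exact (mul_inv_eq_iff_eq_mul.mp e').symm
  obtain ⟨e1⟩ := AutGroup.mulAut_pgl hK
  exact ⟨(MulEquiv.ofBijective φ (hφ.bijective_of_nat_card_le (hcard.le.trans hG))).trans e1⟩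

end Cfsg.Agent.H55.Quat
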