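import Cfsg.Agent.H55.Quat.Transfer
import Cfsg.Agent.Fusion.Basic
import Cfsg.Agent.Cores.GlaubermanZStar
import Cfsg.Agent.Cores.PCore
import Cfsg.Agent.H24.Nilp
import Mathlib.GroupTheory.Nilpotent
import Cfsg.Agent.H63.PerfectAction
import Cfsg.Prelude.Def_CaseTheorems

/-!
The minimal normal subgroup `N` contains `U`.
-/

set_option autoImplicit false
set_option linter.unusedSectionVars false
set_option linter.unusedVariables false
set_option linter.style.haveILetI false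

namespace Cfsg.Agent.H55.Quat

open Subgroup Equiv

variable {G : Type*} [Group G] [Finite G] {z : G} {E : Subgroup G}

/-- A minimal normal subgroup of a nonsolvable group without odd core, meeting `C(z)` in `D`. -/
structure NData (F : Frame z E) (N : Subgroup G) : Prop where
  normal : N.Normal
  ne_bot : N ≠ ⊥
  minimal : ∀ K : Subgroup G, K.Normal → K ≤ N → K = ⊥ ∨ K = N
  inD : ∀ x ∈ N, x * z = z * x → x ∈ F.D
  hO : Cfsg.oddCore G = ⊥
  hns : ¬ Group.IsSolvable G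

theorem exists_ndata (h : Setup z E) (F : Frame z E) (hO : Cfsg.oddCore G = ⊥)
    (hns : ¬ Group.IsSolvable G) : ∃ N, NData F N := by
  classical
  obtain ⟨L, hL, hi, hLD⟩ := F.exists_L h
  have hLb : L ≠ ⊥ := fun e => by
    have := (hLD z rfl).mpr (F.U_le_D (F.z_mem_U h))
    rw [e, mem_bot] at this
    exact h.z_ne_one this
  haveI := Fintype.ofFinite G
  obtain ⟨N, hN, hmin⟩ := Finset.exists_min_image
    (Finset.univ.filter fun K : Subgroup G => K.Normal ∧ K ≠ ⊥ ∧ K ≤ L) (fun K => Nat.card K)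
    ⟨L, by simp [hL, hLb]⟩
  simp only [Finset.mem_filter, Finset.mem_univ, true_and] at hN hmin
  refine ⟨N, hN.1, hN.2.1, fun K hK hKN => or_iff_not_imp_left.mpr fun hK0 => ?_,
    fun x hx hxz => (hLD x hxz).mp (hN.2.2 hx), hO, hns⟩
  exact eq_of_le_of_card_ge hKN (hmin K ⟨hK, hK0, hKN.trans hN.2.2⟩)

namespace NData

variable {F : Frame z E} {N : Subgroup G} (hN : NData F N) (h : Setup z E)

include hN h

theorem not_odd : ¬ Odd (Nat.card N) := fun ho => hN.ne_bot <| by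
  haveI := hN.normal
  have := Cores.le_oddCore ho
  rw [hN.hO] at this
  exact le_bot_iff.mp this

/-- A Sylow subgroup of `G` in `C(z)` containing `U`, and its intersection with `N`. -/
theorem exists_sylow : ∃ P : Sylow 2 G, F.U ≤ (P : Subgroup G) ∧ N ⊓ (P : Subgroup G) = N ⊓ F.U ∧
    z ∈ N := by
  classical
  haveI : Fact (Nat.Prime 2) := ⟨Nat.prime_two⟩
  haveI := hN.normal
  obtain ⟨P, hPH, hP256, hEP⟩ := F.sylow_H h
  have hU2 : IsPGroup 2 F.U := IsPGroup.of_card (n := 6) (by rw [F.card_U h]; norm_num)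
  have hUH : F.U ≤ centralizer ({z} : Set G) := fun u hu =>
    mem_centralizer_singleton_iff.mpr (F.mem_H1.mp (F.U_le_H1 hu)).1
  obtain ⟨c, hc, hcU⟩ := Suz.exists_conj_le hPH P.isPGroup' (fun U hU hU2 => by
      obtain ⟨T, hT⟩ := hU2.exists_le_sylow
      calc Nat.card U ≤ Nat.card (T : Subgroup G) := card_le_of_le hT
        _ = _ := by rw [T.card_eq_multiplicity, P.card_eq_multiplicity]) hUH hU2
  have hUP : F.U ≤ (P : Subgroup G) := fun u hu => by
    have hu' := F.conj_U h (show Commute c z from mem_centralizer_singleton_iff.mp hc).inv_left.eq hu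
    rw [inv_inv] at hu'
    have := hcU _ hu'
    rwa [show c * (c⁻¹ * u * c) * c⁻¹ = u by group] at this
  have hint : N ⊓ (P : Subgroup G) = N ⊓ F.U := by
    refine le_antisymm (fun x hx => ?_) (inf_le_inf_left _ hUP)
    obtain ⟨hxN, hxP⟩ := mem_inf.mp hx
    have hxz := mem_centralizer_singleton_iff.mp (hPH hxP)
    obtain ⟨h1, hs⟩ := F.mem_D.mp (hN.inD x hxN hxz)
    obtain ⟨k, hk⟩ := P.isPGroup' ⟨x, hxP⟩
    have h4 := F.π_pow4 h hxz (k := k) (orderOf_dvd_of_pow_eq_one (congrArg Subtype.val hk))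
    have key : ∀ σ : Perm (Fin 4), Perm.sign σ = 1 → σ ^ 4 = 1 → Dbl σ := by decide +kernel
    exact mem_inf.mpr ⟨hxN, F.mem_U.mpr ⟨h1, key _ hs h4⟩⟩
  refine ⟨P, hUP, hint, ?_⟩
  have hne : N ⊓ (P : Subgroup G) ≠ ⊥ := by
    intro e
    apply hN.not_odd h
    rw [← Nat.not_even_iff_odd, even_iff_two_dvd]
    intro h2
    obtain ⟨x, hx⟩ := exists_prime_orderOf_dvd_card' (G := N) 2 h2
    obtain ⟨Q, hQ⟩ := (IsPGroup.of_card (p := 2) (n := 1) (G := zpowers (x : G))
      (by rw [Nat.card_zpowers, orderOf_coe, hx, pow_one])).exists_le_sylow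
    obtain ⟨g, hg⟩ := MulAction.exists_smul_eq G Q P
    have hgx : g * (x : G) * g⁻¹ ∈ N ⊓ (P : Subgroup G) :=
      mem_inf.mpr ⟨hN.normal.conj_mem _ x.2 g, by
        rw [← hg]; exact ⟨x, hQ (mem_zpowers _), rfl⟩⟩
    rw [e, mem_bot, conj_eq_one_iff] at hgx
    rw [show x = 1 from Subtype.ext hgx, orderOf_one] at hx
    omega
  -- a nontrivial normal subgroup of `P` meets its centre
  haveI hPn : Group.IsNilpotent (P : Subgroup G) := P.isPGroup'.isNilpotent
  haveI : (N.subgroupOf (P : Subgroup G)).Normal := Subgroup.Normal.subgroupOf hN.normal _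
  have hne' : N.subgroupOf (P : Subgroup G) ≠ ⊥ := fun e => hne <| eq_bot_iff.mpr fun x hx => by
    have : (⟨x, (mem_inf.mp hx).2⟩ : (P : Subgroup G)) ∈ N.subgroupOf (P : Subgroup G) := (mem_inf.mp hx).1
    rw [e, mem_bot] at this
    exact mem_bot.mpr (congrArg Subtype.val this)
  obtain ⟨⟨y, hy⟩, hy1⟩ := (nontrivial_iff_exists_ne 1).mp
    ((nontrivial_iff_ne_bot _).mpr (H24.inf_center_ne_bot _ hne'))
  obtain ⟨hyN, hyZ⟩ := mem_inf.mp hy
  rcases h.cQ (y : G) (mem_centralizer_singleton_iff.mp (hPH y.2)) (fun q hq => congrArg Subtype.val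
    (mem_center_iff.mp hyZ ⟨q, hEP hq⟩)) with e | e
  · exact absurd (Subtype.ext (Subtype.ext e)) hy1
  · exact e ▸ hyN

theorem z_mem : z ∈ N := (hN.exists_sylow h).choose_spec.2.2

/-- The Sylow subgroup `N ⊓ U` of `N`. -/
theorem exists_SU : ∃ S : Sylow 2 N, (S : Subgroup N) = (N ⊓ F.U).subgroupOf N := by
  classical
  haveI : Fact (Nat.Prime 2) := ⟨Nat.prime_two⟩
  obtain ⟨P, hUP, hint, -⟩ := hN.exists_sylow h
  have hp : IsPGroup 2 ((N ⊓ F.U).subgroupOf N) :=
    ((IsPGroup.of_card (n := 6) (by rw [F.card_U h]; norm_num) : IsPGroup 2 F.U).to_le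
      (inf_le_right : N ⊓ F.U ≤ F.U)).of_equiv (subgroupOfEquivOfLe inf_le_left).symm
  obtain ⟨S, hS⟩ := hp.exists_le_sylow
  refine ⟨S, (eq_of_le_of_card_ge hS ?_).symm⟩
  obtain ⟨Q, hQ⟩ := (S.isPGroup'.map N.subtype).exists_le_sylow
  obtain ⟨g, hg⟩ := MulAction.exists_smul_eq G Q P
  let g' : ↥(S : Subgroup N) → ↥(N ⊓ (P : Subgroup G)) := fun x =>
    ⟨g * ((x : N) : G) * g⁻¹, mem_inf.mpr ⟨hN.normal.conj_mem _ (x : N).2 g, by
      rw [← hg]; exact ⟨_, hQ ⟨x, x.2, rfl⟩, rfl⟩⟩⟩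
  have hinj : Function.Injective g' := fun a b e =>
    Subtype.ext (Subtype.ext (mul_left_cancel (mul_right_cancel (congrArg Subtype.val e))))
  rw [Nat.card_congr (subgroupOfEquivOfLe inf_le_left).toEquiv, ← hint]
  exact Nat.card_le_card_of_injective g' hinj

/-- Burnside fusion in `N`. -/
theorem fuse_center {x y g : G} (hg : g ∈ N) (hx : x ∈ N)
    (hxc : ∀ u ∈ N ⊓ F.U, u * x = x * u) (hyc : ∀ u ∈ N ⊓ F.U, u * y = y * u)
    (hgy : g * x * g⁻¹ = y) :
    ∃ n ∈ N, (∀ u ∈ N ⊓ F.U, n * u * n⁻¹ ∈ N ⊓ F.U) ∧ n * x * n⁻¹ = y := by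
  haveI : Fact (Nat.Prime 2) := ⟨Nat.prime_two⟩
  obtain ⟨S, hS⟩ := hN.exists_SU h
  have hmem : ∀ u : N, u ∈ (S : Subgroup N) ↔ (u : G) ∈ N ⊓ F.U := fun u => by
    rw [hS]; exact mem_subgroupOf
  obtain ⟨n, hn, e⟩ := Fusion.burnside_fusion_centralizer S (x := (⟨x, hx⟩ : N)) (g := ⟨g, hg⟩)
    (mem_centralizer_iff.mpr fun u hu => Subtype.ext (hxc u ((hmem u).mp hu)))
    (mem_centralizer_iff.mpr fun u hu => Subtype.ext (by
      show (u : G) * (g * x * g⁻¹) = g * x * g⁻¹ * u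
      rw [hgy]; exact hyc u ((hmem u).mp hu)))
  refine ⟨n, n.2, fun u hu => ?_, ?_⟩
  · exact (hmem _).mp ((mem_normalizer_iff.mp hn ⟨u, (mem_inf.mp hu).1⟩).mp ((hmem _).mpr hu))
  · exact (congrArg Subtype.val e).trans hgy

theorem not_le_H : ¬ ∀ x ∈ N, x * z = z * x := by
  classical
  intro hc
  haveI := hN.normal
  haveI : Fact (Nat.Prime 2) := ⟨Nat.prime_two⟩
  obtain ⟨S, hS⟩ := hN.exists_SU h
  have hz := hN.z_mem h
  haveI : (S : Subgroup N).Normal := by
    rw [hS]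
    refine ⟨fun u hu c => ?_⟩
    rw [mem_subgroupOf] at hu ⊢
    exact mem_inf.mpr ⟨(c * u * c⁻¹).2, F.conj_U h (hc c c.2) (mem_inf.mp hu).2⟩
  haveI := Sylow.characteristic_of_normal S inferInstance
  haveI : ((S : Subgroup N).map N.subtype).Normal := inferInstance
  have hSz : (⟨z, hz⟩ : N) ∈ (S : Subgroup N) := by
    rw [hS, mem_subgroupOf]; exact mem_inf.mpr ⟨hz, F.z_mem_U h⟩
  have hNU : N ≤ F.U := by
    rcases hN.minimal _ ‹_› (map_subtype_le _) with e | e
    · have : z ∈ (S : Subgroup N).map N.subtype := ⟨_, hSz, rfl⟩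
      rw [e, mem_bot] at this
      exact absurd this h.z_ne_one
    · intro x hx
      rw [← e, hS] at hx
      obtain ⟨y, hy, rfl⟩ := hx
      exact (mem_inf.mp (mem_subgroupOf.mp hy)).2
  have hab : ∀ a ∈ N, ∀ b ∈ N, a * b = b * a := by
    haveI : Group.IsNilpotent N :=
      ((IsPGroup.of_card (n := 6) (by rw [F.card_U h]; norm_num) : IsPGroup 2 F.U).to_le hNU).isNilpotent
    haveI : Nontrivial N := (nontrivial_iff_ne_bot N).mpr hN.ne_bot
    rcases hN.minimal ((center N).map N.subtype) inferInstance (map_subtype_le _) with e | e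
    · rw [map_eq_bot_iff_of_injective _ N.subtype_injective] at e
      haveI := ((IsPGroup.of_card (n := 6) (by rw [F.card_U h]; norm_num) : IsPGroup 2 F.U).to_le hNU).center_nontrivial
      exact absurd e ((nontrivial_iff_ne_bot _).mp inferInstance)
    · intro a ha b hb
      rw [← e] at ha
      obtain ⟨a', ha', rfl⟩ := ha
      exact (congrArg Subtype.val (mem_center_iff.mp ha' ⟨b, hb⟩)).symm
  let Ω : Subgroup G :=
    { carrier := {x | x ∈ N ∧ x * x = 1}
      one_mem' := ⟨one_mem _, mul_one 1⟩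
      mul_mem' := fun {a b} ha hb => ⟨mul_mem ha.1 hb.1, by
        rw [(show Commute a b from hab a ha.1 b hb.1).symm.mul_mul_mul_comm, ha.2, hb.2, mul_one]⟩
      inv_mem' := fun {a} ha => ⟨inv_mem ha.1, by rw [← mul_inv_rev, ha.2, inv_one]⟩ }
  haveI : Ω.Normal := ⟨fun x hx c => ⟨hN.normal.conj_mem x hx.1 c, by rw [conj_mul, hx.2]; group⟩⟩
  have hΩ : Ω = N := (hN.minimal Ω inferInstance fun x hx => hx.1).resolve_left fun e => by
    have : z ∈ Ω := ⟨hz, h.zz⟩
    rw [e, mem_bot] at this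
    exact h.z_ne_one this
  have hV : ∀ x ∈ N, F.InV x := by
    intro x hx
    by_contra hV
    obtain ⟨om, hom, ho, hπ⟩ := F.exists_om h
    have hx2 : x * x = 1 := by rw [← hΩ] at hx; exact hx.2
    have hm := WData.m_ww ⟨om, x, hom, ho, hπ, hNU hx, hx2, hV⟩ h
    unfold WData.m at hm
    have hf : F.f 3 * x * F.f 3 ∈ N := by
      have := hN.normal.conj_mem x hx (F.f 3)
      rwa [F.f_inv h] at this
    rw [hab x hx _ hf, mul_inv_cancel_right, mul_inv_cancel] at hm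
    exact h.z_ne_one hm.symm
  have h4 : Nat.card N ≤ 4 := by
    have : Nat.card N ≤ ({1, z, F.e, F.e * z} : Finset G).card := by
      rw [← Nat.card_eq_finsetCard]
      exact Nat.card_le_card_of_injective (fun x => ⟨x.1, by simpa [Frame.InV] using hV x.1 x.2⟩)
        fun a b e => Subtype.ext (congrArg Subtype.val e :)
    exact this.trans Finset.card_le_four
  -- so `G` is solvable
  apply hN.hns
  haveI := H63.PerfectAction.isSolvable_perm_le_four (α := N) h4
  let φ : G →* Perm N := (MulAut.toPerm N).comp MulAut.conjNormal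
  haveI : Group.IsSolvable ↥(centralizer ({z} : Set G)) := by
    haveI := H63.PerfectAction.isSolvable_perm_le_four (α := Fin 4) (by simp)
    let ψ : ↥(centralizer ({z} : Set G)) →* Perm (Fin 4) := MonoidHom.mk' (fun x => F.π x) fun a b =>
      F.π_mul a b (mem_centralizer_singleton_iff.mp a.2) (mem_centralizer_singleton_iff.mp b.2)
    haveI : Group.IsNilpotent E := (IsPGroup.of_card (p := 2) (n := 5) (by rw [h.card]; norm_num)).isNilpotent
    have hEH : E ≤ centralizer ({z} : Set G) := fun q hq => mem_centralizer_singleton_iff.mpr (h.cz q hq)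
    exact Group.isSolvable_of_ker_le_range (Subgroup.inclusion hEH) ψ fun x hx =>
      ⟨⟨x, (F.π_one _ (mem_centralizer_singleton_iff.mp x.2)).mp hx⟩, rfl⟩
  refine Group.isSolvable_of_ker_le_range (centralizer ({z} : Set G)).subtype φ fun x hx => ?_
  rw [range_subtype, mem_centralizer_singleton_iff]
  have := congrArg Subtype.val (Equiv.congr_fun (MonoidHom.mem_ker.mp hx) ⟨z, hz⟩)
  exact mul_inv_eq_iff_eq_mul.mp this

/-- `z` is fused in `N ⊓ U`. -/
theorem not_isolated (hiso : ∀ g ∈ N, g * z * g⁻¹ ∈ F.U → g * z * g⁻¹ = z) : False := by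
  haveI := hN.normal
  haveI : Fact (Nat.Prime 2) := ⟨Nat.prime_two⟩
  obtain ⟨S, hS⟩ := hN.exists_SU h
  have hz := hN.z_mem h
  have key := Cores.glaubermanZStar S (u := (⟨z, hz⟩ : N))
    (by rw [← orderOf_coe]; exact h.hzo)
    (by show _ ∈ (S : Subgroup N); rw [hS, mem_subgroupOf]; exact mem_inf.mpr ⟨hz, F.z_mem_U h⟩)
    (fun g hg => Subtype.ext (hiso g g.2 (by
      have hg' : g * ⟨z, hz⟩ * g⁻¹ ∈ (S : Subgroup N) := hg
      rw [hS, mem_subgroupOf] at hg'
      exact (mem_inf.mp hg').2)))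
  apply hN.not_le_H h
  haveI : (Cfsg.oddCore N).Characteristic := Cores.pPrimeCore_characteristic
  have hb : (Cfsg.oddCore N).map N.subtype = ⊥ := by
    rcases hN.minimal ((Cfsg.oddCore N).map N.subtype) inferInstance (map_subtype_le _) with e | e
    · exact e
    · exfalso
      apply hN.not_odd h
      rw [← e, card_map_of_injective N.subtype_injective]
      exact Cores.odd_card_oddCore
  intro x hx
  have := key ⟨x, hx⟩
  rw [(map_eq_bot_iff_of_injective _ N.subtype_injective).mp hb, mem_bot] at this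
  have e : z * x * z⁻¹ * x⁻¹ = 1 := congrArg Subtype.val this
  exact (mul_inv_eq_iff_eq_mul.mp (mul_inv_eq_one.mp e)).symm

theorem U_le : F.U ≤ N := by
  classical
  haveI := hN.normal
  have hz := hN.z_mem h
  have hT : ∀ c u, c * z = z * c → u ∈ N ⊓ F.U → c * u * c⁻¹ ∈ N ⊓ F.U := fun c u hc hu =>
    mem_inf.mpr ⟨hN.normal.conj_mem u (mem_inf.mp hu).1 c, F.conj_U h hc (mem_inf.mp hu).2⟩
  by_cases hout : ∃ x ∈ N ⊓ F.U, x ∉ F.E4
  · obtain ⟨x, hx, hxE⟩ := hout
    obtain ⟨hx1, hxd⟩ := F.mem_U.mp (mem_inf.mp hx).2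
    have hxz := (F.mem_H1.mp hx1).1
    have hne : F.π x ≠ 1 := fun e => hxE (F.U_fix h (mem_inf.mp hx).2 (i := 0) (by rw [e]; rfl))
    obtain ⟨om, hom, ho, hπ⟩ := F.exists_om h
    have hoz := F.om_z h hom
    obtain ⟨-, -, -, -, hall⟩ := dbl_facts _ hxd hne
    -- all double transpositions are covered
    have cov : ∀ ρ, Dbl ρ → ∃ y ∈ N ⊓ F.U, F.π y = ρ := by
      intro ρ hρ
      have h1 := hT om x hoz hx
      have h2 := hT om _ hoz h1
      have p1 : F.π (om * x * om⁻¹) = cyc * F.π x * cyc⁻¹ := by rw [F.π_conj h hoz hxz, hπ]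
      have p2 : F.π (om * (om * x * om⁻¹) * om⁻¹) = cyc * (cyc * F.π x * cyc⁻¹) * cyc⁻¹ := by
        rw [F.π_conj h hoz (F.mem_H1.mp (F.U_le_H1 (mem_inf.mp h1).2)).1, hπ, p1]
      rcases hall ρ hρ with e | e | e | e <;> rw [e]
      · exact ⟨1, one_mem _, F.π_onev⟩
      · exact ⟨x, hx, rfl⟩
      · exact ⟨_, h1, p1⟩
      · exact ⟨_, h2, p2⟩
    have hpair : ∀ i j, F.f i * F.f j ∈ N := by
      intro i j
      have hd : ∀ i j : Fin 4, ∃ σ, Dbl σ ∧ σ j = i := by decide +kernel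
      obtain ⟨σ, hσ, hσi⟩ := hd i j
      obtain ⟨y, hy, hy'⟩ := cov σ hσ
      have hyz := (F.mem_H1.mp (F.U_le_H1 (mem_inf.mp hy).2)).1
      have e := F.fl_spec h hyz j
      rw [hy', hσi] at e
      have hm : y * F.f j * y⁻¹ * F.f j ∈ N := by
        have := mul_mem (mem_inf.mp hy).1 (hN.normal.conj_mem _ (inv_mem (mem_inf.mp hy).1) (F.f j))
        rw [F.f_inv h] at this
        rwa [show y * (F.f j * y⁻¹ * F.f j) = y * F.f j * y⁻¹ * F.f j by group] at this
      rw [e, mul_assoc, ← h.zb_comm (F.f_z h j), ← mul_assoc] at hm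
      refine (mul_mem_cancel_right ?_).mp hm
      unfold zb; split_ifs <;> [exact hz; exact one_mem _]
    have he : F.e ∈ N := by
      have := mul_mem (hpair 0 1) (hpair 2 3)
      rw [← mul_assoc] at this
      rcases F.five h with e | e <;> rw [e] at this
      · exact this
      · exact (mul_mem_cancel_right hz).mp this
    have hE4 : F.E4 ≤ N := by
      intro q hq
      obtain ⟨hqE, hqe⟩ := F.mem_E4.mp hq
      have hn : (F.f 0 * q) * F.e ≠ F.e * (F.f 0 * q) := by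
        intro e
        refine h.ne_comm (F.hef 0) ?_
        calc F.f 0 * F.e = F.f 0 * q * F.e * q⁻¹ := by rw [mul_assoc (F.f 0), hqe]; group
          _ = F.e * (F.f 0 * q) * q⁻¹ := by rw [e]
          _ = _ := by group
      obtain ⟨i, b, e⟩ := F.out h (mul_mem (F.hf 0).1 hqE) hn
      obtain ⟨t, e⟩ := sim_iff.mp e
      have hq' : q = F.f 0 * ((if b then F.f i * F.e else F.f i) * zb z t) := by
        rw [← e, ← mul_assoc, (F.hf 0).2.1, one_mul]
      rw [hq', ← mul_assoc]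
      refine mul_mem ?_ (by unfold zb; split_ifs <;> [exact hz; exact one_mem _])
      split_ifs
      · rw [← mul_assoc]; exact mul_mem (hpair 0 i) he
      · exact hpair 0 i
    intro u hu
    obtain ⟨y, hy, hy'⟩ := cov _ (F.mem_U.mp hu).2
    have hm : y⁻¹ * u ∈ F.U := mul_mem (inv_mem (mem_inf.mp hy).2) hu
    have : y⁻¹ * u ∈ F.E4 := F.U_fix h hm (i := 0) (by
      have hyz := (F.mem_H1.mp (F.U_le_H1 (mem_inf.mp hy).2)).1
      rw [F.π_mul _ _ (show Commute y z from hyz).inv_left.eq (F.mem_H1.mp (F.U_le_H1 hu)).1,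
        F.π_inv hyz, hy', inv_mul_cancel]; rfl)
    have := mul_mem (mem_inf.mp hy).1 (hE4 this)
    rwa [mul_inv_cancel_left] at this
  push Not at hout
  exfalso
  apply hN.not_isolated h
  intro g hg hgU
  by_contra hne
  set y := g * z * g⁻¹ with hy
  have hyN : y ∈ N := hN.normal.conj_mem z hz g
  have hyV : F.InV y := (F.inV_iff h).mpr ⟨hout y (mem_inf.mpr ⟨hyN, hgU⟩), by
    rw [hy, conj_mul, h.zz]; group⟩
  obtain ⟨n, hnN, hnT, hn⟩ := hN.fuse_center h hg hz
    (fun u hu => (F.mem_H1.mp (F.U_le_H1 (mem_inf.mp hu).2)).1)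
    (fun u hu => Frame.InV.comm h F hyV (F.U_le_H1 (mem_inf.mp hu).2)) rfl
  by_cases hq : ∃ q ∈ N ⊓ F.U, q * q ≠ 1
  · -- `z` is the only involution square
    obtain ⟨q, hq, hq2⟩ := hq
    have hqz : q * q = z := (h.sq q (F.mem_E4.mp (hout q hq)).1).resolve_left hq2
    have hsq : n * q * n⁻¹ * (n * q * n⁻¹) = y := by rw [conj_mul, hqz, hn]
    rcases h.sq _ (F.mem_E4.mp (hout _ (hnT q hq))).1 with e | e <;> rw [hsq] at e
    · exact h.z_ne_one (conj_eq_one_iff.mp (hy ▸ e))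
    · exact hne e
  push Not at hq
  have hTV : ∀ u ∈ N ⊓ F.U, F.InV u := fun u hu => (F.inV_iff h).mpr ⟨hout u hu, hq u hu⟩
  have hye : Sim z F.e y := by
    rcases hyV with e | e | e | e
    · exact absurd (conj_eq_one_iff.mp (hy ▸ e)) h.z_ne_one
    · exact absurd e hne
    · exact Or.inl e
    · exact Or.inr e
  have heN : F.e ∈ N := by
    rcases hye with e | e
    · exact e ▸ hyN
    · rw [e] at hyN; exact (mul_mem_cancel_right hz).mp hyN
  have hVN : ∀ {v}, F.InV v → v ∈ N ⊓ F.U := by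
    intro v hv
    refine mem_inf.mpr ⟨?_, Frame.InV.mem_U h F hv⟩
    rcases hv with e | e | e | e <;> rw [e]
    exacts [one_mem _, hz, heN, mul_mem heN hz]
  have hnV : ∀ {v}, F.InV v → F.InV (n * v * n⁻¹) := fun hv => hTV _ (hnT _ (hVN hv))
  have hnV' : ∀ {v}, F.InV v → F.InV (n⁻¹ * v * n) := by
    intro v hv
    obtain ⟨w', hw'⟩ := (Finite.injective_iff_surjective (f := fun x : {x // F.InV x} =>
      (⟨n * x.1 * n⁻¹, hnV x.2⟩ : {x // F.InV x}))).mp (fun a b e => Subtype.ext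
        (mul_left_cancel (mul_right_cancel (congrArg Subtype.val e)))) ⟨v, hv⟩
    have e : n * w'.1 * n⁻¹ = v := congrArg Subtype.val hw'
    rw [← e, show n⁻¹ * (n * w'.1 * n⁻¹) * n = w'.1 by group]
    exact w'.2
  have hnH1 : ∀ {x}, x ∈ F.H1 → n⁻¹ * x * n ∈ F.H1 := by
    intro x hx
    have key : ∀ v, F.InV v → (n⁻¹ * x * n) * v = v * (n⁻¹ * x * n) := by
      intro v hv
      have hc := Frame.InV.comm h F (hnV hv) hx
      calc n⁻¹ * x * n * v = n⁻¹ * (x * (n * v * n⁻¹)) * n := by group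
        _ = n⁻¹ * ((n * v * n⁻¹) * x) * n := by rw [hc]
        _ = _ := by group
    exact F.mem_H1.mpr ⟨key z (Or.inr (Or.inl rfl)), key F.e (Or.inr (Or.inr (Or.inl rfl)))⟩
  -- an element of order four with square `z` is moved inside its coset
  set q0 := F.f 0 * F.f 1 with hq0d
  have hq04 : q0 ∈ F.E4 := F.mem_E4.mpr ⟨mul_mem (F.hf 0).1 (F.hf 1).1,
    h.comm_mul (F.hf 0).1 (F.hef 0) (F.hef 1)⟩
  have hq02 : q0 * q0 = z := F.f_mul_sq h (by decide)
  have hq0H := F.U_le_H1 (F.E4_le_U h hq04)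
  have hd : n⁻¹ * q0 * n * q0⁻¹ ∈ N ⊓ F.U := by
    have hdN : n⁻¹ * q0 * n * q0⁻¹ ∈ N := by
      rw [show n⁻¹ * q0 * n * q0⁻¹ = n⁻¹ * (q0 * n * q0⁻¹) by group]
      exact mul_mem (inv_mem hnN) (hN.normal.conj_mem n hnN q0)
    have hdH : n⁻¹ * q0 * n * q0⁻¹ ∈ F.H1 := mul_mem (hnH1 hq0H) (inv_mem hq0H)
    obtain ⟨-, hs⟩ := F.mem_D.mp (hN.inD _ hdN (F.mem_H1.mp hdH).1)
    refine mem_inf.mpr ⟨hdN, F.mem_U.mpr ⟨hdH, ?_⟩⟩
    set r := n⁻¹ * q0 * n with hr
    have hr4 : r ^ 4 = 1 := by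
      rw [hr, show n⁻¹ * q0 * n = n⁻¹ * q0 * n⁻¹⁻¹ by group, conj_pow,
        show q0 ^ 4 = (q0 * q0) * (q0 * q0) by simp [pow_succ, mul_assoc], hq02, h.zz]
      group
    have hrz := (F.mem_H1.mp (hnH1 hq0H)).1
    have hq0z := (F.mem_H1.mp hq0H).1
    rw [F.π_mul _ _ hrz (show Commute q0 z from hq0z).inv_left.eq, F.π_inv hq0z,
      F.π_E h (F.mem_E4.mp hq04).1, inv_one, mul_one] at hs ⊢
    have key : ∀ σ : Perm (Fin 4), Perm.sign σ = 1 → σ ^ 4 = 1 → Dbl σ := by decide +kernel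
    exact key _ hs (by rw [← F.π_pow hrz, hr4, F.π_onev])
  have hdV := hTV _ hd
  have e2 : n⁻¹ * z * n = z := by
    set d := n⁻¹ * q0 * n * q0⁻¹ with hdd
    have hsq : (n⁻¹ * q0 * n) * (n⁻¹ * q0 * n) = n⁻¹ * z * n := by rw [← hq02]; group
    have hdq : n⁻¹ * q0 * n = d * q0 := by rw [hdd]; group
    rw [← hsq, hdq, show d * q0 * (d * q0) = d * (q0 * d) * q0 by group,
      Frame.InV.comm h F hdV hq0H, show d * (d * q0) * q0 = d * d * (q0 * q0) by group,
      ((F.inV_iff h).mp hdV).2, one_mul, hq02]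
  apply hne
  rw [← hn]
  calc n * z * n⁻¹ = n * (n⁻¹ * z * n) * n⁻¹ := by rw [e2]
    _ = z := by group

end NData

end Cfsg.Agent.H55.Quat
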