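import Cfsg.Agent.S3277
import Cfsg.Agent.H55.Suz.Sub
import Mathlib.GroupTheory.FixedPointFree

/-!
A finite group with a four-group that is the centraliser of each of its involutions has order
divisible neither by eight nor by nine.
-/

set_option autoImplicit false
set_option linter.unusedSectionVars false
set_option linter.unusedVariables false
set_option linter.style.haveILetI false

namespace Cfsg.Agent.H55.Quat.SelfFour

open Subgroup

variable {Q : Type*} [Group Q] [Finite Q]

theorem not_dvd {a b : Q} (ha : a * a = 1) (hb : b * b = 1) (ha1 : a ≠ 1) (hb1 : b ≠ 1) (hab : a ≠ b)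
    (hcomm : a * b = b * a)
    (hC : ∀ t, t = a ∨ t = b ∨ t = a * b → ∀ x, x * t = t * x → x = 1 ∨ x = a ∨ x = b ∨ x = a * b) :
    ¬ 8 ∣ Nat.card Q ∧ ¬ 9 ∣ Nat.card Q := by
  classical
  haveI : Fact (Nat.Prime 2) := ⟨Nat.prime_two⟩
  set V := centralizer ({a} : Set Q) with hV
  have hab1 : a * b ≠ 1 := fun e => hab (by
    calc a = a * (b * b) := by rw [hb, mul_one]
      _ = a * b * b := by group
      _ = b := by rw [e, one_mul])
  have hab2 : a * b * (a * b) = 1 := by
    rw [(show Commute b a from hcomm.symm).mul_mul_mul_comm, ha, hb, one_mul]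
  have mem : ∀ {x}, x ∈ V ↔ x = 1 ∨ x = a ∨ x = b ∨ x = a * b := fun {x} => by
    rw [hV, mem_centralizer_singleton_iff]
    refine ⟨hC a (Or.inl rfl) x, ?_⟩
    rintro (e | e | e | e) <;> rw [e]
    · rw [one_mul, mul_one]
    · exact hcomm.symm
    · rw [mul_assoc, ← hcomm, ← mul_assoc, ha, one_mul]
  have V4 : Nat.card V = 4 := by
    have hset : (V : Set Q) = ↑({1, a, b, a * b} : Finset Q) := Set.ext fun x => by simp [mem]
    show Nat.card ↥(V : Set Q) = 4
    rw [hset, Nat.card_coe_set_eq, Set.ncard_coe_finset]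
    have h1 : a ≠ a * b := fun e => hb1 (mul_eq_left.mp e.symm)
    have h2 : b ≠ a * b := fun e => ha1 (mul_eq_right.mp e.symm)
    simp [Ne.symm ha1, Ne.symm hb1, Ne.symm hab1, hab, h1, h2]
  have Vsq : ∀ x ∈ V, x * x = 1 := by
    intro x hx
    rcases mem.mp hx with e | e | e | e <;> rw [e]
    exacts [mul_one 1, ha, hb, hab2]
  have hCt : ∀ t ∈ V, t ≠ 1 → centralizer ({t} : Set Q) ≤ V := fun t ht ht1 x hx =>
    mem.mpr (hC t ((mem.mp ht).resolve_left ht1) x (mem_centralizer_singleton_iff.mp hx))
  -- a two-subgroup above `V` is `V`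
  have hsyl : ∀ P : Subgroup Q, IsPGroup 2 P → V ≤ P → P = V := by
    intro P hP hVP
    refine le_antisymm ?_ hVP
    haveI : Nontrivial P := ⟨⟨a, hVP (mem.mpr (Or.inr (Or.inl rfl)))⟩, 1, fun e => ha1 (congrArg Subtype.val e)⟩
    haveI := hP.center_nontrivial
    obtain ⟨⟨⟨t, htP⟩, htc⟩, ht1⟩ := exists_ne (1 : center P)
    have htV : t ∈ V := mem_centralizer_singleton_iff.mpr
      (congrArg Subtype.val (mem_center_iff.mp htc ⟨a, hVP (mem.mpr (Or.inr (Or.inl rfl)))⟩)).symm
    intro p hp
    refine hCt t htV (fun e => ht1 (Subtype.ext (Subtype.ext e))) (mem_centralizer_singleton_iff.mpr ?_)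
    exact congrArg Subtype.val (mem_center_iff.mp htc ⟨p, hp⟩)
  obtain ⟨S, hS⟩ := (IsPGroup.of_card (p := 2) (n := 2) (G := V) (by rw [V4]; norm_num)).exists_le_sylow
  have hS4 : Nat.card (S : Subgroup Q) = 4 := by rw [hsyl _ S.isPGroup' hS, V4]
  have h8 : ¬ 8 ∣ Nat.card Q := fun h => by
    have h1 : 2 ^ 3 ∣ Nat.card (S : Subgroup Q) := by
      rw [S.card_eq_multiplicity]
      exact pow_dvd_pow 2 ((Nat.prime_two.pow_dvd_iff_le_factorization Nat.card_pos.ne').mp h)
    rw [hS4] at h1
    norm_num at h1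
  refine ⟨h8, fun h9 => ?_⟩
  by_cases hnc : Cfsg.HasNormalPComplement 2 Q
  · obtain ⟨P, K, hK, hcomp⟩ := hnc
    haveI := hK
    have hodd : ¬ 2 ∣ Nat.card K := Fusion.not_dvd_card_of_isComplement' P hcomp
    have hinv : ∀ t ∈ V, t ≠ 1 → ∀ k ∈ K, t * k * t⁻¹ = k⁻¹ := by
      intro t ht ht1 k hk
      let φ : K →* K := (MulAut.conjNormal t : MulAut K).toMonoidHom
      have hfree : MonoidHom.FixedPointFree φ := by
        intro u hu
        have hu' : t * (u : Q) * t⁻¹ = u := congrArg Subtype.val hu
        have huV := hCt t ht ht1 (mem_centralizer_singleton_iff.mpr (mul_inv_eq_iff_eq_mul.mp hu').symm)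
        have h2 : orderOf u ∣ 2 := orderOf_dvd_of_pow_eq_one (Subtype.ext (by
          rw [SubmonoidClass.coe_pow, pow_two]; exact Vsq _ huV))
        rcases (Nat.dvd_prime Nat.prime_two).mp h2 with e | e
        · exact orderOf_eq_one_iff.mp e
        · exact absurd (e ▸ orderOf_dvd_natCard u) hodd
      have hinvol : Function.Involutive φ := fun u => Subtype.ext (by
        show t * (t * (u : Q) * t⁻¹) * t⁻¹ = u
        have : t * t = 1 := Vsq t ht
        rw [show t * (t * (u : Q) * t⁻¹) * t⁻¹ = (t * t) * u * (t * t)⁻¹ by group, this]; group)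
      exact congrArg Subtype.val (congrFun (hfree.coe_eq_inv_of_involutive hinvol) ⟨k, hk⟩)
    have hK1 : K = ⊥ := by
      rw [eq_bot_iff]
      intro k hk
      have e1 := hinv (a * b) (mem.mpr (Or.inr (Or.inr (Or.inr rfl)))) hab1 k hk
      rw [show a * b * k * (a * b)⁻¹ = a * (b * k * b⁻¹) * a⁻¹ by group,
        hinv b (mem.mpr (Or.inr (Or.inr (Or.inl rfl)))) hb1 k hk, ← conj_inv,
        hinv a (mem.mpr (Or.inr (Or.inl rfl))) ha1 k hk, inv_inv] at e1
      have h2 : orderOf (⟨k, hk⟩ : K) ∣ 2 := orderOf_dvd_of_pow_eq_one (Subtype.ext (by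
        rw [SubmonoidClass.coe_pow, pow_two, coe_one]
        calc k * k = k * k⁻¹ := by rw [← e1]
          _ = 1 := mul_inv_cancel k))
      rcases (Nat.dvd_prime Nat.prime_two).mp h2 with e | e
      · exact mem_bot.mpr (congrArg Subtype.val (orderOf_eq_one_iff.mp e))
      · exact absurd (e ▸ orderOf_dvd_natCard (⟨k, hk⟩ : K)) hodd
    have hcard := hcomp.card_mul_card
    rw [hK1, card_bot, one_mul] at hcard
    obtain ⟨n, hn⟩ := IsPGroup.iff_card.mp P.isPGroup'
    rw [← hcard, hn] at h9
    have := (Nat.Coprime.pow_right n (by norm_num : Nat.Coprime 9 2)).eq_one_of_dvd h9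
    norm_num at this
  by_cases hne : ∃ E : Subgroup Q, E.Normal ∧ Cfsg.IsElementaryAbelian 2 E ∧ (Nat.card E = 2 ∨ Nat.card E = 4)
  · obtain ⟨E, hE, ⟨hEc, hE2⟩, hcard⟩ := hne
    haveI := hE
    haveI := hEc
    rcases hcard with hc | hc
    · -- a central involution
      haveI : Nontrivial E := Finite.one_lt_card_iff_nontrivial.mp (by omega)
      obtain ⟨⟨t, htE⟩, ht1⟩ := exists_ne (1 : E)
      have hall : ∀ x : Q, x * t = t * x := by
        intro x
        refine mul_inv_eq_iff_eq_mul.mp ?_
        by_contra hne'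
        have hx1 : x * t * x⁻¹ ≠ 1 := fun e => ht1 (Subtype.ext (conj_eq_one_iff.mp e))
        let g : Fin 3 → E := ![1, ⟨t, htE⟩, ⟨x * t * x⁻¹, hE.conj_mem t htE x⟩]
        have hg : Function.Injective g := by
          intro i j e
          have e' := congrArg Subtype.val e
          fin_cases i <;> fin_cases j <;> simp [g] at e' <;> first
            | rfl
            | exact absurd (Subtype.ext e') ht1
            | exact absurd (Subtype.ext e'.symm) ht1
            | exact absurd e' hne'
            | exact absurd e'.symm hne'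
            | exact absurd e' hx1
            | exact absurd e'.symm hx1
        have := Nat.card_le_card_of_injective g hg
        rw [hc, Nat.card_eq_fintype_card, Fintype.card_fin] at this
        omega
      have htV : t ∈ V := mem_centralizer_singleton_iff.mpr (hall a).symm
      have hQ : (⊤ : Subgroup Q) ≤ V := fun x _ =>
        hCt t htV (fun e => ht1 (Subtype.ext e)) (mem_centralizer_singleton_iff.mpr (hall x))
      have := card_le_of_le hQ
      rw [card_top, V4] at this
      have := Nat.le_of_dvd Nat.card_pos h9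
      omega
    · -- a normal four-group is `V`
      have hEp : IsPGroup 2 E := IsPGroup.of_card (n := 2) (by rw [hc]; norm_num)
      let _ : MulAction (zpowers a) E := MulAction.compHom E
        ((MulAut.conjNormal (G := Q) (H := E)).comp (zpowers a).subtype)
      have hzp : IsPGroup 2 (zpowers a) := IsPGroup.of_card (n := 1) (by
        rw [Nat.card_zpowers, pow_one]; exact orderOf_eq_prime (by rw [pow_two, ha]) ha1)
      obtain ⟨t, ht, ht1⟩ := hzp.exists_fixed_point_of_prime_dvd_card_of_fixed_point E (by rw [hc]; norm_num)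
        (a := (1 : E)) (MulAction.mem_fixedPoints.mpr fun g => map_one (MulAut.conjNormal (G := Q) (H := E) (g : Q)))
      have hta : a * (t : Q) * a⁻¹ = t := by
        have e : MulAut.conjNormal (G := Q) (H := E) a t = t :=
          MulAction.mem_fixedPoints.mp ht ⟨a, mem_zpowers a⟩
        have := congrArg Subtype.val e
        rwa [MulAut.conjNormal_apply] at this
      have htV : (t : Q) ∈ V := mem_centralizer_singleton_iff.mpr (mul_inv_eq_iff_eq_mul.mp hta).symm
      have hEV : E ≤ V := fun u hu => hCt t htV (fun e => ht1 (Subtype.ext e).symm)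
        (mem_centralizer_singleton_iff.mpr (congrArg Subtype.val (mul_comm' (⟨u, hu⟩ : E) t)))
      have hEV' : E = V := eq_of_le_of_card_ge hEV (by rw [hc, V4])
      haveI : V.Normal := hEV' ▸ hE
      let ρ : Q →* Equiv.Perm V := (MulAut.toPerm V).comp MulAut.conjNormal
      have hker : ρ.ker = V := by
        ext x
        rw [MonoidHom.mem_ker]
        constructor
        · intro e
          have := congrArg Subtype.val (Equiv.congr_fun e ⟨a, mem.mpr (Or.inr (Or.inl rfl))⟩)
          exact mem_centralizer_singleton_iff.mpr (mul_inv_eq_iff_eq_mul.mp this)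
        · intro hx
          refine Equiv.ext fun u => Subtype.ext ?_
          show x * (u : Q) * x⁻¹ = u
          refine mul_inv_eq_iff_eq_mul.mpr ?_
          calc x * (u : Q) = (x * (u : Q))⁻¹ := (inv_eq_of_mul_eq_one_left (Vsq _ (mul_mem hx u.2))).symm
            _ = (u : Q)⁻¹ * x⁻¹ := mul_inv_rev _ _
            _ = _ := by rw [inv_eq_of_mul_eq_one_left (Vsq _ hx), inv_eq_of_mul_eq_one_left (Vsq _ u.2)]
      have h1 := V.card_mul_index
      rw [← hker, index_ker] at h1
      have h2 : Nat.card ρ.range ∣ Nat.card (Equiv.Perm V) := card_subgroup_dvd_card _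
      rw [Nat.card_perm, V4] at h2
      rw [hker, V4] at h1
      rw [← h1] at h9
      have h9' : 9 ∣ Nat.card ρ.range := (by norm_num : Nat.Coprime 9 4).dvd_of_dvd_mul_left h9
      have := h9'.trans h2
      norm_num [Nat.factorial] at this
  push Not at hne
  obtain ⟨e⟩ := S3277.result a (orderOf_eq_prime (by rw [pow_two, ha]) ha1) V4
    (fun c hc => by rw [pow_two]; exact Vsq c hc) hnc (fun E hE hE2 => hne E hE hE2)
  rw [Nat.card_congr e.toEquiv, nat_card_alternatingGroup, Nat.card_eq_fintype_card, Fintype.card_fin] at h9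
  norm_num [Nat.factorial] at h9

end Cfsg.Agent.H55.Quat.SelfFour
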