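import Mathlib.GroupTheory.Transfer
import Cfsg.Agent.PGroups.Basic
import Mathlib.GroupTheory.Abelianization.Defs
import Mathlib.GroupTheory.Frattini
import Mathlib.Data.Fintype.Powerset
import Mathlib.Data.Fintype.Prod

/-!
An element of order three with small centraliser which is not conjugate to its inverse is detected
by the transfer into a Sylow 3-subgroup made abelian.
-/

set_option autoImplicit false
set_option linter.unusedSectionVars false
set_option linter.unusedVariables false
set_option linter.style.haveILetI false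

namespace Cfsg.Agent.H55.Quat.Three

open Subgroup MulAction

set_option synthInstance.maxSize 4000 in
set_option synthInstance.maxHeartbeats 400000 in
theorem sum_ne_zero : ∀ T : Finset (Fin 3 × Fin 3), (∀ p ∈ T, ∀ q ∈ T, p + q ≠ 0) →
    T.card % 3 ≠ 0 → T.sum id ≠ 0 := by
  decide +kernel

/-- A product over elements of order three, no two of them inverse, is nontrivial. -/
theorem prod_ne_one {A : Type*} [CommGroup A] [Finite A] (hA : Nat.card A ≤ 9) (C : Finset A)
    (h3 : ∀ c ∈ C, c ^ 3 = 1) (hi : ∀ c ∈ C, ∀ d ∈ C, c * d ≠ 1) (hk : C.card % 3 ≠ 0) :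
    C.prod id ≠ 1 := by
  classical
  rcases Nat.lt_or_ge C.card 2 with h2 | h2
  · obtain ⟨a, rfl⟩ := Finset.card_eq_one.mp (by omega : C.card = 1)
    intro e
    simp only [Finset.prod_singleton, id_eq] at e
    exact hi a (Finset.mem_singleton_self a) a (Finset.mem_singleton_self a) (by rw [e, one_mul])
  obtain ⟨a, ha, b, hb, hab⟩ := Finset.one_lt_card.mp h2
  have a3 := h3 a ha
  have b3 := h3 b hb
  have pm : ∀ {x : A}, x ^ 3 = 1 → ∀ m n : Fin 3, x ^ ((m + n : Fin 3) : ℕ) = x ^ (m : ℕ) * x ^ (n : ℕ) := by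
    intro x hx m n
    rw [← pow_add, Fin.val_add, ← pow_eq_pow_mod _ hx]
  let f : Fin 3 × Fin 3 → A := fun p => a ^ (p.1 : ℕ) * b ^ (p.2 : ℕ)
  have fadd : ∀ p q, f (p + q) = f p * f q := by
    intro p q
    simp only [f, Prod.fst_add, Prod.snd_add, pm a3, pm b3]
    exact mul_mul_mul_comm _ _ _ _
  have f0 : f 0 = 1 := by simp [f]
  have ker : ∀ p, f p = 1 → p = 0 := by
    have ha1 : a ≠ 1 := fun e => hi a ha a ha (by rw [e, one_mul])
    have hb1 : b ≠ 1 := fun e => hi b hb b hb (by rw [e, one_mul])
    have haa := hi a ha a ha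
    have hbb := hi b hb b hb
    have hab1 := hi a ha b hb
    have k1 : a * b ^ 2 ≠ 1 := fun e => hab (by
      calc a = a * b ^ 3 := by rw [b3, mul_one]
        _ = a * b ^ 2 * b := by rw [pow_succ b 2, mul_assoc]
        _ = b := by rw [e, one_mul])
    have k2 : a ^ 2 * b ≠ 1 := fun e => hab (by
      calc a = a * (a ^ 2 * b) := by rw [e, mul_one]
        _ = a ^ 3 * b := by rw [pow_succ' a 2, mul_assoc]
        _ = b := by rw [a3, one_mul])
    have k3 : a ^ 2 * b ^ 2 ≠ 1 := fun e => hab1 (by
      have : (a * b) ^ 3 = 1 := by rw [mul_pow, a3, b3, one_mul]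
      rwa [pow_succ, mul_pow, e, one_mul] at this)
    rintro ⟨i, j⟩ hp
    fin_cases i <;> fin_cases j <;> simp [f] at hp <;> first
      | rfl | exact absurd hp ha1 | exact absurd hp hb1 | exact absurd hp hab1 | exact absurd hp k1
      | exact absurd hp k2 | exact absurd hp k3
      | exact absurd (by rw [← pow_two]; exact hp) haa | exact absurd (by rw [← pow_two]; exact hp) hbb
  have finj : Function.Injective f := by
    intro p q e
    have : f (p + -q) = 1 := by rw [fadd, e, ← fadd, add_neg_cancel, f0]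
    exact add_neg_eq_zero.mp (ker _ this)
  have fsurj : Function.Surjective f := by
    haveI := Fintype.ofFinite A
    refine ((Fintype.bijective_iff_injective_and_card f).mpr ⟨finj, le_antisymm ?_ ?_⟩).2
    · exact Fintype.card_le_of_injective f finj
    · rw [← Nat.card_eq_fintype_card]; simpa using hA
  set T := Finset.univ.filter fun p => f p ∈ C with hT
  have hC : T.image f = C := by
    ext c
    simp only [hT, Finset.mem_image, Finset.mem_filter, Finset.mem_univ, true_and]
    exact ⟨fun ⟨p, hp, e⟩ => e ▸ hp, fun hc => (fsurj c).imp fun p e => ⟨by rw [e]; exact hc, e⟩⟩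
  have hne : T.sum id ≠ 0 := by
    refine sum_ne_zero T (fun p hp q hq e => ?_) ?_
    · simp only [hT, Finset.mem_filter] at hp hq
      exact hi _ hp.2 _ hq.2 (by rw [← fadd, e, f0])
    · rw [← Finset.card_image_of_injective T finj, hC]; exact hk
  intro e
  apply hne
  refine ker _ ?_
  rw [← hC, Finset.prod_image fun x _ y _ e => finj e] at e
  rw [← e]
  clear e hne hC
  induction T using Finset.induction with
  | empty => simpa using f0
  | insert p s hp ih => rw [Finset.sum_insert hp, Finset.prod_insert hp, fadd, id_eq, id_eq, ih]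

variable {X : Type*} [Group X] [Finite X]

/-- In a noncommutative 3-group the abelianised quotient has order at least nine. -/
theorem nine_le {P : Type*} [Group P] [Finite P] (hP : IsPGroup 3 P) (hne : commutator P ≠ ⊥) :
    9 ≤ (commutator P).index := by
  haveI : Fact (Nat.Prime 3) := ⟨Nat.prime_three⟩
  obtain ⟨k, hk⟩ := hP.index (commutator P)
  rcases Nat.lt_or_ge k 2 with hk2 | hk2
  swap
  · rw [hk]
    calc 9 = 3 ^ 2 := rfl
      _ ≤ 3 ^ k := Nat.pow_le_pow_right (by norm_num) hk2
  exfalso
  haveI := hP.isNilpotent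
  obtain ⟨x, hx⟩ : ∃ x : P, ∀ q : P ⧸ commutator P, q ∈ zpowers (x : P ⧸ commutator P) := by
    haveI : IsCyclic (P ⧸ commutator P) := by
      rw [index_eq_card] at hk
      rcases Nat.le_one_iff_eq_zero_or_eq_one.mp (Nat.lt_succ_iff.mp hk2) with e | e <;> rw [e] at hk
      · haveI := (Nat.card_eq_one_iff_unique.mp (by simpa using hk)).1; exact isCyclic_of_subsingleton
      · exact isCyclic_of_prime_card (p := 3) (by simpa using hk)
    obtain ⟨q, hq⟩ := IsCyclic.exists_generator (α := P ⧸ commutator P)
    obtain ⟨x, rfl⟩ := QuotientGroup.mk_surjective q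
    exact ⟨x, hq⟩
  have htop : zpowers x ⊔ commutator P = ⊤ := by
    rw [eq_top_iff]
    intro p _
    obtain ⟨i, hi⟩ := mem_zpowers_iff.mp (hx p)
    rw [← QuotientGroup.mk_zpow, QuotientGroup.eq] at hi
    have := mul_mem (mem_sup_left (zpow_mem (mem_zpowers x) i) : x ^ i ∈ zpowers x ⊔ commutator P)
      (mem_sup_right hi)
    rwa [mul_inv_cancel_left] at this
  have htop' : zpowers x = ⊤ := frattini_nongenerating (by
    rw [eq_top_iff, ← htop]
    exact sup_le_sup_left (PGroups.commutator_le_frattini hP) _)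
  apply hne
  rw [commutator_def, eq_bot_iff, commutator_le]
  intro a _ b _
  obtain ⟨i, rfl⟩ := mem_zpowers_iff.mp (htop' ▸ mem_top a)
  obtain ⟨j, rfl⟩ := mem_zpowers_iff.mp (htop' ▸ mem_top b)
  exact mem_bot.mpr (commutatorElement_eq_one_iff_commute.mpr (Commute.zpow_zpow_self x i j))

theorem commutator_ne_top {x : X} (hx : x ≠ 1) (hx3 : x ^ 3 = 1)
    (hC : ¬ 27 ∣ Nat.card (centralizer ({x} : Set X))) (hnr : ¬ IsConj x x⁻¹) :
    commutator X ≠ ⊤ := by
  classical
  haveI : Fact (Nat.Prime 3) := ⟨Nat.prime_three⟩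
  intro htopX
  obtain ⟨P, hP⟩ := (IsPGroup.of_card (p := 3) (n := 1) (G := zpowers x)
    (by rw [Nat.card_zpowers, pow_one]; exact orderOf_eq_prime hx3 hx)).exists_le_sylow
  have hxP : x ∈ (P : Subgroup X) := hP (mem_zpowers x)
  set PP := (P : Subgroup X) with hPP
  let π : PP →* Abelianization PP := Abelianization.of
  haveI : Finite (Abelianization PP) := Finite.of_surjective _ (QuotientGroup.mk_surjective (s := commutator PP))
  have hPP0 : 0 < Nat.card PP := Nat.card_pos
  have πsurj : Function.Surjective π := QuotientGroup.mk_surjective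
  have hker : π.ker = commutator PP := Abelianization.ker_of PP
  -- conjugates of `x` in `P` have centralisers of order at most nine there
  have hC9 : ∀ s : PP, IsConj x s → Nat.card (centralizer ({s} : Set PP)) ≤ 9 := by
    intro s hs
    obtain ⟨g, hg⟩ := isConj_iff.mp hs
    let K := ((centralizer ({s} : Set PP)).map PP.subtype).map (MulAut.conj g⁻¹).toMonoidHom
    have hK : K ≤ centralizer ({x} : Set X) := by
      rintro _ ⟨_, ⟨u, hu, rfl⟩, rfl⟩
      have hu' : (u : X) * s = s * u := congrArg Subtype.val (mem_centralizer_singleton_iff.mp hu)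
      rw [← hg] at hu'
      refine mem_centralizer_singleton_iff.mpr ?_
      simp only [MulEquiv.toMonoidHom_eq_coe, MonoidHom.coe_coe, MulAut.conj_apply, inv_inv]
      show g⁻¹ * (u : X) * g * x = x * (g⁻¹ * (u : X) * g)
      calc g⁻¹ * (u : X) * g * x = g⁻¹ * ((u : X) * (g * x * g⁻¹)) * g := by group
        _ = g⁻¹ * ((g * x * g⁻¹) * (u : X)) * g := by rw [hu']
        _ = _ := by group
    have hc : Nat.card K = Nat.card (centralizer ({s} : Set PP)) := by
      rw [card_map_of_injective (MulAut.conj g⁻¹).injective, card_map_of_injective PP.subtype_injective]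
    obtain ⟨k, hk⟩ := IsPGroup.iff_card.mp (P.isPGroup'.to_subgroup (centralizer ({s} : Set PP)))
    rw [hk]
    rcases Nat.lt_or_ge k 3 with h3 | h3
    · calc 3 ^ k ≤ 3 ^ 2 := Nat.pow_le_pow_right (by norm_num) (by omega)
        _ = 9 := rfl
    · exfalso
      apply hC
      calc 27 = 3 ^ 3 := rfl
        _ ∣ 3 ^ k := pow_dvd_pow 3 h3
        _ = Nat.card K := by rw [hc, hk]
        _ ∣ _ := card_dvd_of_le hK
  -- the fibres of `π` and the classes
  have hfib : ∀ s : PP, IsConj x s → (Nat.card (Abelianization PP) ≤ 9) ∧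
      ∀ p : PP, π p = π s → IsConj x p := by
    intro s hs
    let C := centralizer ({s} : Set PP)
    let Fb := {p : PP // π p = π s}
    have hFb : Nat.card Fb = Nat.card (commutator PP) :=
      Nat.card_congr
        { toFun := fun p => ⟨p.1 * s⁻¹, by rw [← hker, MonoidHom.mem_ker, map_mul, map_inv, p.2, mul_inv_cancel]⟩
          invFun := fun c => ⟨c.1 * s, by
            have : π c.1 = 1 := MonoidHom.mem_ker.mp (hker.symm ▸ c.2)
            rw [map_mul, this, one_mul]⟩
          left_inv := fun p => Subtype.ext (inv_mul_cancel_right _ _)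
          right_inv := fun c => Subtype.ext (mul_inv_cancel_right _ _) }
    let g : PP ⧸ C → Fb := Quotient.lift (fun p => (⟨p * s * p⁻¹, by
        rw [map_mul, map_mul, map_inv, mul_right_comm, mul_inv_cancel, one_mul]⟩ : Fb))
      (fun a b hab => Subtype.ext (by
        have h' := mem_centralizer_singleton_iff.mp (QuotientGroup.leftRel_apply.mp hab)
        show a * s * a⁻¹ = b * s * b⁻¹
        calc a * s * a⁻¹ = a * (s * (a⁻¹ * b)) * b⁻¹ := by group
          _ = a * ((a⁻¹ * b) * s) * b⁻¹ := by rw [h']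
          _ = _ := by group))
    have ginj : Function.Injective g := by
      intro a b
      induction a using Quotient.inductionOn with | h a => ?_
      induction b using Quotient.inductionOn with | h b => ?_
      intro e
      have e' : a * s * a⁻¹ = b * s * b⁻¹ := congrArg Subtype.val e
      refine Quotient.sound (QuotientGroup.leftRel_apply.mpr (mem_centralizer_singleton_iff.mpr ?_))
      calc a⁻¹ * b * s = a⁻¹ * (b * s * b⁻¹) * b := by group
        _ = a⁻¹ * (a * s * a⁻¹) * b := by rw [e']
        _ = _ := by group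
    have h1 : C.index ≤ Nat.card Fb := by rw [index_eq_card]; exact Nat.card_le_card_of_injective g ginj
    rw [hFb] at h1
    have h2 := C.card_mul_index
    have h3 := (commutator PP).card_mul_index
    have hC' : Nat.card C ≤ 9 := hC9 s hs
    have hA : Nat.card (Abelianization PP) = (commutator PP).index := (index_eq_card _).symm
    have h4 : Nat.card C * C.index ≤ 9 * Nat.card (commutator PP) := Nat.mul_le_mul hC' h1
    refine ⟨?_, ?_⟩
    · rw [hA]
      have hm : 0 < Nat.card (commutator PP) := Nat.card_pos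
      refine le_of_mul_le_mul_left ?_ hm
      rw [h3, ← h2, mul_comm (Nat.card (commutator PP)) 9]
      exact h4
    intro p hp
    have hgs : Function.Surjective g := by
      haveI := Fintype.ofFinite (PP ⧸ C)
      haveI := Fintype.ofFinite Fb
      refine ((Fintype.bijective_iff_injective_and_card g).mpr ⟨ginj, ?_⟩).2
      rw [← Nat.card_eq_fintype_card, ← Nat.card_eq_fintype_card, ← index_eq_card, hFb]
      refine le_antisymm h1 ?_
      by_cases hb : commutator PP = ⊥
      · rw [hb, card_bot]; exact Nat.pos_of_ne_zero index_ne_zero_of_finite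
      · have h9 := nine_le P.isPGroup' hb
        refine le_of_mul_le_mul_left ?_ (show (0 : ℕ) < 9 by norm_num)
        calc 9 * Nat.card (commutator PP) ≤ Nat.card (commutator PP) * (commutator PP).index := by
              rw [mul_comm]; exact Nat.mul_le_mul_left _ h9
          _ = Nat.card C * C.index := by rw [h2, h3]
          _ ≤ 9 * C.index := Nat.mul_le_mul_right _ hC'
    obtain ⟨q, hq⟩ := hgs ⟨p, hp⟩
    induction q using Quotient.inductionOn with | h a => ?_
    have hq' : a * s * a⁻¹ = p := congrArg Subtype.val hq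
    exact hs.trans (isConj_iff.mpr ⟨(a : X), congrArg Subtype.val hq'⟩)
  set xP : PP := ⟨x, hxP⟩ with hxPdef
  have hA9 : Nat.card (Abelianization PP) ≤ 9 := (hfib xP (IsConj.refl x)).1
  -- the values of the transfer
  haveI := Fintype.ofFinite X
  haveI := Fintype.ofFinite (Abelianization PP)
  haveI := Fintype.ofFinite (X ⧸ PP)
  let C : Finset (Abelianization PP) :=
    Finset.univ.filter fun c => ∃ s : PP, π s = c ∧ IsConj x s
  have hCm : ∀ c, c ∈ C ↔ ∃ s : PP, π s = c ∧ IsConj x s := fun c => by simp [C]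
  have hi : ∀ c ∈ C, ∀ d ∈ C, c * d ≠ 1 := by
    intro c hc d hd e
    obtain ⟨s, rfl, hs⟩ := (hCm c).mp hc
    obtain ⟨t, rfl, ht⟩ := (hCm d).mp hd
    have h' := (hfib t ht).2 s⁻¹ (by rw [map_inv]; exact (eq_inv_of_mul_eq_one_right e).symm)
    obtain ⟨g, hg⟩ := isConj_iff.mp hs
    exact hnr (h'.trans (isConj_iff.mpr ⟨g⁻¹, by rw [coe_inv, ← hg]; group⟩))
  have h3 : ∀ c ∈ C, c ^ 3 = 1 := by
    intro c hc
    obtain ⟨s, rfl, hs⟩ := (hCm c).mp hc
    obtain ⟨g, hg⟩ := isConj_iff.mp hs
    rw [← map_pow, show s ^ 3 = 1 from Subtype.ext (by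
      rw [SubmonoidClass.coe_pow, ← hg, conj_pow, hx3, coe_one]; group), map_one]
  let Fx := {p : X ⧸ PP // x • p = p}
  have memP : ∀ p : Fx, p.1.out⁻¹ * x * p.1.out ∈ PP := fun p => by
    have e : ((x * p.1.out : X) : X ⧸ PP) = (p.1.out : X) := by
      rw [← smul_eq_mul, ← MulAction.Quotient.smul_coe, QuotientGroup.out_eq']; exact p.2
    have := QuotientGroup.eq.mp e.symm
    rwa [← mul_assoc] at this
  let val : Fx → Abelianization PP := fun p => π ⟨_, memP p⟩
  have valrep : ∀ (p : Fx) (t : X) (ht : t⁻¹ * x * t ∈ PP), (t : X ⧸ PP) = p.1 → π ⟨_, ht⟩ = val p := by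
    intro p t ht e
    obtain ⟨⟨u, hu⟩, rfl⟩ : ∃ u : PP, p.1.out * u = t := ⟨⟨p.1.out⁻¹ * t, QuotientGroup.eq.mp (by
      rw [QuotientGroup.out_eq', e])⟩, mul_inv_cancel_left _ _⟩
    rw [show (⟨_, ht⟩ : PP) = ⟨u, hu⟩⁻¹ * ⟨_, memP p⟩ * ⟨u, hu⟩ from Subtype.ext (by
      simp [mul_assoc]), map_mul, map_mul, map_inv, mul_right_comm, inv_mul_cancel, one_mul]
  have valC : ∀ p, val p ∈ C := fun p => (hCm _).mpr ⟨_, rfl, isConj_iff.mpr ⟨p.1.out⁻¹, by group⟩⟩
  -- each fibre has the same number of fixed cosets
  have key : ∀ c ∈ C, Nat.card {p : Fx // val p = c} * Nat.card PP =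
      Nat.card (centralizer ({x} : Set X)) * Nat.card (commutator PP) := by
    intro c hc
    obtain ⟨s, hsc, hs⟩ := (hCm c).mp hc
    let T := {t : X // ∃ ht : t⁻¹ * x * t ∈ PP, π ⟨_, ht⟩ = c}
    have e1 : Nat.card T = Nat.card {p : Fx // val p = c} * Nat.card PP := by
      rw [← Nat.card_prod]
      refine Nat.card_congr ?_
      have hfix : ∀ t : T, x • ((t.1 : X) : X ⧸ PP) = (t.1 : X) := fun t => by
        obtain ⟨ht, -⟩ := t.2
        rw [MulAction.Quotient.smul_coe, smul_eq_mul, QuotientGroup.eq,
          show (x * t.1)⁻¹ * t.1 = (t.1⁻¹ * x * t.1)⁻¹ by group]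
        exact inv_mem ht
      have hout : ∀ (p : Fx) (u : PP), (p.1.out * (u : X))⁻¹ * x * (p.1.out * u) ∈ PP := fun p u => by
        rw [show (p.1.out * (u : X))⁻¹ * x * (p.1.out * u) = (u : X)⁻¹ * (p.1.out⁻¹ * x * p.1.out) * u by group]
        exact mul_mem (mul_mem (inv_mem u.2) (memP p)) u.2
      exact
        { toFun := fun t => (⟨⟨_, hfix t⟩, by rw [← valrep ⟨_, hfix t⟩ t.1 t.2.choose rfl]; exact t.2.choose_spec⟩,
            ⟨(QuotientGroup.mk t.1 : X ⧸ PP).out⁻¹ * t.1, QuotientGroup.eq.mp (QuotientGroup.out_eq' _)⟩)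
          invFun := fun q => ⟨q.1.1.1.out * q.2, hout _ _, (valrep q.1.1 _ (hout _ _) (by
            rw [QuotientGroup.mk_mul_of_mem _ q.2.2, QuotientGroup.out_eq'])).trans q.1.2⟩
          left_inv := fun t => Subtype.ext (mul_inv_cancel_left _ _)
          right_inv := fun q => by
            have e : ((q.1.1.1.out * q.2 : X) : X ⧸ PP) = q.1.1.1 := by
              rw [QuotientGroup.mk_mul_of_mem _ q.2.2, QuotientGroup.out_eq']
            refine Prod.ext (Subtype.ext (Subtype.ext e)) (Subtype.ext ?_)
            simp only [e, inv_mul_cancel_left] }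
    have e2 : Nat.card T = Nat.card (centralizer ({x} : Set X)) * Nat.card (commutator PP) := by
      have e3 : Nat.card {p : PP // π p = c} = Nat.card (commutator PP) := by
        rw [← hsc]
        exact Nat.card_congr
          { toFun := fun p => ⟨p.1 * s⁻¹, by rw [← hker, MonoidHom.mem_ker, map_mul, map_inv, p.2, mul_inv_cancel]⟩
            invFun := fun c => ⟨c.1 * s, by
              have : π c.1 = 1 := MonoidHom.mem_ker.mp (hker.symm ▸ c.2)
              rw [map_mul, this, one_mul]⟩
            left_inv := fun p => Subtype.ext (inv_mul_cancel_right _ _)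
            right_inv := fun c => Subtype.ext (mul_inv_cancel_right _ _) }
      have hg : ∀ p : {p : PP // π p = c}, ∃ g : X, g⁻¹ * x * g = (p.1 : X) := fun p => by
        obtain ⟨g, hg⟩ := isConj_iff.mp ((hfib s hs).2 p.1 (p.2.trans hsc.symm))
        exact ⟨g⁻¹, by rw [inv_inv, hg]⟩
      choose g hg using hg
      have hm : ∀ (u : centralizer ({x} : Set X)) p, ((u : X) * g p)⁻¹ * x * ((u : X) * g p) = (p.1 : X) := by
        intro u p
        rw [← hg p, show ((u : X) * g p)⁻¹ * x * ((u : X) * g p) = (g p)⁻¹ * ((u : X)⁻¹ * (x * u)) * g p by group,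
          ← mem_centralizer_singleton_iff.mp u.2]
        group
      let Φ : centralizer ({x} : Set X) × {p : PP // π p = c} → T := fun q =>
        ⟨(q.1 : X) * g q.2, by rw [hm]; exact q.2.1.2, by
          simp only [hm, Subtype.coe_eta]; exact q.2.2⟩
      rw [← e3, ← Nat.card_prod]
      refine (Nat.card_eq_of_bijective Φ ⟨?_, ?_⟩).symm
      · rintro ⟨u, p⟩ ⟨u', p'⟩ e
        have e' : (u : X) * g p = u' * g p' := congrArg Subtype.val e
        obtain rfl : p = p' := Subtype.ext (Subtype.ext (by rw [← hm u p, e', hm]))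
        rw [Subtype.ext (mul_right_cancel e')]
      · rintro ⟨t, ht, hc'⟩
        let p : {p : PP // π p = c} := ⟨⟨_, ht⟩, hc'⟩
        have hu : t * (g p)⁻¹ ∈ centralizer ({x} : Set X) := by
          rw [mem_centralizer_singleton_iff]
          calc t * (g p)⁻¹ * x = t * ((g p)⁻¹ * x * g p) * (g p)⁻¹ := by group
            _ = t * (t⁻¹ * x * t) * (g p)⁻¹ := by rw [hg p]
            _ = _ := by group
        exact ⟨(⟨_, hu⟩, p), Subtype.ext (inv_mul_cancel_right _ _)⟩
    rw [← e1, e2]
  -- the number of fixed cosets is prime to three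
  have hcard : ∃ q, ¬ 3 ∣ q * C.card ∧ ∀ c ∈ C, (Finset.univ.filter fun p => val p = c).card = q := by
    have hx0 : π xP ∈ C := (hCm _).mpr ⟨xP, rfl, IsConj.refl x⟩
    refine ⟨(Finset.univ.filter fun p => val p = π xP).card, ?_, fun c hc => ?_⟩
    swap
    · have a := key c hc
      rw [← key _ hx0] at a
      have a' := Nat.eq_of_mul_eq_mul_right hPP0 a
      rwa [Nat.card_eq_fintype_card, Nat.card_eq_fintype_card, Fintype.card_subtype,
        Fintype.card_subtype] at a'
    intro h3d
    have htot : Fintype.card Fx = (Finset.univ.filter fun p => val p = π xP).card * C.card := by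
      rw [← Finset.card_univ, Finset.card_eq_sum_card_fiberwise (f := val) (t := C) fun p _ => valC p,
        mul_comm]
      refine Finset.sum_const_nat fun c hc => ?_
      have a := key c hc
      rw [← key _ hx0] at a
      have a' := Nat.eq_of_mul_eq_mul_right hPP0 a
      rwa [Nat.card_eq_fintype_card, Nat.card_eq_fintype_card, Fintype.card_subtype,
        Fintype.card_subtype] at a'
    have hf : Fintype.card Fx = Nat.card (MulAction.fixedPoints (zpowers x) (X ⧸ PP)) := by
      rw [← Nat.card_eq_fintype_card]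
      refine Nat.card_congr (Equiv.subtypeEquivRight fun p => ⟨fun e k => ?_, fun e => e ⟨x, mem_zpowers x⟩⟩)
      have : zpowers x ≤ MulAction.stabilizer X p := zpowers_le.mpr e
      exact this k.2
    have hmod := ((P.isPGroup'.to_le hP).card_modEq_card_fixedPoints (X ⧸ PP))
    rw [← hf, htot, ← index_eq_card] at hmod
    exact P.not_dvd_index ((Nat.ModEq.dvd_iff hmod dvd_rfl).mpr h3d)
  obtain ⟨q, hq, hfibc⟩ := hcard
  -- evaluate the transfer
  have hV : MonoidHom.transfer π x = C.prod id ^ q := by
    haveI := Fintype.ofFinite (Quotient (orbitRel (zpowers x) (X ⧸ PP)))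
    have e1 : MonoidHom.transfer π x = ∏ p : Fx, val p := by
      rw [MonoidHom.transfer_eq_prod_quotient_orbitRel_zpowers_quot]
      have hper : ∀ p : X ⧸ PP, Function.minimalPeriod (x • ·) p = 1 ∨
          Function.minimalPeriod (x • ·) p = 3 := fun p =>
        (Nat.dvd_prime Nat.prime_three).mp (Function.IsPeriodicPt.minimalPeriod_dvd
          (show Function.IsPeriodicPt (x • ·) 3 p by
            show (fun q : X ⧸ PP => x • q)^[3] p = p
            rw [smul_iterate]; show x ^ 3 • p = p; rw [hx3, one_smul]))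
      rw [← Finset.prod_filter_mul_prod_filter_not Finset.univ
        (fun o : Quotient (orbitRel (zpowers x) (X ⧸ PP)) => x • o.out = o.out)]
      rw [Finset.prod_eq_one (s := Finset.univ.filter fun o => ¬ _) fun o ho => ?_, mul_one]
      swap
      · have hne := (Finset.mem_filter.mp ho).2
        rcases hper o.out with e | e
        · exact absurd (Function.minimalPeriod_eq_one_iff_isFixedPt.mp e) hne
        · refine (congrArg π (Subtype.ext ?_)).trans (map_one π)
          show o.out.out⁻¹ * x ^ Function.minimalPeriod (x • ·) o.out * o.out.out = 1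
          rw [e, hx3]; group
      refine Finset.prod_bij' (fun o ho => (⟨o.out, (Finset.mem_filter.mp ho).2⟩ : Fx))
        (fun p _ => Quotient.mk'' p.1) (fun _ _ => Finset.mem_univ _) ?_ ?_ ?_ ?_
      · intro p _
        refine Finset.mem_filter.mpr ⟨Finset.mem_univ _, ?_⟩
        obtain ⟨⟨k, hk⟩, hk'⟩ := Quotient.mk_out' (s₁ := orbitRel (zpowers x) (X ⧸ PP)) p.1
        have hst : zpowers x ≤ MulAction.stabilizer X p.1 := zpowers_le.mpr p.2
        rw [show (Quotient.mk'' p.1 : Quotient (orbitRel (zpowers x) (X ⧸ PP))).out = p.1 from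
          hk'.symm.trans (hst hk)]
        exact p.2
      · intro o _
        exact Quotient.out_eq' o
      · intro p _
        obtain ⟨⟨k, hk⟩, hk'⟩ := Quotient.mk_out' (s₁ := orbitRel (zpowers x) (X ⧸ PP)) p.1
        have hst : zpowers x ≤ MulAction.stabilizer X p.1 := zpowers_le.mpr p.2
        exact Subtype.ext (hk'.symm.trans (hst hk))
      · intro o ho
        refine congrArg π (Subtype.ext ?_)
        show o.out.out⁻¹ * x ^ Function.minimalPeriod (x • ·) o.out * o.out.out = o.out.out⁻¹ * x * o.out.out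
        rw [Function.minimalPeriod_eq_one_iff_isFixedPt.mpr (Finset.mem_filter.mp ho).2, pow_one]
    rw [e1, ← Finset.prod_fiberwise_of_maps_to (g := val) (t := C) fun p _ => valC p, ← Finset.prod_pow]
    refine Finset.prod_congr rfl fun c hc => ?_
    rw [Finset.prod_congr rfl fun p hp => (Finset.mem_filter.mp hp).2, Finset.prod_const, hfibc c hc, id_eq]
  have hne := prod_ne_one hA9 C h3 hi (fun e => hq (dvd_mul_of_dvd_right (Nat.dvd_of_mod_eq_zero e) q))
  apply hne
  have hker' : commutator X ≤ (MonoidHom.transfer π).ker := Abelianization.commutator_subset_ker _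
  rw [htopX, top_le_iff] at hker'
  have hp1 : MonoidHom.transfer π x = 1 := MonoidHom.mem_ker.mp (hker' ▸ mem_top x)
  rw [hV] at hp1
  have hp3 : C.prod id ^ 3 = 1 := by
    rw [← Finset.prod_pow]; exact Finset.prod_eq_one h3
  have hco : Nat.Coprime q 3 := (Nat.prime_three.coprime_iff_not_dvd.mpr fun e => hq (dvd_mul_of_dvd_left e _)).symm
  have := pow_gcd_eq_one.mpr (⟨hp1, hp3⟩ : C.prod id ^ q = 1 ∧ C.prod id ^ 3 = 1)
  rwa [hco.gcd_eq_one, pow_one] at this

end Cfsg.Agent.H55.Quat.Three
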