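import Cfsg.Agent.H55.Quat.Cycle
import Cfsg.Agent.H55.Quat.ThreeTransfer
import Cfsg.Agent.H55.Quat.SelfFour

/-!
`N` meets `C(z)` in `U` only: the elements of order three of `C(z)` are outside `N`.
-/

set_option autoImplicit false
set_option linter.unusedSectionVars false
set_option linter.unusedVariables false
set_option linter.style.haveILetI false

namespace Cfsg.Agent.H55.Quat

open Subgroup Equiv

variable {G : Type*} [Group G] [Finite G] {z : G} {E : Subgroup G}

namespace Frame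

variable (h : Setup z E) (F : Frame z E)

include h F

/-- The four-group `⟨z, e⟩` as a subgroup. -/
def V : Subgroup G where
  carrier := {x | F.InV x}
  one_mem' := InV.one F
  mul_mem' := fun ha hb => InV.mul h F ha hb
  inv_mem' := fun {a} ha => by
    show F.InV a⁻¹
    rw [InV.inv h F ha]; exact ha

theorem card_V : Nat.card (F.V h) = 4 := by
  classical
  have hset : ((F.V h : Subgroup G) : Set G) = ↑({1, z, F.e, F.e * z} : Finset G) := Set.ext fun x => by
    show F.InV x ↔ _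
    simp [InV]
  show Nat.card ↥((F.V h : Subgroup G) : Set G) = 4
  rw [hset, Nat.card_coe_set_eq, Set.ncard_coe_finset]
  have a1 := h.z_ne_one.symm
  have a2 := F.he.2.2.1.symm
  have a3 := F.he.2.2.2.symm
  have a4 := (h.sing_z F.he).2.2.1.symm
  have a5 := (h.sing_z F.he).2.2.2.symm
  have a6 := F.e_ne_ez h
  simp [a1, a2, a3, a4, a5, a6]

theorem om_notMem_U {om : G} (hom : om ∈ F.D) (hπ : F.π om = cyc) : om ∉ F.U := fun e => by
  have := (F.mem_U.mp e).2
  rw [hπ] at this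
  revert this
  decide +kernel

/-- The cosets of `U` in `D`. -/
theorem D_cases {om x : G} (hom : om ∈ F.D) (hπ : F.π om = cyc) (hx : x ∈ F.D) :
    x ∈ F.U ∨ x * om ∈ F.U ∨ x * (om * om) ∈ F.U := by
  obtain ⟨-, -, -, -, -, -, -, -, -, -, hdec⟩ := cyc_facts
  obtain ⟨hx1, hxs⟩ := F.mem_D.mp hx
  have hxz := (F.mem_H1.mp hx1).1
  have hoz := F.om_z h hom
  rcases hdec _ hxs with e | e | e
  · exact Or.inl (F.mem_U.mpr ⟨hx1, e⟩)
  · refine Or.inr (Or.inl (F.mem_U.mpr ⟨mul_mem hx1 (F.D_le_H1 hom), ?_⟩))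
    rwa [F.π_mul _ _ hxz hoz, hπ]
  · refine Or.inr (Or.inr (F.mem_U.mpr ⟨mul_mem hx1 (mul_mem (F.D_le_H1 hom) (F.D_le_H1 hom)), ?_⟩))
    rwa [F.π_mul _ _ hxz ((show Commute om z from hoz).mul_left hoz).eq, F.π_mul _ _ hoz hoz, hπ]

/-- `D / U` is abelian. -/
theorem D_comm {om d : G} (hom : om ∈ F.D) (hπ : F.π om = cyc) (hd : d ∈ F.D) :
    d * om * d⁻¹ * om⁻¹ ∈ F.U := by
  have key : ∀ u ∈ F.U, u * om * u⁻¹ * om⁻¹ ∈ F.U := fun u hu => by
    have := mul_mem hu (F.conj_U h (F.om_z h hom) (inv_mem hu))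
    rwa [show u * (om * u⁻¹ * om⁻¹) = u * om * u⁻¹ * om⁻¹ by group] at this
  rcases F.D_cases h hom hπ hd with e | e | e
  · exact key d e
  · have := key _ e
    rwa [show d * om * om * (d * om)⁻¹ * om⁻¹ = d * om * d⁻¹ * om⁻¹ by group] at this
  · have := key _ e
    rwa [show d * (om * om) * om * (d * (om * om))⁻¹ * om⁻¹ = d * om * d⁻¹ * om⁻¹ by group] at this

end Frame

namespace NData

variable {F : Frame z E} {N : Subgroup G} (hN : NData F N) (h : Setup z E)

include hN h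

theorem cent_D {om : G} (hom : om ∈ F.D) (hπ : F.π om = cyc) (homN : om ∈ N) {y : G}
    (hy : YData F N y) :
    (∀ d ∈ F.D, y * d * y⁻¹ ∈ F.D) ∧
      ∀ v, F.InV v → v ≠ 1 → ∀ x ∈ N, x * v = v * x → x ∈ F.D := by
  haveI := hN.normal
  have hUN := hN.U_le h
  have hDN : ∀ d ∈ F.D, d ∈ N := by
    intro d hd
    rcases F.D_cases h hom hπ hd with e | e | e
    · exact hUN e
    · exact (mul_mem_cancel_right homN).mp (hUN e)
    · exact (mul_mem_cancel_right (mul_mem homN homN)).mp (hUN e)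
  have hdv : ∀ d ∈ F.D, ∀ v, F.InV v → d * v = v * d := fun d hd v hv =>
    Frame.InV.comm h F hv (F.D_le_H1 hd)
  have hyD : ∀ d ∈ F.D, y * d * y⁻¹ ∈ F.D := by
    intro d hd
    refine hN.inD _ (mul_mem (mul_mem hy.mem (hDN d hd)) (inv_mem hy.mem)) ?_
    rw [← hy.yez, conj_mul, conj_mul, hdv d hd _ (Or.inr (Or.inr (Or.inr rfl)))]
  have hyD' : ∀ d ∈ F.D, y⁻¹ * d * y ∈ F.D := by
    intro d hd
    refine hN.inD _ (mul_mem (mul_mem (inv_mem hy.mem) (hDN d hd)) hy.mem) ?_
    have e := hdv d hd _ (Or.inr (Or.inr (Or.inl rfl)))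
    calc y⁻¹ * d * y * z = y⁻¹ * (d * (y * z * y⁻¹)) * y := by group
      _ = y⁻¹ * ((y * z * y⁻¹) * d) * y := by rw [hy.yz, e]
      _ = _ := by group
  refine ⟨hyD, fun v hv hv1 x hx e => ?_⟩
  rcases hv with rfl | rfl | rfl | rfl
  · exact absurd rfl hv1
  · exact hN.inD x hx e
  · have h1 := hN.inD _ (mul_mem (mul_mem (inv_mem hy.mem) hx) hy.mem) (by
      rw [← hy.iye]
      calc y⁻¹ * x * y * (y⁻¹ * F.e * y) = y⁻¹ * (x * F.e) * y := by group
        _ = y⁻¹ * (F.e * x) * y := by rw [e]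
        _ = _ := by group)
    have := hyD _ h1
    rwa [show y * (y⁻¹ * x * y) * y⁻¹ = x by group] at this
  · have h1 := hN.inD _ (mul_mem (mul_mem hy.mem hx) (inv_mem hy.mem)) (by
      rw [← hy.yez, conj_mul, conj_mul, e])
    have := hyD' _ h1
    rwa [show y⁻¹ * (y * x * y⁻¹) * y = x by group] at this

/-- The centraliser in `N` of an element of order three of `D`. -/
theorem cent_om {om : G} (hom : om ∈ F.D) (ho : orderOf om = 3) (hπ : F.π om = cyc) (homN : om ∈ N) :
    ¬ 8 ∣ Nat.card ↥(N ⊓ centralizer ({om} : Set G)) ∧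
      ¬ 27 ∣ Nat.card ↥(N ⊓ centralizer ({om} : Set G)) := by
  classical
  obtain ⟨y, hy⟩ := hN.exists_ydata h
  obtain ⟨-, hcv⟩ := hN.cent_D h hom hπ homN hy
  have hUN := hN.U_le h
  set C := N ⊓ centralizer ({om} : Set G) with hC
  have memC : ∀ {x}, x ∈ C ↔ x ∈ N ∧ x * om = om * x := fun {x} => by
    simp [hC, mem_inf, mem_centralizer_singleton_iff]
  have hVC : ∀ {v}, F.InV v → v ∈ C := fun hv => memC.mpr
    ⟨hUN (Frame.InV.mem_U h F hv), (Frame.InV.comm h F hv (F.D_le_H1 hom)).symm⟩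
  let o : C := ⟨om, memC.mpr ⟨homN, rfl⟩⟩
  let K : Subgroup C := zpowers o
  have hoC : orderOf o = 3 := by rw [Subgroup.orderOf_mk]; exact ho
  have hcom : ∀ x : C, x * o = o * x := fun x => Subtype.ext (memC.mp x.2).2
  haveI : K.Normal := by
    refine ⟨fun k hk c => ?_⟩
    obtain ⟨i, rfl⟩ := mem_zpowers_iff.mp hk
    rw [((show Commute c o from hcom c).zpow_right i).eq, mul_inv_cancel_right]
    exact zpow_mem (mem_zpowers o) i
  -- inside `C`, the centraliser of an involution of the four-group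
  have hcen : ∀ v, F.InV v → v ≠ 1 → ∀ x : C, (x : G) * v = v * x →
      ∃ k ∈ K, F.InV ((x * k : C) : G) := by
    intro v hv hv1 x e
    have hxD := hcv v hv hv1 x (memC.mp x.2).1 e
    have fix : ∀ k : C, ((x * k : C) : G) ∈ F.U → F.InV ((x * k : C) : G) := fun k hk => by
      refine F.om_fpf h hom hπ hk (Or.inl ?_)
      have e' := congrArg Subtype.val (hcom (x * k))
      change ((x * k : C) : G) * om = om * ((x * k : C) : G) at e'
      rw [← e', mul_inv_cancel_right, mul_inv_cancel]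
    rcases F.D_cases h hom hπ hxD with e | e | e
    · exact ⟨1, one_mem _, fix 1 (by simpa using e)⟩
    · exact ⟨o, mem_zpowers o, fix o e⟩
    · exact ⟨o * o, mul_mem (mem_zpowers o) (mem_zpowers o), fix (o * o) e⟩
  -- no element of the four-group lies in `K` except one
  have hVK : ∀ x : C, F.InV (x : G) → x ∈ K → x = 1 := by
    intro x hx hk
    have h2 : orderOf x ∣ 2 := orderOf_dvd_of_pow_eq_one (Subtype.ext (by
      rw [SubmonoidClass.coe_pow, pow_two]; exact ((F.inV_iff h).mp hx).2))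
    have h3 : orderOf x ∣ 3 := hoC ▸ orderOf_dvd_of_mem_zpowers hk
    exact orderOf_eq_one_iff.mp (Nat.dvd_one.mp ((Nat.dvd_gcd h2 h3).trans (by norm_num)))
  let π := QuotientGroup.mk' K
  let a : C := ⟨z, hVC (Or.inr (Or.inl rfl))⟩
  let b : C := ⟨F.e, hVC (Or.inr (Or.inr (Or.inl rfl)))⟩
  have hab : ((a * b : C) : G) = F.e * z := (F.e_z h).symm
  have hne : ∀ u v : C, F.InV (u : G) → F.InV (v : G) → π u = π v → u = v := by
    intro u v hu hv e
    have := hVK (u⁻¹ * v) (by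
      show F.InV ((u : G)⁻¹ * (v : G))
      rw [Frame.InV.inv h F hu]; exact Frame.InV.mul h F hu hv) (QuotientGroup.eq.mp e)
    exact inv_mul_eq_one.mp this
  have hI : F.InV (a : G) ∧ F.InV (b : G) ∧ F.InV ((a * b : C) : G) :=
    ⟨Or.inr (Or.inl rfl), Or.inr (Or.inr (Or.inl rfl)), by rw [hab]; exact Or.inr (Or.inr (Or.inr rfl))⟩
  obtain ⟨h8, h9⟩ := SelfFour.not_dvd (Q := C ⧸ K) (a := π a) (b := π b)
    (by rw [← map_mul, show a * a = 1 from Subtype.ext h.zz, map_one])
    (by rw [← map_mul, show b * b = 1 from Subtype.ext F.he.2.1, map_one])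
    (fun e => h.z_ne_one (congrArg Subtype.val (hne a 1 hI.1 (Frame.InV.one F) (by rw [e, map_one]))))
    (fun e => F.he.2.2.1 (congrArg Subtype.val (hne b 1 hI.2.1 (Frame.InV.one F) (by rw [e, map_one]))))
    (fun e => F.he.2.2.2 (congrArg Subtype.val (hne a b hI.1 hI.2.1 e)).symm)
    (by rw [← map_mul, ← map_mul, show a * b = b * a from Subtype.ext (F.e_z h).symm]) (by
      intro t ht q hq
      obtain ⟨x, rfl⟩ := QuotientGroup.mk'_surjective K q
      obtain ⟨v, hvI, rfl, hv1⟩ : ∃ v : C, F.InV (v : G) ∧ π v = t ∧ (v : G) ≠ 1 := by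
        rcases ht with e | e | e
        · exact ⟨a, hI.1, e.symm, h.z_ne_one⟩
        · exact ⟨b, hI.2.1, e.symm, F.he.2.2.1⟩
        · exact ⟨a * b, hI.2.2, by rw [e, map_mul], by rw [hab]; exact (h.sing_z F.he).2.2.1⟩
      -- the lift commutes
      have hk : x * v * x⁻¹ * v⁻¹ ∈ K := by
        rw [← QuotientGroup.eq_one_iff]
        show π (x * v * x⁻¹ * v⁻¹) = 1
        rw [map_mul, map_mul, map_mul, map_inv, map_inv, hq, mul_inv_cancel_right, mul_inv_cancel]
      set k := x * v * x⁻¹ * v⁻¹ with hkdef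
      have hk2 : k * k = 1 := by
        obtain ⟨i, hi⟩ := mem_zpowers_iff.mp hk
        have hkc : Commute v k := by rw [← hi]; exact (show Commute v o from hcom v).zpow_right i
        have e1 : x * v * x⁻¹ = k * v := by rw [hkdef]; group
        have hv2 : v * v = 1 := Subtype.ext ((F.inV_iff h).mp hvI).2
        calc k * k = k * k * (v * v) := by rw [hv2, mul_one]
          _ = (k * v) * (k * v) := hkc.symm.mul_mul_mul_comm _ _
          _ = 1 := by rw [← e1, conj_mul, hv2]; group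
      have hk1 : k = 1 := by
        have h2 : orderOf k ∣ 2 := orderOf_dvd_of_pow_eq_one (by rw [pow_two]; exact hk2)
        have h3 : orderOf k ∣ 3 := hoC ▸ orderOf_dvd_of_mem_zpowers hk
        exact orderOf_eq_one_iff.mp (Nat.dvd_one.mp ((Nat.dvd_gcd h2 h3).trans (by norm_num)))
      have hc : x * v = v * x := mul_inv_eq_iff_eq_mul.mp (mul_inv_eq_one.mp hk1)
      obtain ⟨k', hk', hV⟩ := hcen _ hvI hv1 x (congrArg Subtype.val hc)
      have hπ' : π x = π (x * k') := by
        rw [map_mul, (QuotientGroup.eq_one_iff k').mpr hk' |> fun e => (show π k' = 1 from e), mul_one]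
      rw [hπ']
      rcases hV with e | e | e | e
      · exact Or.inl (by rw [show x * k' = 1 from Subtype.ext e, map_one])
      · exact Or.inr (Or.inl (by rw [show x * k' = a from Subtype.ext e]))
      · exact Or.inr (Or.inr (Or.inl (by rw [show x * k' = b from Subtype.ext e])))
      · exact Or.inr (Or.inr (Or.inr (by rw [← map_mul, show x * k' = a * b from Subtype.ext (e.trans hab.symm)]))))
  have hK : Nat.card K = 3 := by rw [Nat.card_zpowers, hoC]
  rw [← K.card_mul_index, hK, index_eq_card]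
  exact ⟨fun e => h8 ((by norm_num : Nat.Coprime 8 3).dvd_of_dvd_mul_left e),
    fun e => h9 (Nat.dvd_of_mul_dvd_mul_left (show 0 < 3 by norm_num) e)⟩

theorem om_notMem {om : G} (hom : om ∈ F.D) (ho : orderOf om = 3) (hπ : F.π om = cyc) : om ∉ N := by
  classical
  intro homN
  haveI : Fact (Nat.Prime 2) := ⟨Nat.prime_two⟩
  haveI := hN.normal
  obtain ⟨y, hy⟩ := hN.exists_ydata h
  obtain ⟨hyD, hcv⟩ := hN.cent_D h hom hπ homN hy
  obtain ⟨hC8, hC27⟩ := hN.cent_om h hom ho hπ homN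
  have hUN := hN.U_le h
  have homU := F.om_notMem_U h hom hπ
  set C := N ⊓ centralizer ({om} : Set G) with hC
  have memC : ∀ {x}, x ∈ C ↔ x ∈ N ∧ x * om = om * x := fun {x} => by
    simp [hC, mem_inf, mem_centralizer_singleton_iff]
  -- conjugation by `y` on the quotient `D / U`
  have hyom : y * om * y⁻¹ * om⁻¹ ∈ F.U := by
    have h3 : om ^ 3 = 1 := ho ▸ pow_orderOf_eq_one om
    rcases F.D_cases h hom hπ (hyD om hom) with e | e | e
    · refine absurd ?_ homU
      have := hy.nU' e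
      rwa [show y⁻¹ * (y * om * y⁻¹) * y = om by group] at this
    · exfalso
      have h2 : y * (y * om * y⁻¹) * y⁻¹ * om⁻¹ ∈ F.U := by
        have := mul_mem (hy.nU _ e) (F.conj_U h (F.om_z h hom) (inv_mem e))
        rwa [show y * (y * om * y⁻¹ * om) * y⁻¹ * (om * (y * om * y⁻¹ * om)⁻¹ * om⁻¹) =
          y * (y * om * y⁻¹) * y⁻¹ * om⁻¹ by group] at this
      have h3' : y * (y * (y * om * y⁻¹) * y⁻¹) * y⁻¹ * om ∈ F.U := by
        have := mul_mem (hy.nU _ h2) e
        rwa [show y * (y * (y * om * y⁻¹) * y⁻¹ * om⁻¹) * y⁻¹ * (y * om * y⁻¹ * om) =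
          y * (y * (y * om * y⁻¹) * y⁻¹) * y⁻¹ * om by group] at this
      have hy3 : y * y * y ∈ F.D := hN.inD _ (mul_mem (mul_mem hy.mem hy.mem) hy.mem) (by
        refine mul_inv_eq_iff_eq_mul.mp ?_
        rw [show y * y * y * z * (y * y * y)⁻¹ = y * (y * (y * z * y⁻¹) * y⁻¹) * y⁻¹ by group,
          hy.yz, hy.ye, hy.yez])
      have h4 := F.D_comm h hom hπ hy3
      have := mul_mem (inv_mem h4) h3'
      rw [show (y * y * y * om * (y * y * y)⁻¹ * om⁻¹)⁻¹ *
        (y * (y * (y * om * y⁻¹) * y⁻¹) * y⁻¹ * om) = om * om by group] at this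
      refine homU ?_
      have := mul_mem this this
      rwa [show om * om * (om * om) = om ^ 3 * om by simp [pow_succ, mul_assoc], h3, one_mul] at this
    · rwa [show y * om * y⁻¹ * (om * om) = y * om * y⁻¹ * om⁻¹ * om ^ 3 by simp [pow_succ, mul_assoc],
        h3, mul_one] at e
  -- real elements
  have hnr : ¬ IsConj (⟨om, homN⟩ : N) (⟨om, homN⟩ : N)⁻¹ := by
    intro hc
    obtain ⟨⟨g, hg⟩, hgi⟩ := isConj_iff.mp hc
    have hgi' : g * om * g⁻¹ = om⁻¹ := congrArg Subtype.val hgi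
    have hgC : ∀ x ∈ C, g * x * g⁻¹ ∈ C := fun x hx => by
      obtain ⟨hxN, hxo⟩ := memC.mp hx
      refine memC.mpr ⟨mul_mem (mul_mem hg hxN) (inv_mem hg), ?_⟩
      have e : (g * x * g⁻¹) * om⁻¹ = om⁻¹ * (g * x * g⁻¹) := by
        rw [← hgi', conj_mul, conj_mul, hxo]
      exact (inv_inv om) ▸ (show Commute _ om⁻¹ from e).inv_right.eq
    have hVC : F.V h ≤ C := fun v hv => memC.mpr
      ⟨hUN (Frame.InV.mem_U h F hv), (Frame.InV.comm h F hv (F.D_le_H1 hom)).symm⟩
    have hV2 : IsPGroup 2 (F.V h) := IsPGroup.of_card (n := 2) (by rw [F.card_V h]; norm_num)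
    obtain ⟨c, hc', hcV⟩ := Suz.exists_conj_le hVC hV2 (fun P hP hP2 => by
        obtain ⟨k, hk⟩ := IsPGroup.iff_card.mp hP2
        rw [F.card_V h, hk]
        have hk2 : k ≤ 2 := by
          by_contra hlt
          exact hC8 ((pow_dvd_pow 2 (by omega : 3 ≤ k)).trans (hk ▸ card_dvd_of_le hP))
        calc 2 ^ k ≤ 2 ^ 2 := Nat.pow_le_pow_right (by norm_num) hk2
          _ = 4 := rfl)
      (P := Suz.cj g (F.V h)) (by rintro _ ⟨v, hv, rfl⟩; simpa using hgC v (hVC hv))
      (Suz.isPGroup_cj g hV2)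
    obtain ⟨hcN, hco⟩ := memC.mp hc'
    set n := c * g with hn
    have hnN : n ∈ N := mul_mem hcN hg
    have hno : n * om * n⁻¹ = om⁻¹ := by
      rw [hn, show c * g * om * (c * g)⁻¹ = c * (g * om * g⁻¹) * c⁻¹ by group, hgi', ← conj_inv,
        hco, mul_inv_cancel_right]
    have hnV : F.InV (n * z * n⁻¹) := by
      have := hcV (g * z * g⁻¹) (Suz.conj_mem_cj (show z ∈ F.V h from Or.inr (Or.inl rfl)))
      rwa [show c * (g * z * g⁻¹) * c⁻¹ = c * g * z * (c * g)⁻¹ by group] at this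
    -- such an element acts trivially on `D / U`
    have hbad : ∀ m, m * om * m⁻¹ * om⁻¹ ∈ F.U → m * om * m⁻¹ = om⁻¹ → False := by
      intro m hm e
      rw [e] at hm
      refine homU ?_
      have h3 : om ^ 3 = 1 := ho ▸ pow_orderOf_eq_one om
      have : om⁻¹ * om⁻¹ = om := by
        rw [← mul_inv_rev, inv_eq_iff_mul_eq_one, ← h3]; simp [pow_succ, mul_assoc]
      rwa [this] at hm
    rcases hnV with e | e | e | e
    · exact h.z_ne_one (conj_eq_one_iff.mp e)
    · exact hbad n (F.D_comm h hom hπ (hN.inD n hnN (mul_inv_eq_iff_eq_mul.mp e))) hno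
    · have hd : y⁻¹ * n ∈ F.D := hN.inD _ (mul_mem (inv_mem hy.mem) hnN) (by
        refine mul_inv_eq_iff_eq_mul.mp ?_
        rw [show y⁻¹ * n * z * (y⁻¹ * n)⁻¹ = y⁻¹ * (n * z * n⁻¹) * y by group, e, hy.iye])
      refine hbad n ?_ hno
      have := mul_mem (hy.nU _ (F.D_comm h hom hπ hd)) hyom
      rwa [show y * (y⁻¹ * n * om * (y⁻¹ * n)⁻¹ * om⁻¹) * y⁻¹ * (y * om * y⁻¹ * om⁻¹) =
        n * om * n⁻¹ * om⁻¹ by group] at this
    · have hd : y * n ∈ F.D := hN.inD _ (mul_mem hy.mem hnN) (by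
        refine mul_inv_eq_iff_eq_mul.mp ?_
        rw [show y * n * z * (y * n)⁻¹ = y * (n * z * n⁻¹) * y⁻¹ by group, e, hy.yez])
      refine hbad n ?_ hno
      have := hy.nU' (mul_mem (F.D_comm h hom hπ hd) (inv_mem hyom))
      rwa [show y⁻¹ * (y * n * om * (y * n)⁻¹ * om⁻¹ * (y * om * y⁻¹ * om⁻¹)⁻¹) * y =
        n * om * n⁻¹ * om⁻¹ by group] at this
  -- the transfer
  have h3 : (⟨om, homN⟩ : N) ^ 3 = 1 := Subtype.ext (by
    rw [SubmonoidClass.coe_pow, coe_one, ← ho, pow_orderOf_eq_one])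
  have hne1 : (⟨om, homN⟩ : N) ≠ 1 := fun e => by
    have : om = 1 := congrArg Subtype.val e
    rw [this, orderOf_one] at ho; omega
  have hcard : Nat.card (centralizer ({(⟨om, homN⟩ : N)} : Set N)) = Nat.card C :=
    Nat.card_congr
      { toFun := fun x => ⟨x.1.1, memC.mpr ⟨x.1.2, congrArg Subtype.val (mem_centralizer_singleton_iff.mp x.2)⟩⟩
        invFun := fun x => ⟨⟨x.1, (memC.mp x.2).1⟩, mem_centralizer_singleton_iff.mpr (Subtype.ext (memC.mp x.2).2)⟩
        left_inv := fun x => rfl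
        right_inv := fun x => rfl }
  have hne := Three.commutator_ne_top hne1 h3 (by rw [hcard]; exact hC27) hnr
  haveI := hN.simple h
  have hbot : commutator N = ⊥ :=
    (inferInstance : (commutator N).Normal).eq_bot_or_eq_top.resolve_right hne
  -- so `N` is abelian
  obtain ⟨d⟩ := hN.exists_wdata h
  rw [commutator_def, eq_bot_iff, commutator_le] at hbot
  have := mem_bot.mp (hbot ⟨d.w, hUN d.hw⟩ (mem_top _) ⟨F.f 3 * d.w * F.f 3, hUN (F.f_U h 3 d.hw)⟩ (mem_top _))
  rw [commutatorElement_eq_one_iff_commute] at this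
  have hw' : d.w * (F.f 3 * d.w * F.f 3) = F.f 3 * d.w * F.f 3 * d.w := congrArg Subtype.val this.eq
  have hm := d.m_ww h
  rw [(d.m_one_iff h).mpr hw'] at hm
  exact h.z_ne_one hm.symm

/-- `N` meets the centraliser of an involution of the four-group in `U`. -/
theorem inU {x : G} (hx : x ∈ N) (hxz : x * z = z * x) : x ∈ F.U := by
  obtain ⟨om, hom, ho, hπ⟩ := F.exists_om h
  have hno := hN.om_notMem h hom ho hπ
  rcases F.D_cases h hom hπ (hN.inD x hx hxz) with e | e | e
  · exact e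
  · exact absurd ((mul_mem_cancel_left hx).mp (hN.U_le h e)) hno
  · refine absurd ?_ hno
    have h2 := (mul_mem_cancel_left hx).mp (hN.U_le h e)
    have := mul_mem h2 h2
    have h3 : om ^ 3 = 1 := ho ▸ pow_orderOf_eq_one om
    rwa [show om * om * (om * om) = om ^ 3 * om by simp [pow_succ, mul_assoc], h3, one_mul] at this

theorem inU_V {v : G} (hv : F.InV v) (hv1 : v ≠ 1) {x : G} (hx : x ∈ N) (e : x * v = v * x) :
    x ∈ F.U := by
  obtain ⟨y, hy⟩ := hN.exists_ydata h
  rcases hv with rfl | rfl | rfl | rfl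
  · exact absurd rfl hv1
  · exact hN.inU h hx e
  · have h1 := hN.inU h (mul_mem (mul_mem (inv_mem hy.mem) hx) hy.mem) (by
      rw [← hy.iye]
      calc y⁻¹ * x * y * (y⁻¹ * F.e * y) = y⁻¹ * (x * F.e) * y := by group
        _ = y⁻¹ * (F.e * x) * y := by rw [e]
        _ = _ := by group)
    have := hy.nU _ h1
    rwa [show y * (y⁻¹ * x * y) * y⁻¹ = x by group] at this
  · have h1 := hN.inU h (mul_mem (mul_mem hy.mem hx) (inv_mem hy.mem)) (by
      rw [← hy.yez, conj_mul, conj_mul, e])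
    have := hy.nU' h1
    rwa [show y⁻¹ * (y * x * y⁻¹) * y = x by group] at this

end NData

end Cfsg.Agent.H55.Quat
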