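import Cfsg.Agent.H55.Quat.MinN

/-!
Fusion in `N` is visible in the normaliser of `A`; the involutions of `⟨z, e⟩` are fused.
-/

set_option autoImplicit false
set_option linter.unusedSectionVars false
set_option linter.unusedVariables false
set_option linter.style.haveILetI false

namespace Cfsg.Agent.H55.Quat

open Subgroup Equiv

variable {G : Type*} [Group G] [Finite G] {z : G} {E : Subgroup G}

namespace WData

variable {F : Frame z E} (d : WData F) (h : Setup z E)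

include h

/-- The data at the conjugate involution. -/
def flip : WData F where
  om := d.om
  w := F.f 3 * d.w * F.f 3
  hom := d.hom
  ho := d.ho
  hπ := d.hπ
  hw := F.f_U h 3 d.hw
  w2 := by
    calc F.f 3 * d.w * F.f 3 * (F.f 3 * d.w * F.f 3)
        = F.f 3 * d.w * (F.f 3 * F.f 3) * d.w * F.f 3 := by group
      _ = F.f 3 * (d.w * d.w) * F.f 3 := by rw [(F.hf 3).2.1]; group
      _ = 1 := by rw [d.w2, mul_one, (F.hf 3).2.1]
  hwV := fun e => d.hwV <| by
    have := Frame.InV.conj h F e (F.f_z h 3)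
    rw [F.f_inv h] at this
    rwa [show F.f 3 * (F.f 3 * d.w * F.f 3) * F.f 3 = (F.f 3 * F.f 3) * d.w * (F.f 3 * F.f 3) by group,
      (F.hf 3).2.1, one_mul, mul_one] at this

theorem ff_conj' (x : G) : F.f 3 * (F.f 3 * x * F.f 3) * F.f 3 = x := by
  rw [show F.f 3 * (F.f 3 * x * F.f 3) * F.f 3 = (F.f 3 * F.f 3) * x * (F.f 3 * F.f 3) by group,
    (F.hf 3).2.1, one_mul, mul_one]

theorem mem_flip {x : G} : x ∈ (d.flip h).A ↔ F.f 3 * x * F.f 3 ∈ d.A := by
  rw [(d.flip h).mem_A, d.mem_A]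
  constructor
  · rintro ⟨hx, e⟩
    refine ⟨F.f_U h 3 hx, ?_⟩
    have hff := (F.hf 3).2.1
    have e' : x * (F.f 3 * d.w * F.f 3) = F.f 3 * d.w * F.f 3 * x := e
    calc F.f 3 * x * F.f 3 * d.w = F.f 3 * (x * (F.f 3 * d.w * F.f 3)) * F.f 3 := by
          rw [show F.f 3 * (x * (F.f 3 * d.w * F.f 3)) * F.f 3 = F.f 3 * x * F.f 3 * d.w * (F.f 3 * F.f 3) by group,
            hff, mul_one]
      _ = F.f 3 * (F.f 3 * d.w * F.f 3 * x) * F.f 3 := by rw [e']
      _ = (F.f 3 * F.f 3) * d.w * (F.f 3 * x * F.f 3) := by group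
      _ = _ := by rw [hff, one_mul]
  · rintro ⟨hx, e⟩
    refine ⟨by have := F.f_U h 3 hx; rwa [ff_conj' h] at this, ?_⟩
    show x * (F.f 3 * d.w * F.f 3) = F.f 3 * d.w * F.f 3 * x
    have hff := (F.hf 3).2.1
    calc x * (F.f 3 * d.w * F.f 3) = (F.f 3 * F.f 3) * x * (F.f 3 * d.w * F.f 3) := by rw [hff, one_mul]
      _ = F.f 3 * (F.f 3 * x * F.f 3 * d.w) * F.f 3 := by group
      _ = F.f 3 * (d.w * (F.f 3 * x * F.f 3)) * F.f 3 := by rw [e]
      _ = F.f 3 * d.w * F.f 3 * x * (F.f 3 * F.f 3) := by group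
      _ = _ := by rw [hff, mul_one]

theorem A_le_U : d.A ≤ F.U := inf_le_left

/-- The normaliser of `A` in a subgroup, by conjugation. -/
theorem conj_eq {g : G} (hg : ∀ a ∈ d.A, g * a * g⁻¹ ∈ d.A) {a : G} (ha : a ∈ d.A) :
    g⁻¹ * a * g ∈ d.A := by
  obtain ⟨b, hb⟩ := (Finite.injective_iff_surjective (f := fun x : d.A =>
    (⟨g * x * g⁻¹, hg x x.2⟩ : d.A))).mp (fun a b e => Subtype.ext
      (mul_left_cancel (mul_right_cancel (congrArg Subtype.val e)))) ⟨a, ha⟩
  have e : g * b.1 * g⁻¹ = a := congrArg Subtype.val hb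
  rw [← e, show g⁻¹ * (g * b.1 * g⁻¹) * g = b.1 by group]
  exact b.2

/-- An elementary subgroup of order 16 of `U` is `A` or its conjugate. -/
theorem sub_cases {B : Subgroup G} (hBU : B ≤ F.U) (hB : ∀ b ∈ B, b * b = 1)
    (h16 : Nat.card B = 16) : B = d.A ∨ B = (d.flip h).A := by
  have hcase : ∀ b ∈ B, b ∈ d.A ∨ b ∈ (d.flip h).A := fun b hb =>
    (d.invol h (hBU hb) (hB b hb)).imp id fun e => (d.mem_flip h).mpr e
  by_cases hall : ∀ b ∈ B, b ∈ d.A
  · exact Or.inl (eq_of_le_of_card_ge hall (by rw [d.card_A h, h16]))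
  push Not at hall
  obtain ⟨b, hb, hbA⟩ := hall
  refine Or.inr (eq_of_le_of_card_ge (fun a ha => ?_) (by rw [(d.flip h).card_A h, h16]))
  refine (hcase a ha).elim (fun haA => ?_) id
  by_cases haV : F.InV a
  · exact (d.flip h).InV_mem_A h haV
  exact absurd (d.cen_le h haA haV (hBU hb) (F.comm_of_sq h hB hb ha)) hbA

end WData

namespace NData

variable {F : Frame z E} {N : Subgroup G} (hN : NData F N) (h : Setup z E)

include hN h

theorem two_in_U {x : G} (hx : x ∈ N) (hxz : x * z = z * x) {k : ℕ} (hk : orderOf x ∣ 2 ^ k) :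
    x ∈ F.U := by
  obtain ⟨h1, hs⟩ := F.mem_D.mp (hN.inD x hx hxz)
  have key : ∀ σ : Perm (Fin 4), Perm.sign σ = 1 → σ ^ 4 = 1 → Dbl σ := by decide +kernel
  exact F.mem_U.mpr ⟨h1, key _ hs (F.π_pow4 h hxz hk)⟩

/-- A 2-subgroup of `N` containing `U` is `U`. -/
theorem U_max {P : Subgroup G} (hP : IsPGroup 2 P) (hPN : P ≤ N) (hUP : F.U ≤ P) : P = F.U := by
  haveI : Fact (Nat.Prime 2) := ⟨Nat.prime_two⟩
  obtain ⟨S, hS⟩ := hN.exists_SU h
  refine (eq_of_le_of_card_ge hUP ?_).symm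
  obtain ⟨T, hT⟩ := (hP.of_equiv (subgroupOfEquivOfLe hPN).symm).exists_le_sylow
  rw [← Nat.card_congr (subgroupOfEquivOfLe hPN).toEquiv]
  refine (card_le_of_le hT).trans ?_
  rw [show Nat.card (T : Subgroup N) = Nat.card (S : Subgroup N) by
    rw [T.card_eq_multiplicity, S.card_eq_multiplicity], hS,
    Nat.card_congr (subgroupOfEquivOfLe inf_le_left).toEquiv]
  exact card_le_of_le inf_le_right

/-- An element of `N` normalising `U` normalises `A`. -/
theorem normU_A (d : WData F) {n : G} (hn : n ∈ N) (hU : ∀ u ∈ F.U, n * u * n⁻¹ ∈ F.U) :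
    ∀ a ∈ d.A, n * a * n⁻¹ ∈ d.A := by
  classical
  haveI : Fact (Nat.Prime 2) := ⟨Nat.prime_two⟩
  set B := d.A.map (MulAut.conj n).toMonoidHom with hB
  have himg : ∀ a ∈ d.A, n * a * n⁻¹ ∈ B := fun a ha => ⟨a, ha, rfl⟩
  rcases d.sub_cases h (B := B) (by rintro _ ⟨a, ha, rfl⟩; exact hU a (d.A_le_U h ha))
    (by rintro _ ⟨a, ha, rfl⟩; rw [← map_mul, d.A_sq h ha, map_one])
    (by rw [hB, card_map_of_injective (MulAut.conj n).injective, d.card_A h]) with e | e
  · exact fun a ha => e ▸ himg a ha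
  exfalso
  -- the odd part of the order gives a 2-element with the same action
  have sw : ∀ a ∈ d.A, n * a * n⁻¹ ∈ (d.flip h).A := fun a ha => e ▸ himg a ha
  have sw' : ∀ a ∈ (d.flip h).A, n * a * n⁻¹ ∈ d.A := by
    intro a ha
    set B' := (d.flip h).A.map (MulAut.conj n).toMonoidHom with hB'
    rcases d.sub_cases h (B := B') (by rintro _ ⟨b, hb, rfl⟩; exact hU b ((d.flip h).A_le_U h hb))
      (by rintro _ ⟨b, hb, rfl⟩; rw [← map_mul, (d.flip h).A_sq h hb, map_one])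
      (by rw [hB', card_map_of_injective (MulAut.conj n).injective, (d.flip h).card_A h]) with e' | e'
    · exact e' ▸ ⟨a, ha, rfl⟩
    · exfalso
      have : (d.flip h).A = d.A := map_injective (MulAut.conj n).injective (e'.trans e.symm)
      have hw : d.w ∈ d.A := d.mem_A.mpr ⟨d.hw, rfl⟩
      have := (d.mem_flip h).mp (this.symm ▸ hw)
      exact d.hwV (d.conj_A_inter h hw this)
  obtain ⟨k, m, hm, hkm⟩ := Nat.exists_eq_two_pow_mul_odd (orderOf_pos n).ne'
  have hpow : ∀ j : ℕ, ∀ a ∈ d.A,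
      n ^ (2 * j) * a * (n ^ (2 * j))⁻¹ ∈ d.A ∧ n ^ (2 * j + 1) * a * (n ^ (2 * j + 1))⁻¹ ∈ (d.flip h).A := by
    intro j
    induction j with
    | zero => intro a ha; exact ⟨by simpa using ha, by simpa using sw a ha⟩
    | succ j ih =>
      intro a ha
      obtain ⟨-, h2⟩ := ih a ha
      have h3 := sw' _ h2
      have e3 : n * (n ^ (2 * j + 1) * a * (n ^ (2 * j + 1))⁻¹) * n⁻¹ =
          n ^ (2 * (j + 1)) * a * (n ^ (2 * (j + 1)))⁻¹ := by
        rw [show 2 * (j + 1) = (2 * j + 1) + 1 by omega, pow_succ' n (2 * j + 1)]; group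
      rw [e3] at h3
      refine ⟨h3, ?_⟩
      have h4 := sw _ h3
      rwa [show n * (n ^ (2 * (j + 1)) * a * (n ^ (2 * (j + 1)))⁻¹) * n⁻¹ =
        n ^ (2 * (j + 1) + 1) * a * (n ^ (2 * (j + 1) + 1))⁻¹ by rw [pow_succ' n (2 * (j + 1))]; group] at h4
  obtain ⟨j, hj⟩ := hm
  set x := n ^ m with hx
  have hx2 : x ^ 2 ^ k = 1 := by rw [hx, ← pow_mul, mul_comm, ← hkm, pow_orderOf_eq_one]
  have hnn : n ∈ normalizer (F.U : Set G) := by
    rw [mem_normalizer_iff]
    intro u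
    refine ⟨hU u, fun hu => ?_⟩
    obtain ⟨b, hb⟩ := (Finite.injective_iff_surjective (f := fun x : F.U =>
      (⟨n * x * n⁻¹, hU x x.2⟩ : F.U))).mp (fun a b e => Subtype.ext
        (mul_left_cancel (mul_right_cancel (congrArg Subtype.val e)))) ⟨_, hu⟩
    have e' : n * b.1 * n⁻¹ = n * u * n⁻¹ := congrArg Subtype.val hb
    rw [← mul_left_cancel (mul_right_cancel e')]
    exact b.2
  have hxN : x ∈ N := pow_mem hn m
  have hP : IsPGroup 2 ↥(zpowers x ⊔ F.U) := by
    refine IsPGroup.to_sup_of_normal_right' ?_ (IsPGroup.of_card (n := 6) (by rw [F.card_U h]; norm_num)) ?_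
    · obtain ⟨i, -, hi⟩ := (Nat.dvd_prime_pow Nat.prime_two).mp (orderOf_dvd_of_pow_eq_one hx2)
      exact IsPGroup.of_card (n := i) (by rw [Nat.card_zpowers, hi])
    · exact zpowers_le.mpr (pow_mem hnn m)
  have hxU : x ∈ F.U := hN.U_max h hP (sup_le (zpowers_le.mpr hxN) (hN.U_le h)) le_sup_right ▸
    (mem_sup_left (mem_zpowers x) : x ∈ zpowers x ⊔ F.U)
  have hw : d.w ∈ d.A := d.mem_A.mpr ⟨d.hw, rfl⟩
  have h1 := ((hpow j) _ hw).2
  rw [← hj] at h1
  have h2 := d.U_A h hxU hw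
  have hV := d.conj_A_inter h h2 ((d.mem_flip h).mp h1)
  have := Frame.InV.conj h F hV (show Commute x z from (F.mem_H1.mp (F.U_le_H1 hxU)).1).inv_left.eq
  rw [show x⁻¹ * (x * d.w * x⁻¹) * x⁻¹⁻¹ = d.w by group] at this
  exact d.hwV this

/-- Fusion of `z` to an involution of `U` outside `⟨z, e⟩` is realised in the normaliser of `A`. -/
theorem fuse_A (d : WData F) {g : G} (hg : g ∈ N) (hgw : g * z * g⁻¹ = d.w) :
    ∀ a ∈ d.A, g * a * g⁻¹ ∈ d.A := by
  classical
  haveI : Fact (Nat.Prime 2) := ⟨Nat.prime_two⟩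
  haveI := hN.normal
  have hin : ∀ a ∈ d.A, g⁻¹ * a * g ∈ F.U := by
    intro a ha
    have haN : g⁻¹ * a * g ∈ N := by
      have := hN.normal.conj_mem a (hN.U_le h (d.A_le_U h ha)) g⁻¹
      rwa [inv_inv] at this
    refine hN.two_in_U h haN ?_ (k := 1) (orderOf_dvd_of_pow_eq_one ?_)
    · have e := (d.mem_A.mp ha).2
      calc g⁻¹ * a * g * z = g⁻¹ * (a * (g * z * g⁻¹)) * g := by group
        _ = g⁻¹ * (g * z * g⁻¹ * a) * g := by rw [hgw, e]
        _ = _ := by group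
    · rw [pow_one, pow_two, show g⁻¹ * a * g * (g⁻¹ * a * g) = g⁻¹ * (a * a) * g by group, d.A_sq h ha]
      group
  set B := d.A.map (MulAut.conj g⁻¹).toMonoidHom with hB
  have himg : ∀ a ∈ d.A, g⁻¹ * a * g ∈ B := fun a ha => ⟨a, ha, by simp⟩
  rcases d.sub_cases h (B := B) (by rintro _ ⟨a, ha, rfl⟩; simpa using hin a ha)
    (by rintro _ ⟨a, ha, rfl⟩; rw [← map_mul, d.A_sq h ha, map_one])
    (by rw [hB, card_map_of_injective (MulAut.conj g⁻¹).injective, d.card_A h]) with e | e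
  · intro a ha
    have := d.conj_eq h (g := g⁻¹) (fun b hb => by rw [inv_inv]; exact e ▸ himg b hb) ha
    rwa [inv_inv] at this
  exfalso
  -- both `U` and a conjugate of `U` are Sylow subgroups of the normaliser of `A`
  set K := N ⊓ normalizer (d.A : Set G) with hK
  have hmemK : ∀ {x}, x ∈ N → (∀ a ∈ d.A, x * a * x⁻¹ ∈ d.A) → x ∈ K := fun {x} hx hA =>
    mem_inf.mpr ⟨hx, by
      rw [mem_normalizer_iff]
      refine fun a => ⟨hA a, fun ha => ?_⟩
      have := d.conj_eq h hA ha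
      rwa [show x⁻¹ * (x * a * x⁻¹) * x = a by group] at this⟩
  have hUK : F.U ≤ K := fun u hu => hmemK (hN.U_le h hu) fun a ha => d.U_A h hu ha
  set U' := F.U.map (MulAut.conj g).toMonoidHom with hU'
  have hmap : d.A = (d.flip h).A.map (MulAut.conj g).toMonoidHom := by
    rw [← e, hB, map_map]
    conv_lhs => rw [← map_id d.A]
    congr 1
    ext x; simp [mul_assoc]
  have hU'K : U' ≤ K := by
    rintro _ ⟨u, hu, rfl⟩
    refine hmemK (by simpa using hN.normal.conj_mem u (hN.U_le h hu) g) fun a ha => ?_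
    rw [hmap] at ha ⊢
    obtain ⟨b, hb, rfl⟩ := ha
    exact ⟨u * b * u⁻¹, (d.flip h).U_A h hu hb, by simp [mul_assoc]⟩
  have hU2 : IsPGroup 2 F.U := IsPGroup.of_card (n := 6) (by rw [F.card_U h]; norm_num)
  have hmax : ∀ P : Subgroup G, P ≤ K → IsPGroup 2 P → Nat.card P ≤ Nat.card F.U := by
    intro P hP hP2
    obtain ⟨S, hS⟩ := hN.exists_SU h
    obtain ⟨T, hT⟩ := (hP2.of_equiv (subgroupOfEquivOfLe (hP.trans inf_le_left)).symm).exists_le_sylow
    rw [← Nat.card_congr (subgroupOfEquivOfLe (hP.trans inf_le_left)).toEquiv]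
    refine (card_le_of_le hT).trans ?_
    rw [show Nat.card (T : Subgroup N) = Nat.card (S : Subgroup N) by
      rw [T.card_eq_multiplicity, S.card_eq_multiplicity], hS,
      Nat.card_congr (subgroupOfEquivOfLe inf_le_left).toEquiv]
    exact card_le_of_le inf_le_right
  obtain ⟨k, hk, hkU⟩ := Suz.exists_conj_le hUK hU2 hmax hU'K (hU2.map _)
  have hn : k * g ∈ N := mul_mem (mem_inf.mp hk).1 hg
  have hnU : ∀ u ∈ F.U, k * g * u * (k * g)⁻¹ ∈ F.U := fun u hu => by
    have := hkU _ ⟨u, hu, rfl⟩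
    simpa [mul_assoc] using this
  have hn' := hN.normU_A h d hn hnU
  have hw : d.w ∈ d.A := d.mem_A.mpr ⟨d.hw, rfl⟩
  -- `k g` maps the conjugate of `A` to `A`
  have hfl : ∀ b ∈ (d.flip h).A, k * g * b * (k * g)⁻¹ ∈ d.A := by
    intro b hb
    have hgb : g * b * g⁻¹ ∈ d.A := by
      rw [hmap]; exact ⟨b, hb, rfl⟩
    have := (mem_normalizer_iff.mp (mem_inf.mp hk).2 (g * b * g⁻¹)).mp hgb
    rwa [show k * (g * b * g⁻¹) * k⁻¹ = k * g * b * (k * g)⁻¹ by group] at this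
  have h1 := hfl _ ((d.mem_flip h).mpr (by rw [WData.ff_conj' h]; exact hw) :
    F.f 3 * d.w * F.f 3 ∈ (d.flip h).A)
  have h2 := d.conj_eq h hn' h1
  rw [show (k * g)⁻¹ * (k * g * (F.f 3 * d.w * F.f 3) * (k * g)⁻¹) * (k * g) = F.f 3 * d.w * F.f 3 by group] at h2
  exact d.hwV (d.conj_A_inter h hw h2)

/-- The orbit of `z` in `A` is stable modulo `⟨z, e⟩` and under the element of order three. -/
theorem orbit_all (d : WData F) {g : G} (hg : g ∈ N) (hgA : ∀ a ∈ d.A, g * a * g⁻¹ ∈ d.A)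
    (hgw : g * z * g⁻¹ = d.w) {a : G} (ha : a ∈ d.A) (haV : ¬ F.InV a) :
    ∃ k ∈ N, (∀ b ∈ d.A, k * b * k⁻¹ ∈ d.A) ∧ k * z * k⁻¹ = a := by
  classical
  haveI := hN.normal
  have hoz := d.om_z h
  have step : ∀ {x}, (∃ k ∈ N, (∀ b ∈ d.A, k * b * k⁻¹ ∈ d.A) ∧ k * z * k⁻¹ = x) →
      ∃ k ∈ N, (∀ b ∈ d.A, k * b * k⁻¹ ∈ d.A) ∧ k * z * k⁻¹ = d.om * x * d.om⁻¹ := by
    rintro x ⟨k, hk, hkA, rfl⟩
    refine ⟨d.om * k * d.om⁻¹, hN.normal.conj_mem k hk _, fun b hb => ?_, ?_⟩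
    · have h1 : d.om⁻¹ * b * d.om ∈ d.A := d.conj_eq h (fun c hc => d.om_A h hc) hb
      have := d.om_A h (hkA _ h1)
      rwa [show d.om * (k * (d.om⁻¹ * b * d.om) * k⁻¹) * d.om⁻¹ =
        d.om * k * d.om⁻¹ * b * (d.om * k * d.om⁻¹)⁻¹ by group] at this
    · rw [show d.om * k * d.om⁻¹ * z * (d.om * k * d.om⁻¹)⁻¹ =
        d.om * k * (d.om⁻¹ * z * d.om) * k⁻¹ * d.om⁻¹ by group,
        show d.om⁻¹ * z * d.om = z by rw [mul_assoc, ← hoz, inv_mul_cancel_left]]
      group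
  obtain ⟨i, j, rfl⟩ := (d.mem_A_iff h).mp ha
  have hi : i ≠ 0 := fun e => haV (by rw [e, show d.rep 0 = 1 from rfl, one_mul]; exact d.vv_mem h j)
  have hrep : ∃ k ∈ N, (∀ b ∈ d.A, k * b * k⁻¹ ∈ d.A) ∧ k * z * k⁻¹ = d.rep i := by
    fin_cases i
    · exact absurd rfl hi
    · exact ⟨g, hg, hgA, hgw⟩
    · exact step ⟨g, hg, hgA, hgw⟩
    · exact step (step ⟨g, hg, hgA, hgw⟩)
  obtain ⟨k, hk, hkA, hkz⟩ := hrep
  -- commutators with `U` cover the four-group
  obtain ⟨u, hu, hu'⟩ : ∃ u ∈ F.U, u * d.rep i * u⁻¹ = d.rep i * d.vv j := by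
    let gm : Fin 4 → {v // F.InV v} := fun l =>
      ⟨d.m h (d.rep i) (d.rep l), d.m_mem h (d.rep_mem h i) (d.rep_mem h l)⟩
    haveI : Finite {v // F.InV v} := inferInstance
    haveI := Fintype.ofFinite {v // F.InV v}
    have hinj : Function.Injective gm := by
      intro l l' e
      have e' : d.m h (d.rep i) (d.rep l) = d.m h (d.rep i) (d.rep l') := congrArg Subtype.val e
      by_contra hne
      obtain ⟨n, hn0, hn⟩ : ∃ n : Fin 4, n ≠ 0 ∧ ∃ v, F.InV v ∧ d.rep l * d.rep l' = d.rep n * v := by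
        obtain ⟨n, k', hk'⟩ := (d.mem_A_iff h).mp (mul_mem ((d.mem_A_iff h).mpr ⟨l, 0, (mul_one _).symm⟩)
          ((d.mem_A_iff h).mpr ⟨l', 0, (mul_one _).symm⟩))
        refine ⟨n, fun e0 => hne ?_, d.vv k', d.vv_mem h k', hk'⟩
        rw [e0, show d.rep 0 = 1 from rfl, one_mul] at hk'
        refine (d.rep_m_inj h).2 (?_ : d.m h d.w (d.rep l) = d.m h d.w (d.rep l'))
        have hv := d.m_InV h d.hw (d.vv_mem h k')
        rw [← hk', d.m_mul h d.hw (d.rep_mem h l) (d.rep_mem h l')] at hv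
        rw [eq_inv_of_mul_eq_one_left hv, Frame.InV.inv h F (d.m_mem h d.hw (d.rep_mem h l'))]
      obtain ⟨v, hv, hnv⟩ := hn
      refine d.rep_m_ne h hi hn0 ?_
      have := d.m_mul h (d.rep_mem h i) (d.rep_mem h l) (d.rep_mem h l')
      rw [hnv, d.m_mul h (d.rep_mem h i) (d.rep_mem h n) (Frame.InV.mem_U h F hv),
        d.m_InV h (d.rep_mem h i) hv, mul_one, e',
        ((F.inV_iff h).mp (d.m_mem h (d.rep_mem h i) (d.rep_mem h l'))).2] at this
      exact this
    have hsurj : Function.Surjective gm := by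
      refine ((Fintype.bijective_iff_injective_and_card gm).mpr ⟨hinj, ?_⟩).2
      let e4 : Fin 4 → {v // F.InV v} := fun l => ⟨d.vv l, d.vv_mem h l⟩
      have he4 : Function.Bijective e4 := ⟨fun a b e => d.vv_inj h (congrArg Subtype.val e),
        fun ⟨v, hv⟩ => (d.InV_vv h hv).imp fun l hl => Subtype.ext hl.symm⟩
      exact Fintype.card_of_bijective he4
    obtain ⟨l, hl⟩ := hsurj ⟨d.vv j, d.vv_mem h j⟩
    have hl' : d.m h (d.rep i) (d.rep l) = d.vv j := congrArg Subtype.val hl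
    refine ⟨F.f 3 * d.rep l * F.f 3, F.f_U h 3 (d.rep_mem h l), ?_⟩
    have hc := F.comm_U h (d.rep_mem h i) (F.f_U h 3 (d.rep_mem h l))
    rw [show d.m h (d.rep i) (d.rep l) = _ from rfl] at hl'
    unfold WData.m at hl'
    rw [hl'] at hc
    set b := F.f 3 * d.rep l * F.f 3
    have hb : b⁻¹ = b := inv_eq_of_mul_eq_one_left (by
      calc b * b = F.f 3 * d.rep l * (F.f 3 * F.f 3) * d.rep l * F.f 3 := by simp only [b]; group
        _ = F.f 3 * (d.rep l * d.rep l) * F.f 3 := by rw [(F.hf 3).2.1]; group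
        _ = 1 := by rw [d.rep_sq h, mul_one, (F.hf 3).2.1])
    have hr : (d.rep i)⁻¹ = d.rep i := inv_eq_of_mul_eq_one_left (d.rep_sq h i)
    rw [← hl', hr, hb]
    calc b * d.rep i * b = (d.rep i * d.rep i) * (b * d.rep i * b) := by rw [d.rep_sq h, one_mul]
      _ = _ := by group
  refine ⟨u * k, mul_mem (hN.U_le h hu) hk, fun b hb => ?_, ?_⟩
  · have := d.U_A h hu (hkA b hb)
    rwa [show u * (k * b * k⁻¹) * u⁻¹ = u * k * b * (u * k)⁻¹ by group] at this
  · rw [show u * k * z * (u * k)⁻¹ = u * (k * z * k⁻¹) * u⁻¹ by group, hkz, hu']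

theorem exists_fuse_e : ∃ g ∈ N, Sim z F.e (g * z * g⁻¹) := by
  classical
  haveI := hN.normal
  by_contra hcon
  push Not at hcon
  obtain ⟨g, hg, hgU, hne⟩ : ∃ g ∈ N, g * z * g⁻¹ ∈ F.U ∧ g * z * g⁻¹ ≠ z := by
    by_contra! hn
    exact hN.not_isolated h hn
  have hV : ¬ F.InV (g * z * g⁻¹) := by
    intro hv
    rcases hv with e | e | e | e
    · exact h.z_ne_one (conj_eq_one_iff.mp e)
    · exact hne e
    · exact hcon g hg (Or.inl e)
    · exact hcon g hg (Or.inr e)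
  obtain ⟨om, hom, ho, hπ⟩ := F.exists_om h
  set d : WData F := ⟨om, g * z * g⁻¹, hom, ho, hπ, hgU, by rw [conj_mul, h.zz]; group, hV⟩
  have hgA := hN.fuse_A h d hg rfl
  -- the orbit of `z` has 13 elements
  let K : Subgroup G :=
    { carrier := {k | k ∈ N ∧ ∀ a ∈ d.A, k * a * k⁻¹ ∈ d.A}
      one_mem' := ⟨one_mem _, fun a ha => by simpa using ha⟩
      mul_mem' := fun {a b} ha hb => ⟨mul_mem ha.1 hb.1, fun x hx => by
        have := ha.2 _ (hb.2 x hx)
        rwa [show a * (b * x * b⁻¹) * a⁻¹ = a * b * x * (a * b)⁻¹ by group] at this⟩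
      inv_mem' := fun {a} ha => ⟨inv_mem ha.1, fun x hx => by
        rw [inv_inv]; exact d.conj_eq h ha.2 hx⟩ }
  letI : MulAction K d.A :=
    { smul := fun k a => ⟨(k : G) * a * (k : G)⁻¹, k.2.2 a a.2⟩
      one_smul := fun a => Subtype.ext (show (1 : G) * a * (1 : G)⁻¹ = a by group)
      mul_smul := fun k l a => Subtype.ext (show (k * l : G) * a * (k * l : G)⁻¹ =
        k * (l * a * (l : G)⁻¹) * (k : G)⁻¹ by group) }
  have hzA : z ∈ d.A := d.InV_mem_A h (Or.inr (Or.inl rfl))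
  have heA : F.e ∈ d.A := d.InV_mem_A h (Or.inr (Or.inr (Or.inl rfl)))
  haveI := Fintype.ofFinite d.A
  have horb : MulAction.orbit K (⟨z, hzA⟩ : d.A) =
      (({1, ⟨F.e, heA⟩, ⟨F.e * z, mul_mem heA hzA⟩} : Finset d.A)ᶜ : Finset d.A) := by
    ext a
    simp only [Finset.coe_compl, Finset.coe_insert, Finset.coe_singleton, Set.mem_compl_iff,
      Set.mem_insert_iff, Set.mem_singleton_iff, MulAction.mem_orbit_iff, Subtype.ext_iff, coe_one]
    constructor
    · rintro ⟨k, e⟩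
      change (k : G) * z * (k : G)⁻¹ = a at e
      rintro (e' | e' | e') <;> rw [e'] at e
      · exact h.z_ne_one (conj_eq_one_iff.mp e)
      · exact hcon k k.2.1 (Or.inl e)
      · exact hcon k k.2.1 (Or.inr e)
    · intro hn
      push Not at hn
      by_cases hV' : F.InV a
      · rcases hV' with e | e | e | e
        · exact absurd e hn.1
        · exact ⟨1, by show (1 : G) * z * (1 : G)⁻¹ = a; rw [e]; group⟩
        · exact absurd e hn.2.1
        · exact absurd e hn.2.2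
      · obtain ⟨k, hk, hkA, hkz⟩ := hN.orbit_all h d hg hgA rfl a.2 hV'
        exact ⟨⟨k, hk, hkA⟩, hkz⟩
  have h13 : 13 ∣ Nat.card K := by
    have h1 := Nat.card_congr (MulAction.orbitEquivQuotientStabilizer K (⟨z, hzA⟩ : d.A))
    rw [← index_eq_card] at h1
    have h2 : Nat.card (MulAction.orbit K (⟨z, hzA⟩ : d.A)) = 13 := by
      rw [horb, Nat.card_coe_set_eq, Set.ncard_coe_finset, Finset.card_compl,
        ← Nat.card_eq_fintype_card, d.card_A h]
      rw [Finset.card_insert_of_notMem, Finset.card_pair]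
      · intro e; exact F.e_ne_ez h (congrArg Subtype.val e)
      · simp only [Finset.mem_insert, Finset.mem_singleton, Subtype.ext_iff, coe_one]
        rintro (e | e)
        · exact F.he.2.2.1 e.symm
        · exact (h.sing_z F.he).2.2.1 e.symm
    rw [h2] at h1
    exact h1 ▸ index_dvd_card _
  haveI : Fact (Nat.Prime 13) := ⟨by norm_num⟩
  obtain ⟨x, hx⟩ := exists_prime_orderOf_dvd_card' (G := K) 13 h13
  have hp : IsPGroup 13 (zpowers x) := IsPGroup.of_card (n := 1) (by rw [Nat.card_zpowers, hx, pow_one])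
  have hmod := hp.card_modEq_card_fixedPoints d.A
  let Fx : Subgroup d.A :=
    { carrier := {a | ∀ k : zpowers x, (k : K) • a = a}
      one_mem' := fun k => Subtype.ext (show ((k : K) : G) * 1 * ((k : K) : G)⁻¹ = 1 by group)
      mul_mem' := fun {a b} ha hb k => by
        refine Subtype.ext ?_
        show ((k : K) : G) * (a * b : G) * ((k : K) : G)⁻¹ = a * b
        rw [← conj_mul]
        exact congrArg₂ (· * ·) (congrArg Subtype.val (ha k)) (congrArg Subtype.val (hb k))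
      inv_mem' := fun {a} ha k => by
        refine Subtype.ext ?_
        show ((k : K) : G) * (a : G)⁻¹ * ((k : K) : G)⁻¹ = (a : G)⁻¹
        rw [← conj_inv]
        exact congrArg (·⁻¹) (congrArg Subtype.val (ha k)) }
  have hcard : Nat.card Fx ∣ 16 := d.card_A h ▸ card_subgroup_dvd_card Fx
  have hfix : Nat.card (MulAction.fixedPoints (zpowers x) d.A) = Nat.card Fx :=
    Nat.card_congr (Equiv.subtypeEquivRight fun a => Iff.rfl)
  rw [d.card_A h, hfix] at hmod
  have h16 : Nat.card Fx = 16 := by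
    have hle := Nat.le_of_dvd (by norm_num) hcard
    unfold Nat.ModEq at hmod
    interval_cases hn : Nat.card Fx <;> omega
  have hz' : (⟨z, hzA⟩ : d.A) ∈ Fx := by
    rw [eq_top_of_card_eq Fx (by rw [h16, d.card_A h])]; trivial
  have e : ((x : K) : G) * z * ((x : K) : G)⁻¹ = z := congrArg Subtype.val (hz' ⟨x, mem_zpowers x⟩)
  have hxD := hN.inD _ x.2.1 (mul_inv_eq_iff_eq_mul.mp e)
  have := orderOf_dvd_natCard (⟨_, hxD⟩ : F.D)
  rw [← orderOf_coe, F.card_D h] at this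
  have hxo : orderOf ((x : K) : G) = 13 := by rw [orderOf_coe]; exact hx
  rw [hxo] at this
  norm_num at this

end NData

end Cfsg.Agent.H55.Quat
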