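import Cfsg.Agent.H55.Quat.Core
import Mathlib.Data.Fintype.Perm
import Mathlib.Data.Fintype.Pi
import Mathlib.Data.Fintype.Prod
import Mathlib.GroupTheory.QuotientGroup.Basic

/-!
The five pairs of noncentral involutions of `E`, the fixed one and the action on the other four.
-/

set_option autoImplicit false
set_option linter.unusedSectionVars false
set_option linter.unusedVariables false

namespace Cfsg.Agent.H55.Quat

open Subgroup Equiv

variable {G : Type*} [Group G] [Finite G]

theorem gen4 : ∀ σ : Perm (Fin 4), ∃ i j k l : Fin 4,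
    σ = finRotate 4 ^ (i : ℕ) * (finRotate 4 ^ 3 * swap (0 : Fin 4) 1) ^ (j : ℕ) *
      finRotate 4 ^ (k : ℕ) * (finRotate 4 ^ 3 * swap (0 : Fin 4) 1) ^ (l : ℕ) := by
  decide +kernel

theorem rels4 : (finRotate 4 ^ 3 * swap (0 : Fin 4) 1) ^ 3 = 1 ∧
    (finRotate 4 * (finRotate 4 ^ 3 * swap (0 : Fin 4) 1)) ^ 2 = 1 ∧
    finRotate 4 ^ 4 = 1 ∧ finRotate 4 ^ 2 ≠ 1 ∧
    finRotate 4 ^ 3 * swap (0 : Fin 4) 1 ≠ 1 := by
  decide +kernel

set_option synthInstance.maxSize 4000 in
set_option synthInstance.maxHeartbeats 400000 in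
theorem fix5 : ∀ c : Perm (Fin 5), c ^ 4 = 1 → c ^ 2 ≠ 1 → ∀ d : Perm (Fin 5), d ^ 3 = 1 → d ≠ 1 →
    (c * d) ^ 2 = 1 → ∃ p, c p = p ∧ d p = p ∧
      ∀ q, q ≠ p → ∀ q', q' ≠ p → ∃ k : Fin 4, (c ^ (k : ℕ)) q = q' := by
  decide +kernel

/-- A noncentral involution of `E`. -/
def Sing (z : G) (E : Subgroup G) (x : G) : Prop := x ∈ E ∧ x * x = 1 ∧ x ≠ 1 ∧ x ≠ z

namespace Setup

variable {z : G} {E : Subgroup G} (h : Setup z E)

include h

theorem sing_z {x : G} (hx : Sing z E x) : Sing z E (x * z) := by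
  refine ⟨mul_mem hx.1 h.zE, ?_, fun e => hx.2.2.2 ?_, fun e => hx.2.2.1 ?_⟩
  · rw [show x * z * (x * z) = x * (z * x) * z by group, ← h.cz x hx.1,
      show x * (x * z) * z = (x * x) * (z * z) by group, hx.2.1, h.zz, mul_one]
  · rw [← h.mulzz x, e, one_mul]
  · rw [← h.mulzz x, e, h.zz]

theorem sing_conj {c x : G} (hc : c * z = z * c) (hx : Sing z E x) : Sing z E (c * x * c⁻¹) := by
  refine ⟨h.norm c hc x hx.1, by rw [conj_mul, hx.2.1]; group, fun e => hx.2.2.1
    (conj_eq_one_iff.mp e), fun e => hx.2.2.2 ?_⟩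
  calc x = c⁻¹ * (c * x * c⁻¹) * c := by group
    _ = c⁻¹ * (z * c) := by rw [e]; group
    _ = z := by rw [← hc]; group

theorem card_cen_inv {a : G} (ha : Sing z E a) :
    Nat.card ↥(E ⊓ centralizer ({a} : Set G)) = 16 := by
  have h1 := h.card_cen le_rfl ha.1
  have h2 := card_dvd_of_le (inf_le_left : E ⊓ centralizer ({a} : Set G) ≤ E)
  rw [h.card] at h1 h2
  have h3 : Nat.card ↥(E ⊓ centralizer ({a} : Set G)) ≠ 32 := fun e => by
    obtain ⟨y, hy, hya⟩ := h.exists_noncomm ha.1 ha.2.2.1 ha.2.2.2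
    refine h.ne_comm hya (mem_centralizer_singleton_iff.mp ((mem_inf.mp (?_ : y ∈ E ⊓ _)).2))
    rw [eq_of_le_of_card_ge (inf_le_left : E ⊓ centralizer ({a} : Set G) ≤ E)
      (by rw [e, h.card])]
    exact hy
  have h4 : Nat.card ↥(E ⊓ centralizer ({a} : Set G)) ≤ 32 := Nat.le_of_dvd (by norm_num) h2
  interval_cases (Nat.card ↥(E ⊓ centralizer ({a} : Set G))) <;> omega

theorem sq_mul {a y : G} (ha : Sing z E a) (hy : y ∈ E) (hya : y * a = z * (a * y)) :
    y * a * (y * a) = z * (y * y) := by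
  calc y * a * (y * a) = y * a * (z * (a * y)) := by rw [hya]
    _ = (y * a * z) * (a * y) := by group
    _ = z * (y * (a * a) * y) := by rw [h.cz _ (mul_mem hy ha.1)]; group
    _ = _ := by rw [ha.2.1, mul_one]

/-- Outside the centraliser of a noncentral involution `a`, every element is an involution or
becomes one after multiplying by `a`. -/
theorem inv_or {a y : G} (ha : Sing z E a) (hy : y ∈ E) (hya : y * a = z * (a * y)) :
    (Sing z E y ∧ y * a * (y * a) = z) ∨ (y * y = z ∧ Sing z E (y * a)) := by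
  have hne : y ≠ 1 ∧ y ≠ z := by
    constructor <;> rintro rfl <;> apply h.ne_comm hya
    · simp
    · exact (h.cz a ha.1).symm
  rcases h.sq y hy with e | e
  · exact Or.inl ⟨⟨hy, e, hne.1, hne.2⟩, by rw [h.sq_mul ha hy hya, e, mul_one]⟩
  · refine Or.inr ⟨e, mul_mem hy ha.1, by rw [h.sq_mul ha hy hya, e, h.zz], fun e' => ?_,
      fun e' => ?_⟩
    all_goals
      apply h.ne_comm hya
      have hy' : y = _ := eq_mul_inv_of_mul_eq e'
      rw [hy']
    · simp
    · rw [inv_mul_cancel_right, ← mul_assoc, h.cz a ha.1, mul_inv_cancel_right]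

/-- An element of `C(z)` fixing every pair is in `E`. -/
theorem mem_of_fix {c : G} (hc : c * z = z * c)
    (hfix : ∀ x, Sing z E x → c * x * c⁻¹ = x ∨ c * x * c⁻¹ = x * z) : c ∈ E := by
  classical
  obtain ⟨a, ha⟩ : ∃ a, Sing z E a := by
    obtain ⟨a, ha, h2, h1, hz⟩ := h.exists_inv
    exact ⟨a, ha, h2, h1, hz⟩
  have mod_mul : ∀ {u v : G}, u ∈ E → v ∈ E → (c * u * c⁻¹ = u ∨ c * u * c⁻¹ = u * z) →
      (c * v * c⁻¹ = v ∨ c * v * c⁻¹ = v * z) →
      c * (u * v) * c⁻¹ = u * v ∨ c * (u * v) * c⁻¹ = u * v * z := by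
    intro u v hu hv h1 h2
    rw [← conj_mul]
    rcases h1 with e1 | e1 <;> rcases h2 with e2 | e2 <;> rw [e1, e2]
    · exact Or.inl rfl
    · exact Or.inr (by group)
    · exact Or.inr (by rw [mul_assoc u z v, ← h.cz v hv]; group)
    · refine Or.inl ?_
      rw [mul_assoc u z, ← mul_assoc z v z, ← h.cz v hv, mul_assoc v z z, h.zz, mul_one]
  have hout : ∀ y ∈ E, y * a = z * (a * y) → c * y * c⁻¹ = y ∨ c * y * c⁻¹ = y * z := by
    intro y hy hya
    rcases h.inv_or ha hy hya with ⟨hs, -⟩ | ⟨-, hs⟩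
    · exact hfix y hs
    · have := mod_mul hs.1 ha.1 (hfix _ hs) (hfix a ha)
      rwa [show y * a * a = y by rw [mul_assoc, ha.2.1, mul_one]] at this
  obtain ⟨x, hx, hxa⟩ := h.exists_noncomm ha.1 ha.2.2.1 ha.2.2.2
  have hmod : ∀ y ∈ E, c * y * c⁻¹ = y ∨ c * y * c⁻¹ = y * z := by
    intro y hy
    by_cases hya : y * a = a * y
    · have e : (x * y) * a = z * (a * (x * y)) := by
        calc x * y * a = x * (y * a) := by group
          _ = (x * a) * y := by rw [hya]; group
          _ = _ := by rw [hxa]; group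
      have h1 := hout _ (mul_mem hx hy) e
      have h2 : c * x⁻¹ * c⁻¹ = x⁻¹ ∨ c * x⁻¹ * c⁻¹ = x⁻¹ * z := by
        rw [← conj_inv]
        rcases hout x hx hxa with e | e <;> rw [e]
        · exact Or.inl rfl
        · exact Or.inr (by rw [mul_inv_rev, h.z_inv, h.cz _ (inv_mem hx)])
      have := mod_mul (inv_mem hx) (mul_mem hx hy) h2 h1
      rwa [inv_mul_cancel_left] at this
    · exact hout y hy (h.noncomm hy ha.1 hya)
  -- a basis
  set K := E ⊓ centralizer ({a} : Set G) ⊓ centralizer ({x} : Set G) with hK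
  have hKE : ∀ {y}, y ∈ K ↔ y ∈ E ∧ y * a = a * y ∧ y * x = x * y := fun {y} => by
    simp [hK, mem_inf, mem_centralizer_singleton_iff, and_assoc]
  have hK8 : Nat.card K = 8 := by
    have h1 := h.card_cen_inv ha
    have h2 := h.card_cen (inf_le_left : E ⊓ centralizer ({a} : Set G) ≤ E) hx
    have h3 := card_dvd_of_le (inf_le_left : K ≤ E ⊓ centralizer ({a} : Set G))
    rw [h1] at h2 h3
    rw [← hK] at h2
    have h4 : Nat.card K ≠ 16 := fun e => by
      refine h.ne_comm hxa ?_
      have := eq_of_le_of_card_ge (inf_le_left : K ≤ E ⊓ centralizer ({a} : Set G)) (by rw [e, h1])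
      have ha' : a ∈ K := by
        rw [hK, this]; exact mem_inf.mpr ⟨ha.1, mem_centralizer_singleton_iff.mpr rfl⟩
      exact (hKE.mp ha').2.2.symm
    have h5 : Nat.card K ≤ 16 := Nat.le_of_dvd (by norm_num) h3
    interval_cases (Nat.card K) <;> omega
  -- correction by an anticommuting element
  have corr : ∀ {u v y : G}, u ∈ E → v ∈ E → y ∈ E → v * u = z * (u * v) →
      ∃ q, (q = 1 ∨ q = v) ∧ (q * y) * u = u * (q * y) := by
    intro u v y hu hv hy e
    by_cases hyu : y * u = u * y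
    · exact ⟨1, Or.inl rfl, by rw [one_mul, hyu]⟩
    · exact ⟨v, Or.inr rfl, h.comm_mul hv e (h.noncomm hy hu hyu)⟩
  have cm : ∀ {q y u : G}, q * u = u * q → y * u = u * y → (q * y) * u = u * (q * y) :=
    fun {q y u} h1 h2 => ((show Commute q u from h1).mul_left h2).eq
  have decAX : ∀ y ∈ E, ∃ p ∈ closure ({a, x} : Set G), p * y ∈ K := by
    intro y hy
    obtain ⟨q1, hq1, e1⟩ := corr ha.1 hx hy hxa
    have hq1E : q1 * y ∈ E := mul_mem (by rcases hq1 with rfl | rfl <;> [exact one_mem _; exact hx]) hy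
    obtain ⟨q2, hq2, e2⟩ := corr hx ha.1 hq1E (h.noncomm_symm hxa)
    refine ⟨q2 * q1, mul_mem ?_ ?_, ?_⟩
    · rcases hq2 with rfl | rfl <;> [exact one_mem _; exact subset_closure (by simp)]
    · rcases hq1 with rfl | rfl <;> [exact one_mem _; exact subset_closure (by simp)]
    rw [mul_assoc, hKE]
    refine ⟨mul_mem (by rcases hq2 with rfl | rfl <;> [exact one_mem _; exact ha.1]) hq1E, ?_, e2⟩
    exact cm (by rcases hq2 with rfl | rfl <;> simp) e1
  obtain ⟨k, hk, hk1, hkz⟩ := h.not_subset_pair (K := K) (by omega)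
  obtain ⟨hkE, hka, hkx⟩ := hKE.mp hk
  obtain ⟨l, hl, hlk⟩ : ∃ l ∈ K, l * k = z * (k * l) := by
    by_contra! hn
    rcases h.cQ k (h.cz k hkE) (fun y hy => by
      obtain ⟨p, hp, hpy⟩ := decAX y hy
      have hp' : p ∈ centralizer ({k} : Set G) := by
        refine (closure_le _).mpr ?_ hp
        rintro w (rfl | rfl) <;> exact mem_centralizer_singleton_iff.mpr (by first | exact hka.symm | exact hkx.symm)
      have h1 := (h.comm _ (hKE.mp hpy).1 k hkE).resolve_right (hn _ hpy)
      have h2 : Commute p⁻¹ k := (show Commute p k from mem_centralizer_singleton_iff.mp hp').inv_left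
      have := h2.mul_left h1
      rw [inv_mul_cancel_left] at this
      exact this) with e | e
    · exact hk1 e
    · exact hkz e
  obtain ⟨hlE, hla, hlx⟩ := hKE.mp hl
  have hK0 : ∀ m ∈ K, m * k = k * m → m * l = l * m → m = 1 ∨ m = z := by
    intro m hm hmk hml
    set Kk := K ⊓ centralizer ({k} : Set G) with hKk
    have hzK : z ∈ K := hKE.mpr ⟨h.zE, (h.cz a ha.1).symm, (h.cz x hx).symm⟩
    have hd : Nat.card Kk ∣ 8 := hK8 ▸ card_dvd_of_le inf_le_left
    have hne : Nat.card Kk ≠ 8 := fun e => by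
      have := eq_of_le_of_card_ge (inf_le_left : Kk ≤ K) (by rw [e, hK8])
      exact h.ne_comm hlk (mem_centralizer_singleton_iff.mp ((mem_inf.mp (show l ∈ Kk by rw [hKk, this]; exact hl)).2))
    have hle : Nat.card Kk ≤ 4 := by
      have := Nat.le_of_dvd (by norm_num) hd
      interval_cases (Nat.card Kk) <;> omega
    by_contra! hcon
    obtain ⟨hm1, hmz⟩ := hcon
    have mem : ∀ w ∈ K, w * k = k * w → w ∈ Kk := fun w h1 h2 =>
      mem_inf.mpr ⟨h1, mem_centralizer_singleton_iff.mpr h2⟩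
    have hkl : k * l ≠ l * k := (h.ne_comm hlk).symm
    have hmk' : m ≠ k := fun e => hkl (e ▸ hml)
    have hmkz : m ≠ k * z := fun e => hkl (by
      rw [e] at hml
      calc k * l = k * (z * z) * l := by rw [h.zz, mul_one]
        _ = k * z * (l * z) := by rw [h.cz l hlE]; group
        _ = k * z * l * z := by group
        _ = l * (k * z) * z := by rw [hml]
        _ = l * k := by rw [show l * (k * z) * z = l * k * (z * z) by group, h.zz, mul_one])
    let g : Fin 5 → Kk := ![1, ⟨z, mem z hzK (h.cz k hkE).symm⟩, ⟨k, mem k hk rfl⟩,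
      ⟨k * z, mem _ (mul_mem hk hzK) (by rw [mul_assoc, ← h.cz k hkE])⟩, ⟨m, mem m hm hmk⟩]
    have hg : Function.Injective g := by
      have a1 := h.z_ne_one
      have a2 : k * z ≠ 1 := fun e => hkz (by rw [← h.mulzz k, e, one_mul])
      have a3 : k * z ≠ z := fun e => hk1 (by rw [← h.mulzz k, e, h.zz])
      have a4 := h.mulz_ne k
      intro i j e
      have e' := congrArg Subtype.val e
      fin_cases i <;> fin_cases j <;> simp [g] at e' <;>
        first | rfl | exact absurd e' a1 | exact absurd e'.symm a1 | exact absurd e' hk1 |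
          exact absurd e'.symm hk1 | exact absurd e' hkz | exact absurd e'.symm hkz |
          exact absurd e' a2 | exact absurd e'.symm a2 | exact absurd e' a3 |
          exact absurd e'.symm a3 | exact absurd e' hm1 | exact absurd e'.symm hm1 |
          exact absurd e' hmz | exact absurd e'.symm hmz | exact absurd e' a4 |
          exact absurd e'.symm a4 | exact absurd e' hmk' | exact absurd e'.symm hmk' |
          exact absurd e' hmkz | exact absurd e'.symm hmkz
    have := Nat.card_le_card_of_injective g hg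
    rw [Nat.card_eq_fintype_card, Fintype.card_fin] at this
    omega
  -- correct `c` to fix the basis
  have fixer : ∀ {d u v : G}, d * z = z * d → v ∈ E → v * u = z * (u * v) → u ∈ E →
      (d * u * d⁻¹ = u ∨ d * u * d⁻¹ = u * z) →
      ∃ q, (q = 1 ∨ q = v) ∧ (q * d) * u = u * (q * d) := by
    intro d u v hd hv e hu hm
    rcases hm with e1 | e1
    · exact ⟨1, Or.inl rfl, by rw [one_mul]; exact mul_inv_eq_iff_eq_mul.mp e1⟩
    · refine ⟨v, Or.inr rfl, mul_inv_eq_iff_eq_mul.mp ?_⟩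
      rw [show v * d * u * (v * d)⁻¹ = v * (d * u * d⁻¹) * v⁻¹ by group, e1,
        h.conj_z (h.cz v hv), h.conj_noncomm hu e, h.mulzz]
  have hstep : ∀ {q d : G}, q ∈ E → (∀ y ∈ E, d * y * d⁻¹ = y ∨ d * y * d⁻¹ = y * z) →
      ∀ y ∈ E, q * d * y * (q * d)⁻¹ = y ∨ q * d * y * (q * d)⁻¹ = y * z := by
    intro q d hq hd y hy
    rw [show q * d * y * (q * d)⁻¹ = q * (d * y * d⁻¹) * q⁻¹ by group]
    rcases hd y hy with e | e <;> rw [e]
    · exact h.conj_E hq hy
    · rw [h.conj_z (h.cz q hq)]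
      rcases h.conj_E hq hy with e' | e' <;> rw [e']
      · exact Or.inr rfl
      · exact Or.inl (h.mulzz y)
  have hzc : ∀ {q d : G}, q ∈ E → d * z = z * d → (q * d) * z = z * (q * d) := fun hq hd =>
    cm (h.cz _ hq) hd
  obtain ⟨q1, hq1, f1⟩ := fixer hc hx hxa ha.1 (hmod a ha.1)
  have m1E : q1 ∈ E := by rcases hq1 with rfl | rfl <;> [exact one_mem _; exact hx]
  obtain ⟨q2, hq2, f2⟩ := fixer (hzc m1E hc) ha.1 (h.noncomm_symm hxa) hx (hstep m1E hmod x hx)
  have m2E : q2 ∈ E := by rcases hq2 with rfl | rfl <;> [exact one_mem _; exact ha.1]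
  have f2a : q2 * (q1 * c) * a = a * (q2 * (q1 * c)) :=
    cm (by rcases hq2 with rfl | rfl <;> simp) f1
  obtain ⟨q3, hq3, f3⟩ := fixer (hzc m2E (hzc m1E hc)) hlE hlk hkE
    (hstep m2E (hstep m1E hmod) k hkE)
  have m3E : q3 ∈ E := by rcases hq3 with rfl | rfl <;> [exact one_mem _; exact hlE]
  obtain ⟨q4, hq4, f4⟩ := fixer (hzc m3E (hzc m2E (hzc m1E hc))) hkE (h.noncomm_symm hlk) hlE
    (hstep m3E (hstep m2E (hstep m1E hmod)) l hlE)
  have m4E : q4 ∈ E := by rcases hq4 with rfl | rfl <;> [exact one_mem _; exact hkE]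
  set d := q4 * (q3 * (q2 * (q1 * c))) with hd
  have da : d * a = a * d := cm (by rcases hq4 with rfl | rfl <;> simp [hka])
    (cm (by rcases hq3 with rfl | rfl <;> simp [hla]) f2a)
  have dx : d * x = x * d := cm (by rcases hq4 with rfl | rfl <;> simp [hkx])
    (cm (by rcases hq3 with rfl | rfl <;> simp [hlx]) f2)
  have dk : d * k = k * d := cm (by rcases hq4 with rfl | rfl <;> simp) f3
  have dz : d * z = z * d := hzc m4E (hzc m3E (hzc m2E (hzc m1E hc)))
  have hall : ∀ y ∈ E, y * d = d * y := by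
    intro y hy
    obtain ⟨p, hp, hpy⟩ := decAX y hy
    obtain ⟨hpyE, hpa, hpx⟩ := hKE.mp hpy
    obtain ⟨r1, hr1, e1⟩ := corr hkE hlE hpyE hlk
    have hr1K : r1 * (p * y) ∈ K := mul_mem (by rcases hr1 with rfl | rfl <;> [exact one_mem _; exact hl]) hpy
    obtain ⟨r2, hr2, e2⟩ := corr hlE hkE (hKE.mp hr1K).1 (h.noncomm_symm hlk)
    have hr2K : r2 * (r1 * (p * y)) ∈ K :=
      mul_mem (by rcases hr2 with rfl | rfl <;> [exact one_mem _; exact hk]) hr1K
    have hd0 : Commute (r2 * (r1 * (p * y))) d := by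
      rcases hK0 _ hr2K (cm (by rcases hr2 with rfl | rfl <;> simp) e1) e2 with e | e <;> rw [e]
      · exact Commute.one_left d
      · exact dz.symm
    have c1 : Commute r1⁻¹ d := by
      rcases hr1 with e | e <;> rw [e]
      · rw [inv_one]; exact Commute.one_left d
      · exact (show Commute l d from f4.symm).inv_left
    have c2 : Commute r2⁻¹ d := by
      rcases hr2 with e | e <;> rw [e]
      · rw [inv_one]; exact Commute.one_left d
      · exact (show Commute k d from dk.symm).inv_left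
    have c3 : Commute p⁻¹ d := by
      refine (show Commute p d from ?_).inv_left
      exact mem_centralizer_singleton_iff.mp (show p ∈ centralizer ({d} : Set G) from by
        refine (closure_le _).mpr ?_ hp
        rintro w (rfl | rfl) <;>
          exact mem_centralizer_singleton_iff.mpr (by first | exact da.symm | exact dx.symm))
    have := c3.mul_left (c1.mul_left (c2.mul_left hd0))
    simp only [inv_mul_cancel_left] at this
    exact this
  have hcE : q4 * (q3 * (q2 * q1)) ∈ E := mul_mem m4E (mul_mem m3E (mul_mem m2E m1E))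
  have hdE : d ∈ E := by
    rcases h.cQ d dz hall with e | e <;> rw [e]
    · exact one_mem _
    · exact h.zE
  have := mul_mem (inv_mem hcE) hdE
  rwa [show (q4 * (q3 * (q2 * q1)))⁻¹ * d = c by rw [hd]; group] at this

end Setup

end Cfsg.Agent.H55.Quat
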