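import Cfsg.Agent.H55.Quat.Main
import Mathlib.GroupTheory.FixedPointFree

/-!
Removing the odd core.
-/

set_option autoImplicit false
set_option linter.unusedSectionVars false
set_option linter.unusedVariables false
set_option linter.style.haveILetI false
set_option linter.unusedSimpArgs false

namespace Cfsg.Agent.H55.Quat

open Subgroup Equiv

variable {G : Type*} [Group G] [Finite G] {z : G} {E : Subgroup G}

namespace Setup

variable (h : Setup z E)

include h

theorem core_inter {x : G} (hx : x ∈ Cfsg.oddCore G) (hxE : x ∈ E) : x = 1 := by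
  haveI : Fact (Nat.Prime 2) := ⟨Nat.prime_two⟩
  have h1 := orderOf_dvd_natCard (⟨x, hx⟩ : Cfsg.oddCore G)
  have h2 := orderOf_dvd_natCard (⟨x, hxE⟩ : E)
  rw [Subgroup.orderOf_mk] at h1 h2
  rw [h.card] at h2
  have hodd := Cores.odd_card_oddCore (G := G)
  have hco : Nat.Coprime (Nat.card (Cfsg.oddCore G)) 32 := by
    rw [show (32 : ℕ) = 2 ^ 5 from rfl]
    exact (Nat.coprime_two_right.mpr hodd).pow_right 5
  exact orderOf_eq_one_iff.mp (Nat.dvd_one.mp ((Nat.dvd_gcd h1 h2).trans (Nat.dvd_one.mpr hco)))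

theorem core_fix {x : G} (hx : x ∈ Cfsg.oddCore G) (hxz : x * z = z * x) : x = 1 := by
  have hall : ∀ q ∈ E, q * x = x * q := by
    intro q hq
    have h1 : x * q * x⁻¹ * q⁻¹ = 1 := by
      refine h.core_inter ?_ (mul_mem (h.norm x hxz q hq) (inv_mem hq))
      rw [show x * q * x⁻¹ * q⁻¹ = x * (q * x⁻¹ * q⁻¹) by group]
      exact mul_mem hx ((inferInstance : (Cfsg.oddCore G).Normal).conj_mem _ (inv_mem hx) q)
    exact (mul_inv_eq_iff_eq_mul.mp (mul_inv_eq_one.mp h1)).symm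
  rcases h.cQ x hxz hall with e | e
  · exact e
  · exact h.core_inter hx (e ▸ h.zE)

theorem core_inv {x : G} (hx : x ∈ Cfsg.oddCore G) : z * x * z⁻¹ = x⁻¹ := by
  let φ : Cfsg.oddCore G →* Cfsg.oddCore G := (MulAut.conjNormal z : MulAut (Cfsg.oddCore G)).toMonoidHom
  have hfree : MonoidHom.FixedPointFree φ := by
    intro u hu
    have hu' : z * (u : G) * z⁻¹ = u := congrArg Subtype.val hu
    exact Subtype.ext (h.core_fix u.2 (mul_inv_eq_iff_eq_mul.mp hu').symm)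
  have hinvol : Function.Involutive φ := fun u => Subtype.ext (by
    show z * (z * (u : G) * z⁻¹) * z⁻¹ = u
    rw [show z * (z * (u : G) * z⁻¹) * z⁻¹ = (z * z) * u * (z * z)⁻¹ by group, h.zz]; group)
  exact congrArg Subtype.val (congrFun (hfree.coe_eq_inv_of_involutive hinvol) ⟨x, hx⟩)

theorem core_comm {x y : G} (hx : x ∈ Cfsg.oddCore G) (hy : y ∈ Cfsg.oddCore G) : x * y = y * x := by
  have e := h.core_inv (mul_mem hx hy)
  rw [← conj_mul, h.core_inv hx, h.core_inv hy, mul_inv_rev] at e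
  calc x * y = (y⁻¹ * x⁻¹)⁻¹ := by group
    _ = (x⁻¹ * y⁻¹)⁻¹ := by rw [e]
    _ = y * x := by group

theorem core_commutative : IsMulCommutative ↥(Cfsg.oddCore G) :=
  ⟨⟨fun a b => Subtype.ext (h.core_comm a.2 b.2)⟩⟩

/-- Lifting of elements centralising `z` modulo the core. -/
theorem lift {x : G} (hx : x * z * x⁻¹ * z⁻¹ ∈ Cfsg.oddCore G) :
    ∃ c, c * z = z * c ∧ c⁻¹ * x ∈ Cfsg.oddCore G := by
  obtain ⟨m, hm⟩ := Cores.odd_card_oddCore (G := G)
  set o := x * z * x⁻¹ * z⁻¹ with ho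
  set s := o ^ (m + 1) with hs
  have hsO : s ∈ Cfsg.oddCore G := pow_mem hx _
  have ho1 : o ^ (2 * m + 1) = 1 := by
    rw [← hm]; exact congrArg Subtype.val (pow_card_eq_one' (x := (⟨o, hx⟩ : Cfsg.oddCore G)))
  have hss : s * s = o := by
    rw [hs, ← pow_add, show m + 1 + (m + 1) = (2 * m + 1) + 1 by ring, pow_succ, ho1, one_mul]
  have hinv := h.core_inv (inv_mem hsO)
  rw [inv_inv] at hinv
  refine ⟨s⁻¹ * x, mul_inv_eq_iff_eq_mul.mp ?_, ?_⟩
  · rw [show s⁻¹ * x * z * (s⁻¹ * x)⁻¹ = s⁻¹ * o * (z * s * z⁻¹) * z by rw [ho]; group,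
      h.core_inv hsO, ← hss]
    group
  · rw [show (s⁻¹ * x)⁻¹ * x = x⁻¹ * s * x by group]
    have := (inferInstance : (Cfsg.oddCore G).Normal).conj_mem s hsO x⁻¹
    rwa [inv_inv] at this

theorem quot : Setup (QuotientGroup.mk z : G ⧸ Cfsg.oddCore G)
    (E.map (QuotientGroup.mk' (Cfsg.oddCore G))) := by
  set O := Cfsg.oddCore G
  have inj : ∀ {a b : G}, a ∈ E → b ∈ E → (a : G ⧸ O) = b → a = b := fun {a b} ha hb e =>
    inv_mul_eq_one.mp (h.core_inter (QuotientGroup.eq.mp e) (mul_mem (inv_mem ha) hb))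
  have hmap : ∀ {q : G}, q ∈ E → (q : G ⧸ O) ∈ E.map (QuotientGroup.mk' O) := fun {q} hq => ⟨q, hq, rfl⟩
  have cent : ∀ c : G ⧸ O, c * (z : G ⧸ O) = (z : G ⧸ O) * c → ∃ c0 : G, c0 * z = z * c0 ∧ (c0 : G ⧸ O) = c := by
    intro c hc
    obtain ⟨x, rfl⟩ := QuotientGroup.mk_surjective c
    obtain ⟨c0, h1, h2⟩ := h.lift (x := x) ((QuotientGroup.eq_one_iff _).mp (by
      simp only [QuotientGroup.mk_mul, QuotientGroup.mk_inv]
      rw [hc, mul_inv_cancel_right, mul_inv_cancel]))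
    exact ⟨c0, h1, QuotientGroup.eq.mpr h2⟩
  refine ⟨?_, ?_, hmap h.zE, ?_, ?_, ?_, ?_, ?_, ?_⟩
  · haveI : Fact (Nat.Prime 2) := ⟨Nat.prime_two⟩
    refine orderOf_eq_prime (by rw [pow_two, ← QuotientGroup.mk_mul, h.zz, QuotientGroup.mk_one]) fun e => ?_
    exact h.z_ne_one (inj h.zE (one_mem _) e)
  · rw [← h.card]
    refine (Nat.card_eq_of_bijective (fun q : E => (⟨(q : G), hmap q.2⟩ : E.map (QuotientGroup.mk' O))) ⟨?_, ?_⟩).symm
    · exact fun a b e => Subtype.ext (inj a.2 b.2 (congrArg Subtype.val e))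
    · rintro ⟨_, q, hq, rfl⟩; exact ⟨⟨q, hq⟩, rfl⟩
  · rintro _ ⟨q, hq, rfl⟩
    show (q : G ⧸ O) * (z : G ⧸ O) = (z : G ⧸ O) * q
    rw [← QuotientGroup.mk_mul, ← QuotientGroup.mk_mul, h.cz q hq]
  · intro c hc hall
    obtain ⟨c0, h1, rfl⟩ := cent c hc
    rcases h.cQ c0 h1 (fun q hq => by
      have e := hall _ (hmap hq)
      have : c0 * q * c0⁻¹ = q := inj (h.norm c0 h1 q hq) hq (by
        simp only [QuotientGroup.mk_mul, QuotientGroup.mk_inv]
        rw [← e, mul_inv_cancel_right])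
      exact (mul_inv_eq_iff_eq_mul.mp this).symm) with e | e <;> rw [e]
    · exact Or.inl rfl
    · exact Or.inr rfl
  · rintro c hc _ ⟨q, hq, rfl⟩
    obtain ⟨c0, h1, rfl⟩ := cent c hc
    exact ⟨c0 * q * c0⁻¹, h.norm c0 h1 q hq, rfl⟩
  · rintro _ ⟨q, hq, rfl⟩
    rcases h.sq q hq with e | e
    · exact Or.inl (by rw [← map_mul, e, map_one])
    · exact Or.inr (by rw [← map_mul, e]; rfl)
  · rintro _ ⟨q, hq, rfl⟩ _ ⟨r, hr, rfl⟩
    rcases h.comm q hq r hr with e | e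
    · exact Or.inl (by rw [← map_mul, e, map_mul])
    · exact Or.inr (by rw [← map_mul, e, map_mul, map_mul]; rfl)
  · rintro _ ⟨a, ha, rfl⟩ _ ⟨b, hb, rfl⟩ ha2 hb2 hab ha1 haz
    have e1 : a * a = 1 := inj (mul_mem ha ha) (one_mem _) (by simpa using ha2)
    have e2 : b * b = 1 := inj (mul_mem hb hb) (one_mem _) (by simpa using hb2)
    have e3 : a * b = b * a := inj (mul_mem ha hb) (mul_mem hb ha) (by simpa using hab)
    rcases h.rank a ha b hb e1 e2 e3 (fun e => ha1 (by rw [e, map_one])) (fun e => haz (by rw [e]; rfl))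
      with e | e | e | e <;> rw [e]
    · exact Or.inl (map_one _)
    · exact Or.inr (Or.inl rfl)
    · exact Or.inr (Or.inr (Or.inl rfl))
    · exact Or.inr (Or.inr (Or.inr (map_mul _ _ _)))

/-- In a nonsolvable group the odd core is trivial. -/
theorem core_bot (π0 : ↥(centralizer ({z} : Set G)) →* Perm (Fin 4)) (hsurj : Function.Surjective π0)
    (hker : ∀ c, π0 c = 1 ↔ (c : G) ∈ E) (hns : ¬ Group.IsSolvable G) : Cfsg.oddCore G = ⊥ := by
  classical
  haveI : Fact (Nat.Prime 2) := ⟨Nat.prime_two⟩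
  set O := Cfsg.oddCore G with hOdef
  have hq := h.quot
  set mk' := QuotientGroup.mk' O with hmk
  -- `C(z)` maps onto the centraliser in the quotient
  let H := centralizer ({z} : Set G)
  let Hb := centralizer ({(z : G ⧸ O)} : Set (G ⧸ O))
  let p : H →* Hb := (mk'.comp H.subtype).codRestrict Hb fun x => by
    rw [mem_centralizer_singleton_iff]
    show ((x : G) : G ⧸ O) * (z : G ⧸ O) = (z : G ⧸ O) * ((x : G) : G ⧸ O)
    rw [← QuotientGroup.mk_mul, ← QuotientGroup.mk_mul, mem_centralizer_singleton_iff.mp x.2]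
  have hpi : Function.Injective p := by
    refine (injective_iff_map_eq_one _).mpr fun x hx => Subtype.ext ?_
    exact h.core_fix ((QuotientGroup.eq_one_iff _).mp (congrArg Subtype.val hx))
      (mem_centralizer_singleton_iff.mp x.2)
  have hps : Function.Surjective p := by
    rintro ⟨c, hc⟩
    obtain ⟨x, rfl⟩ := QuotientGroup.mk_surjective c
    obtain ⟨c0, h1, h2⟩ := h.lift (x := x) ((QuotientGroup.eq_one_iff _).mp (by
      simp only [QuotientGroup.mk_mul, QuotientGroup.mk_inv]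
      rw [mem_centralizer_singleton_iff.mp hc, mul_inv_cancel_right, mul_inv_cancel]))
    exact ⟨⟨c0, mem_centralizer_singleton_iff.mpr h1⟩, Subtype.ext (QuotientGroup.eq.mpr h2)⟩
  let pe : H ≃* Hb := MulEquiv.ofBijective p ⟨hpi, hps⟩
  obtain ⟨F⟩ := exists_frame hq (π0.comp pe.symm.toMonoidHom) (hsurj.comp pe.symm.surjective) (by
    intro c
    obtain ⟨x, rfl⟩ := pe.surjective c
    show π0 (pe.symm (pe x)) = 1 ↔ _
    rw [MulEquiv.symm_apply_apply, hker]
    refine ⟨fun hx => ⟨x, hx, rfl⟩, fun ⟨q, hq', e⟩ => ?_⟩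
    have hxq : x = ⟨q, mem_centralizer_singleton_iff.mpr (h.cz q hq')⟩ := pe.injective (Subtype.ext e.symm)
    rw [hxq]; exact hq')
  haveI : IsMulCommutative ↥O := h.core_commutative
  have hnsq : ¬ Group.IsSolvable (G ⧸ O) := fun hs => hns (by
    haveI := hs
    haveI : Group.IsSolvable ↥O := Group.isSolvable_of_comm fun a b => Subtype.ext (h.core_comm a.2 b.2)
    exact Group.isSolvable_of_ker_le_range O.subtype mk' (by rw [hmk, QuotientGroup.ker_mk', range_subtype]))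
  obtain ⟨N, hN⟩ := exists_ndata hq F Cores.pPrimeCore_quotient_pPrimeCore hnsq
  obtain ⟨y, hy⟩ := hN.exists_ydata hq
  obtain ⟨a, ha, hae⟩ := F.he.1
  obtain ⟨g, rfl⟩ := QuotientGroup.mk_surjective y
  -- both `a` and `a z` invert the core
  have inv_of : ∀ (b c : G), (c : G ⧸ O) * (z : G ⧸ O) * (c : G ⧸ O)⁻¹ = (b : G ⧸ O) →
      ∀ o ∈ O, b * o * b⁻¹ = o⁻¹ := by
    intro b c e o ho
    have hd : (c * z * c⁻¹)⁻¹ * b ∈ O := QuotientGroup.eq.mp (by simp only [QuotientGroup.mk_mul, QuotientGroup.mk_inv]; exact e)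
    set d := (c * z * c⁻¹)⁻¹ * b with hdd
    have hb : b = c * z * c⁻¹ * d := by rw [hdd]; group
    have ho' : c⁻¹ * o * c ∈ O := by
      have := (inferInstance : O.Normal).conj_mem o ho c⁻¹
      rwa [inv_inv] at this
    rw [hb, show c * z * c⁻¹ * d * o * (c * z * c⁻¹ * d)⁻¹ = c * z * c⁻¹ * (d * o * d⁻¹) * (c * z * c⁻¹)⁻¹ by group,
      h.core_comm hd ho, mul_inv_cancel_right,
      show c * z * c⁻¹ * o * (c * z * c⁻¹)⁻¹ = c * (z * (c⁻¹ * o * c) * z⁻¹) * c⁻¹ by group, h.core_inv ho']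
    group
  have ha' : (a : G ⧸ O) = F.e := hae
  have i1 := inv_of a g (by rw [ha']; exact hy.yz)
  have i2 := inv_of (a * z) (g * g) (by
    simp only [QuotientGroup.mk_mul, QuotientGroup.mk_inv]
    rw [show (g : G ⧸ O) * g * (z : G ⧸ O) * ((g : G ⧸ O) * g)⁻¹ =
      (g : G ⧸ O) * ((g : G ⧸ O) * z * (g : G ⧸ O)⁻¹) * (g : G ⧸ O)⁻¹ by group, hy.yz, hy.ye, ha'])
  rw [eq_bot_iff]
  intro o ho
  have e := i2 o ho
  rw [show a * z * o * (a * z)⁻¹ = a * (z * o * z⁻¹) * a⁻¹ by group, h.core_inv ho,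
    i1 _ (inv_mem ho), inv_inv] at e
  -- so every element is an involution of odd order
  have h2 : orderOf (⟨o, ho⟩ : O) ∣ 2 := orderOf_dvd_of_pow_eq_one (Subtype.ext (by
    rw [SubmonoidClass.coe_pow, pow_two, coe_one]
    calc o * o = o⁻¹ * o := by nth_rw 1 [e]
      _ = 1 := inv_mul_cancel o))
  rcases (Nat.dvd_prime Nat.prime_two).mp h2 with e' | e'
  · exact mem_bot.mpr (congrArg Subtype.val (orderOf_eq_one_iff.mp e'))
  · have hd := e' ▸ orderOf_dvd_natCard (⟨o, ho⟩ : O)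
    exact absurd (even_iff_two_dvd.mpr hd) (Nat.not_even_iff_odd.mpr Cores.odd_card_oddCore)

end Setup

end Cfsg.Agent.H55.Quat
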