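import Cfsg.Agent.H55.Quat.Local

/-!
Orders of the subgroups of `C(z)`, the element `om` of order three and its action on `U`.
-/

set_option autoImplicit false
set_option linter.unusedSectionVars false
set_option linter.unusedVariables false

namespace Cfsg.Agent.H55.Quat

open Subgroup Equiv

variable {G : Type*} [Group G] [Finite G] {z : G} {E : Subgroup G}

theorem card_comap_surj {X Y : Type*} [Group X] [Finite X] [Group Y] (φ : X →* Y)
    (hs : Function.Surjective φ) (K : Subgroup Y) :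
    Nat.card ↥(K.comap φ) = Nat.card ↥φ.ker * Nat.card K := by
  have h1 := (K.comap φ).card_mul_index
  rw [index_comap_of_surjective K hs, ← φ.ker.card_mul_index, index_ker,
    MonoidHom.range_eq_top.mpr hs, card_top, ← K.card_mul_index, ← mul_assoc] at h1
  exact Nat.eq_of_mul_eq_mul_right (Nat.pos_of_ne_zero (by
    rw [Ne, ← index_comap_of_surjective K hs]; exact index_ne_zero_of_finite)) h1

variable (h : Setup z E) (F : Frame z E)

namespace Frame

include h F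

theorem E4_le_U : F.E4 ≤ F.U := fun q hq => by
  obtain ⟨h1, h2⟩ := F.mem_E4.mp hq
  exact F.mem_U.mpr ⟨F.mem_H1.mpr ⟨h.cz q h1, h2⟩, Or.inl (F.π_E h h1)⟩

theorem z_mem_E4 : z ∈ F.E4 := F.mem_E4.mpr ⟨h.zE, (F.e_z h).symm⟩

theorem e_mem_E4 : F.e ∈ F.E4 := F.mem_E4.mpr ⟨F.he.1, rfl⟩

theorem z_mem_U : z ∈ F.U := F.E4_le_U h (F.z_mem_E4 h)

theorem e_mem_U : F.e ∈ F.U := F.E4_le_U h (F.e_mem_E4 h)

theorem card_E4 : Nat.card F.E4 = 16 := h.card_cen_inv F.he

theorem mul_f_mem {x : G} (hc : x * z = z * x) (hn : x * F.e ≠ F.e * x) (i : Fin 4) :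
    x * F.f i ∈ F.H1 := by
  refine F.mem_H1.mpr ⟨((show Commute x z from hc).mul_left (F.f_z h i)).eq,
    mul_inv_eq_iff_eq_mul.mp ?_⟩
  have e1 : x * F.e * x⁻¹ = F.e * z :=
    (F.conj_e x hc).resolve_left fun e => hn (mul_inv_eq_iff_eq_mul.mp e)
  rw [show x * F.f i * F.e * (x * F.f i)⁻¹ = x * (F.f i * F.e * (F.f i)⁻¹) * x⁻¹ by group,
    F.f_conj_e h, h.conj_z hc, e1, h.mulzz]

theorem πH1_surj : Function.Surjective F.πH1 := by
  intro σ
  obtain ⟨c, hc, rfl⟩ := F.π_surj σ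
  by_cases hce : c * F.e = F.e * c
  · exact ⟨⟨c, F.mem_H1.mpr ⟨hc, hce⟩⟩, rfl⟩
  · refine ⟨⟨c * F.f 0, F.mul_f_mem h hc hce 0⟩, ?_⟩
    show F.π (c * F.f 0) = F.π c
    rw [F.π_mul _ _ hc (F.f_z h 0), F.π_E h (F.hf 0).1, mul_one]

theorem card_ker : Nat.card ↥F.πH1.ker = 16 := by
  rw [← F.card_E4 h, ← card_map_of_injective F.H1.subtype_injective (K := F.πH1.ker)]
  congr 2
  ext x
  constructor
  · rintro ⟨y, hy, rfl⟩
    exact F.mem_E4.mpr ⟨(F.π_one _ (F.mem_H1.mp y.2).1).mp hy, (F.mem_H1.mp y.2).2⟩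
  · intro hx
    obtain ⟨h1, h2⟩ := F.mem_E4.mp hx
    exact ⟨⟨x, F.mem_H1.mpr ⟨h.cz x h1, h2⟩⟩, F.π_E h h1, rfl⟩

theorem card_H1 : Nat.card F.H1 = 384 := by
  have h1 := card_comap_surj F.πH1 (F.πH1_surj h) ⊤
  rw [comap_top, card_top, card_top, F.card_ker h, Nat.card_eq_fintype_card (α := Perm (Fin 4)),
    Fintype.card_perm, Fintype.card_fin] at h1
  exact h1

theorem card_U : Nat.card F.U = 64 := by
  rw [U, card_map_of_injective F.H1.subtype_injective, card_comap_surj _ (F.πH1_surj h),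
    F.card_ker h, card_V4]

theorem card_D : Nat.card F.D = 192 := by
  rw [D, card_map_of_injective F.H1.subtype_injective, card_comap_surj _ (F.πH1_surj h),
    F.card_ker h, nat_card_alternatingGroup, Nat.card_eq_fintype_card, Fintype.card_fin]
  rfl

theorem card_H : Nat.card ↥(centralizer ({z} : Set G)) = 768 := by
  classical
  let g : F.H1 × Bool → ↥(centralizer ({z} : Set G)) := fun q =>
    ⟨(q.1 : G) * (if q.2 then F.f 0 else 1), mem_centralizer_singleton_iff.mpr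
      ((show Commute (q.1 : G) z from (F.mem_H1.mp q.1.2).1).mul_left (by
        split_ifs
        · exact F.f_z h 0
        · exact Commute.one_left z)).eq⟩
  have hg : Function.Bijective g := by
    constructor
    · rintro ⟨a, s⟩ ⟨b, t⟩ e
      have e' : (a : G) * (if s then F.f 0 else 1) = (b : G) * (if t then F.f 0 else 1) :=
        congrArg Subtype.val e
      cases s <;> cases t <;> simp only [Bool.false_eq_true, if_false, if_true, mul_one] at e'
      · rw [Subtype.ext e']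
      · refine absurd ?_ (F.f_notMem_H1 h 0)
        rw [← inv_mul_cancel_left (b : G) (F.f 0), ← e']
        exact mul_mem (inv_mem b.2) a.2
      · refine absurd ?_ (F.f_notMem_H1 h 0)
        rw [← inv_mul_cancel_left (a : G) (F.f 0), e']
        exact mul_mem (inv_mem a.2) b.2
      · rw [Subtype.ext (mul_right_cancel e')]
    · rintro ⟨x, hx⟩
      have hx' := mem_centralizer_singleton_iff.mp hx
      by_cases hxe : x * F.e = F.e * x
      · exact ⟨(⟨x, F.mem_H1.mpr ⟨hx', hxe⟩⟩, false), Subtype.ext (mul_one x)⟩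
      · exact ⟨(⟨x * F.f 0, F.mul_f_mem h hx' hxe 0⟩, true), Subtype.ext
          (show x * F.f 0 * F.f 0 = x by rw [mul_assoc, (F.hf 0).2.1, mul_one])⟩
  rw [← Nat.card_eq_of_bijective g hg, Nat.card_prod, F.card_H1 h,
    Nat.card_eq_fintype_card (α := Bool), Fintype.card_bool]

theorem conj_H1 {c x : G} (hc : c * z = z * c) (hx : x ∈ F.H1) : c * x * c⁻¹ ∈ F.H1 := by
  obtain ⟨h1, h2⟩ := F.mem_H1.mp hx
  have hci : c * z * c⁻¹ = z := by rw [hc, mul_inv_cancel_right]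
  have key : ∀ y, x * y * x⁻¹ = y → (c * x * c⁻¹) * (c * y * c⁻¹) * (c * x * c⁻¹)⁻¹ = c * y * c⁻¹ :=
    fun y e => by conv_rhs => rw [← e]
                  group
  refine F.mem_H1.mpr ⟨mul_inv_eq_iff_eq_mul.mp ?_, mul_inv_eq_iff_eq_mul.mp ?_⟩
  · have := key z (mul_inv_eq_iff_eq_mul.mpr h1)
    rwa [hci] at this
  · obtain ⟨t, ht⟩ := sim_iff.mp (F.conj_e c⁻¹ ((show Commute c z from hc).inv_left.eq))
    have hy : x * (c⁻¹ * F.e * (c⁻¹)⁻¹) * x⁻¹ = c⁻¹ * F.e * (c⁻¹)⁻¹ := by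
      rw [ht, show x * (F.e * zb z t) * x⁻¹ = (x * F.e) * zb z t * x⁻¹ by group, h2,
        mul_assoc F.e x, h.zb_comm h1, ← mul_assoc, mul_inv_cancel_right]
    have := key _ hy
    rwa [show c * (c⁻¹ * F.e * (c⁻¹)⁻¹) * c⁻¹ = F.e by group] at this

theorem π_conj {c x : G} (hc : c * z = z * c) (hx : x * z = z * x) :
    F.π (c * x * c⁻¹) = F.π c * F.π x * (F.π c)⁻¹ := by
  rw [F.π_mul _ _ ((show Commute c z from hc).mul_left hx).eq ((show Commute c z from hc).inv_left.eq),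
    F.π_mul _ _ hc hx, F.π_inv hc]

theorem conj_U {c x : G} (hc : c * z = z * c) (hx : x ∈ F.U) : c * x * c⁻¹ ∈ F.U := by
  obtain ⟨h1, h2⟩ := F.mem_U.mp hx
  exact F.mem_U.mpr ⟨F.conj_H1 h hc h1, by
    rw [F.π_conj h hc (F.mem_H1.mp h1).1]; exact dbl_conj _ _ h2⟩

theorem conj_D {c x : G} (hc : c * z = z * c) (hx : x ∈ F.D) : c * x * c⁻¹ ∈ F.D := by
  obtain ⟨h1, h2⟩ := F.mem_D.mp hx
  exact F.mem_D.mpr ⟨F.conj_H1 h hc h1, by
    rw [F.π_conj h hc (F.mem_H1.mp h1).1, map_mul, map_mul, map_inv, h2, mul_one, mul_inv_cancel]⟩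

theorem sq_comm_e {x : G} (hx : x * z = z * x) : (x * x) * F.e = F.e * (x * x) := by
  refine mul_inv_eq_iff_eq_mul.mp ?_
  rw [show x * x * F.e * (x * x)⁻¹ = x * (x * F.e * x⁻¹) * x⁻¹ by group]
  rcases F.conj_e x hx with e | e
  · rw [e, e]
  · rw [e, h.conj_z hx, e, h.mulzz]

theorem sq_comm_f {x : G} (hx : x * z = z * x) {i : Fin 4} (hi : F.π x i = i) :
    (x * x) * F.f i = F.f i * (x * x) := by
  refine mul_inv_eq_iff_eq_mul.mp ?_
  rw [show x * x * F.f i * (x * x)⁻¹ = x * (x * F.f i * x⁻¹) * x⁻¹ by group]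
  have hc := F.conj_f x hx i
  rw [hi] at hc
  rcases hc with e | e
  · rw [e, e]
  · rw [e, h.conj_z hx, e, h.mulzz]

/-- The four-group `⟨z, e⟩`, as a set. -/
theorem four_of_E4_inv {q : G} (hq : q ∈ F.E4) (h2 : q * q = 1) :
    q = 1 ∨ q = z ∨ q = F.e ∨ q = F.e * z :=
  h.rank F.e F.he.1 q (F.mem_E4.mp hq).1 F.he.2.1 h2 (F.mem_E4.mp hq).2.symm F.he.2.2.1 F.he.2.2.2

/-- An element of `U` fixing a pair modulo `⟨z, e⟩` is in `E4`. -/
theorem U_fix {u : G} (hu : u ∈ F.U) {i : Fin 4} (hi : F.π u i = i) : u ∈ F.E4 := by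
  obtain ⟨h1, h2⟩ := F.mem_U.mp hu
  have h3 : F.π u = 1 := h2.resolve_right fun e => e.2 i hi
  exact F.mem_E4.mpr ⟨(F.π_one u (F.mem_H1.mp h1).1).mp h3, (F.mem_H1.mp h1).2⟩

/-- An element of order three of `D` fixing the last pair. -/
theorem exists_om : ∃ om ∈ F.D, orderOf om = 3 ∧ F.π om = cyc := by
  obtain ⟨⟨c, hc1⟩, hc⟩ := F.πH1_surj h cyc
  change F.π c = cyc at hc
  obtain ⟨-, -, -, -, h3, h4, hne, hs, -⟩ := cyc_facts
  have hcz := (F.mem_H1.mp hc1).1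
  have hπ : F.π (c ^ 4) = cyc := by rw [F.π_pow hcz, hc, h4]
  have hE : c ^ 3 ∈ E := (F.π_one _ ((show Commute c z from hcz).pow_left 3).eq).mp
    (by rw [F.π_pow hcz, hc, h3])
  have h12 : (c ^ 4) ^ 3 = 1 := by
    rw [← pow_mul, show 4 * 3 = 3 * 4 by norm_num, pow_mul,
      show (4 : ℕ) = 2 * 2 from rfl, pow_mul, pow_two (c ^ 3)]
    rcases h.sq _ hE with e | e <;> rw [e]
    · exact one_pow 2
    · rw [pow_two, h.zz]
  haveI : Fact (Nat.Prime 3) := ⟨Nat.prime_three⟩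
  refine ⟨c ^ 4, F.mem_D.mpr ⟨pow_mem hc1 4, by rw [hπ]; exact hs⟩, orderOf_eq_prime h12 fun e => ?_, hπ⟩
  rw [e, F.π_onev] at hπ
  exact hne hπ.symm

variable {om : G}

theorem om_z (hom : om ∈ F.D) : om * z = z * om := (F.mem_H1.mp (F.D_le_H1 hom)).1

theorem om_e (hom : om ∈ F.D) : om * F.e = F.e * om := (F.mem_H1.mp (F.D_le_H1 hom)).2

/-- The action of an element of order three on `U` modulo the four-group has no fixed points. -/
theorem om_fpf (hom : om ∈ F.D) (hπ : F.π om = cyc) {u : G} (hu : u ∈ F.U)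
    (hfix : om * u * om⁻¹ * u⁻¹ = 1 ∨ om * u * om⁻¹ * u⁻¹ = z ∨ om * u * om⁻¹ * u⁻¹ = F.e ∨
      om * u * om⁻¹ * u⁻¹ = F.e * z) :
    u = 1 ∨ u = z ∨ u = F.e ∨ u = F.e * z := by
  obtain ⟨c0, c1, c2, c3, -, -, -, -, hcen, -⟩ := cyc_facts
  have hoz := F.om_z h hom
  obtain ⟨hu1, hud⟩ := F.mem_U.mp hu
  have huz := (F.mem_H1.mp hu1).1
  set k := om * u * om⁻¹ * u⁻¹ with hk
  have hkE : k ∈ E ∧ ∀ i, F.fl k i = F.fl k 0 := by
    have h1 : ∀ i : Fin 4, F.fl (1 : G) i = false := fun i =>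
      F.fl_eq h (c := 1) (by simp) (by rw [F.π_onev]; simp [zb])
    have h2 : ∀ i : Fin 4, F.fl z i = false := fun i => F.fl_eq h (c := z) rfl (by
      rw [F.π_E h h.zE, Perm.one_apply, ← F.f_z h i, mul_inv_cancel_right]; simp [zb])
    rcases hfix with e | e | e | e <;> rw [e]
    · exact ⟨one_mem _, fun i => by rw [h1, h1]⟩
    · exact ⟨h.zE, fun i => by rw [h2, h2]⟩
    · exact ⟨F.he.1, fun i => by rw [F.fl_e h, F.fl_e h]⟩
    · refine ⟨mul_mem F.he.1 h.zE, fun i => ?_⟩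
      rw [F.fl_mul h (F.e_z h) rfl, F.fl_mul h (F.e_z h) rfl, F.π_E h h.zE, Perm.one_apply,
        Perm.one_apply, F.fl_e h, F.fl_e h, h2, h2]
  have hkz := h.cz k hkE.1
  have hk' : k * (u * om) = om * u := by rw [hk]; group
  have huo := ((show Commute u z from huz).mul_left hoz).eq
  have hu0 : F.π u = 1 := hcen _ hud (by
    rw [← hπ, mul_inv_eq_iff_eq_mul, ← F.π_mul _ _ hoz huz, ← hk', F.π_mul _ _ hkz huo,
      F.π_E h hkE.1, one_mul, F.π_mul _ _ huz hoz])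
  have huE : u ∈ E := (F.π_one u huz).mp hu0
  refine F.mem_four h huE (F.mem_H1.mp hu1).2 ?_
  have key : ∀ i, xor (xor (F.fl om i) (F.fl u (F.π om i))) (F.fl k 0) =
      xor (F.fl u i) (F.fl om i) := by
    intro i
    have e := F.fl_mul h hkz huo i
    rw [hk', F.fl_mul h hoz huz, F.fl_mul h huz hoz, hu0, Perm.one_apply, hkE.2] at e
    exact e.symm
  have a : ∀ i, F.fl u (F.π om i) = xor (F.fl u i) (F.fl k 0) := by
    intro i
    have := key i
    revert this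
    cases F.fl om i <;> cases F.fl u (F.π om i) <;> cases F.fl k 0 <;> cases F.fl u i <;> simp
  refine flip_three _ (F.fl k 0) ?_ ?_ ?_ (F.fl_sum h hu)
  · have := a 0; rwa [hπ, c0] at this
  · have := a 1; rwa [hπ, c1] at this
  · have := a 2; rwa [hπ, c2] at this

/-- `D` lies in every subgroup containing the squares and commutators of `C(z)`. -/
theorem D_le_of_sq {K : Subgroup G} (hsq : ∀ x, x * z = z * x → x * x ∈ K)
    (hcom : ∀ x y, x * z = z * x → y * z = z * y → x * y * x⁻¹ * y⁻¹ ∈ K) : F.D ≤ K := by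
  obtain ⟨om, hom, ho, hπ⟩ := F.exists_om h
  obtain ⟨-, -, -, -, -, -, -, -, -, hsurj, hdec⟩ := cyc_facts
  have hfe : F.f 0 * F.e * F.f 0 * F.e = z := by
    calc F.f 0 * F.e * F.f 0 * F.e = (F.f 0 * F.e) * (F.f 0 * F.e) := by group
      _ = z := by rw [h.sq_mul F.he (F.hf 0).1 (F.hef 0), (F.hf 0).2.1, mul_one]
  have hzK : z ∈ K := by
    have := hsq _ (h.cz _ (mul_mem (F.hf 0).1 F.he.1))
    rwa [show F.f 0 * F.e * (F.f 0 * F.e) = F.f 0 * F.e * F.f 0 * F.e by group, hfe] at this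
  have hff : ∀ i j, F.f i * F.f j ∈ K := by
    intro i j
    obtain ⟨σ, hσ⟩ := perm_move j i
    obtain ⟨c, hcz, hc⟩ := F.π_surj σ
    have e := F.conj_f c hcz j
    rw [hc, hσ] at e
    have h' := hcom c (F.f j) hcz (F.f_z h j)
    rw [F.f_inv h] at h'
    rcases e with e | e <;> rw [e] at h'
    · exact h'
    · rw [mul_assoc (F.f i), ← F.f_z h, ← mul_assoc] at h'
      exact (mul_mem_cancel_right hzK).mp h'
  have heK : F.e ∈ K := by
    have := mul_mem (hff 0 1) (hff 2 3)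
    rw [← mul_assoc] at this
    rcases F.five h with e | e <;> rw [e] at this
    · exact this
    · exact (mul_mem_cancel_right hzK).mp this
  have hzb : ∀ t, zb z t ∈ K := fun t => by
    unfold zb; split_ifs <;> [exact hzK; exact one_mem _]
  have hE4 : F.E4 ≤ K := by
    intro q hq
    obtain ⟨hqE, hqe⟩ := F.mem_E4.mp hq
    have hn : (F.f 0 * q) * F.e ≠ F.e * (F.f 0 * q) := by
      intro e
      refine h.ne_comm (F.hef 0) ?_
      calc F.f 0 * F.e = F.f 0 * q * F.e * q⁻¹ := by rw [mul_assoc (F.f 0), hqe]; group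
        _ = F.e * (F.f 0 * q) * q⁻¹ := by rw [e]
        _ = _ := by group
    obtain ⟨i, b, e⟩ := F.out h (mul_mem (F.hf 0).1 hqE) hn
    obtain ⟨t, e⟩ := sim_iff.mp e
    have hq' : q = F.f 0 * ((if b then F.f i * F.e else F.f i) * zb z t) := by
      rw [← e, ← mul_assoc, (F.hf 0).2.1, one_mul]
    rw [hq', ← mul_assoc]
    refine mul_mem ?_ (hzb t)
    split_ifs
    · rw [← mul_assoc]; exact mul_mem (hff 0 i) heK
    · exact hff 0 i
  have hU : F.U ≤ K := by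
    intro u hu
    obtain ⟨hu1, hud⟩ := F.mem_U.mp hu
    obtain ⟨τ, hτ, hτ'⟩ := hsurj _ hud
    obtain ⟨⟨x, hx1⟩, hx⟩ := F.πH1_surj h τ
    change F.π x = τ at hx
    have hxz := (F.mem_H1.mp hx1).1
    have hoz := F.om_z h hom
    set v := om * x * om⁻¹ * x⁻¹ with hv
    have hv1 : v ∈ F.H1 := mul_mem (mul_mem (mul_mem (F.D_le_H1 hom) hx1)
      (inv_mem (F.D_le_H1 hom))) (inv_mem hx1)
    have hvz := (F.mem_H1.mp hv1).1
    have hπv : F.π v = F.π u := by
      rw [hv, F.π_mul _ _ ((((show Commute om z from hoz).mul_left hxz).mul_left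
        (show Commute om z from hoz).inv_left)).eq (show Commute x z from hxz).inv_left.eq,
        F.π_conj h hoz hxz, F.π_inv hxz, hπ, hx, hτ']
    have huz := (F.mem_H1.mp hu1).1
    have hw : v⁻¹ * u ∈ F.E4 := by
      have hw1 : v⁻¹ * u ∈ F.H1 := mul_mem (inv_mem hv1) hu1
      refine F.mem_E4.mpr ⟨(F.π_one _ (F.mem_H1.mp hw1).1).mp ?_, (F.mem_H1.mp hw1).2⟩
      rw [F.π_mul _ _ (show Commute v z from hvz).inv_left.eq huz, F.π_inv hvz, hπv, inv_mul_cancel]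
    have := mul_mem (hcom om x hoz hxz) (hE4 hw)
    rwa [mul_inv_cancel_left] at this
  have homK : om ∈ K := by
    have h3 : om ^ 3 = 1 := ho ▸ pow_orderOf_eq_one om
    have := hsq (om * om) ((show Commute om z from F.om_z h hom).mul_left (F.om_z h hom)).eq
    rwa [show om * om * (om * om) = om ^ 3 * om by simp [pow_succ, mul_assoc], h3, one_mul] at this
  intro x hx
  obtain ⟨hx1, hxs⟩ := F.mem_D.mp hx
  have hxz := (F.mem_H1.mp hx1).1
  have hoz := F.om_z h hom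
  rcases hdec _ hxs with e | e | e
  · exact hU (F.mem_U.mpr ⟨hx1, e⟩)
  · refine (mul_mem_cancel_right homK).mp (hU (F.mem_U.mpr ⟨mul_mem hx1 (F.D_le_H1 hom), ?_⟩))
    rwa [F.π_mul _ _ hxz hoz, hπ]
  · refine (mul_mem_cancel_right (mul_mem homK homK)).mp
      (hU (F.mem_U.mpr ⟨mul_mem hx1 (mul_mem (F.D_le_H1 hom) (F.D_le_H1 hom)), ?_⟩))
    rwa [F.π_mul _ _ hxz ((show Commute om z from hoz).mul_left hoz).eq,
      F.π_mul _ _ hoz hoz, hπ]

end Frame

end Cfsg.Agent.H55.Quat
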