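import Cfsg.Agent.H55.Quat.Fuse
import Cfsg.Agent.H25.InvolutionTransfer

/-!
A normal subgroup `L` of index 4 with `L ∩ C(z) = D`.
-/

set_option autoImplicit false
set_option linter.unusedSectionVars false
set_option linter.unusedVariables false
set_option linter.style.haveILetI false

namespace Cfsg.Agent.H55.Quat

open Subgroup Equiv

/-- Thompson's transfer lemma, following a second involution. -/
theorem transfer_two {G : Type*} [Group G] [Finite G] (P : Sylow 2 G) (Q : Subgroup G)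
    (hQP : Q ≤ (P : Subgroup G)) (hQi : Q.relIndex (P : Subgroup G) = 2) {u v : G}
    (hu : u * u = 1) (huP : u ∈ (P : Subgroup G)) (huQ : ∀ g : G, g * u * g⁻¹ ∉ Q)
    (hv : v * v = 1) (hv1 : v ≠ 1) (hvQ : ∀ g : G, g * v * g⁻¹ ∈ (P : Subgroup G) → g * v * g⁻¹ ∈ Q) :
    ∃ M : Subgroup G, M.Normal ∧ M.index = 2 ∧ u ∉ M ∧ v ∈ M := by
  classical
  have := Fintype.ofFinite (G ⧸ Q)
  have := Fintype.ofFinite (G ⧸ (P : Subgroup G))
  haveI : Fact (Nat.Prime 2) := ⟨Nat.prime_two⟩
  have hu1 : u ≠ 1 := fun e => huQ 1 (by rw [e]; simp)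
  have hm : ¬ 2 ∣ (P : Subgroup G).index := P.not_dvd_index
  have hcard : Nat.card (G ⧸ Q) = 2 * (P : Subgroup G).index := by
    rw [← index_eq_card, ← relIndex_mul_index hQP, hQi]
  let f : G →* ℤˣ := Equiv.Perm.sign.comp (MulAction.toPermHom G (G ⧸ Q))
  -- the sign of an involution
  have hsign : ∀ a : G, a * a = 1 → ∀ k, Nat.card {q : G ⧸ Q // a • q ≠ q} = 2 * k →
      f a = (-1) ^ k := by
    intro a ha k hk
    set σ := MulAction.toPermHom G (G ⧸ Q) a with hσ
    have hct : ∀ c ∈ σ.cycleType, c = 2 := by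
      intro c hc
      have h1 := (Equiv.Perm.dvd_of_mem_cycleType hc).trans
        (orderOf_map_dvd (MulAction.toPermHom G (G ⧸ Q)) a)
      have h2 := h1.trans (orderOf_dvd_of_pow_eq_one (by rw [pow_two]; exact ha))
      exact ((Nat.dvd_prime Nat.prime_two).mp h2).resolve_left
        (Equiv.Perm.one_lt_of_mem_cycleType hc).ne'
    have hrep := Multiset.eq_replicate_card.mpr hct
    have hs : σ.support.card = 2 * k := by
      rw [← hk, Nat.card_eq_fintype_card, Fintype.card_subtype]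
      congr 1
    have h1 := Equiv.Perm.sum_cycleType σ
    rw [hrep, Multiset.sum_replicate, smul_eq_mul, hs] at h1
    show Equiv.Perm.sign σ = _
    rw [Equiv.Perm.sign_of_cycleType, hrep, Multiset.sum_replicate, Multiset.card_replicate,
      show Multiset.card σ.cycleType = k by omega, smul_eq_mul, pow_add, mul_comm k 2, pow_mul]
    norm_num
  have hfu : f u = (-1) ^ (P : Subgroup G).index := by
    refine hsign u hu _ ?_
    rw [← hcard]
    refine Nat.card_congr (Equiv.subtypeUnivEquiv fun q => ?_)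
    induction q using QuotientGroup.induction_on with
    | H g =>
      intro he
      rw [MulAction.Quotient.smul_mk, QuotientGroup.eq] at he
      have := Q.inv_mem he
      exact huQ g⁻¹ (by simpa [smul_eq_mul, mul_assoc] using this)
  -- the fixed points of `v`
  set π : G ⧸ Q → G ⧸ (P : Subgroup G) := Quotient.map' id fun a b hab => by
    rw [QuotientGroup.leftRel_apply] at hab ⊢; exact hQP hab with hπ
  have hfix : ∀ q : G ⧸ Q, v • q = q ↔ v • π q = π q := by
    intro q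
    induction q using QuotientGroup.induction_on with
    | H g =>
      show v • (g : G ⧸ Q) = (g : G ⧸ Q) ↔ v • (g : G ⧸ (P : Subgroup G)) = (g : G ⧸ (P : Subgroup G))
      rw [MulAction.Quotient.smul_mk, QuotientGroup.eq, MulAction.Quotient.smul_mk, QuotientGroup.eq]
      constructor
      · exact fun e => hQP e
      · intro e
        have e' := (P : Subgroup G).inv_mem e
        have h1 : (v • g)⁻¹ * g = (g⁻¹ * v * g⁻¹⁻¹)⁻¹ := by simp [smul_eq_mul, mul_assoc]
        rw [h1] at e ⊢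
        rw [h1, inv_inv] at e'
        exact Q.inv_mem (hvQ _ e')
  have hfib : ∀ p : G ⧸ (P : Subgroup G), Nat.card {q : G ⧸ Q // π q = p} = 2 := by
    intro p
    induction p using QuotientGroup.induction_on with
    | H g =>
      let e : ↥(P : Subgroup G) ⧸ Q.subgroupOf (P : Subgroup G) → {q : G ⧸ Q // π q = (g : G ⧸ (P : Subgroup G))} :=
        fun c => ⟨Quotient.map' (fun x : ↥(P : Subgroup G) => g * (x : G)) (fun a b hab => by
          rw [QuotientGroup.leftRel_apply] at hab ⊢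
          simpa [mul_assoc, Subgroup.mem_subgroupOf] using hab) c, by
            induction c using QuotientGroup.induction_on with
            | H x =>
              show ((g * (x : G) : G) : G ⧸ (P : Subgroup G)) = _
              rw [QuotientGroup.eq]; simp⟩
      have he : Function.Bijective e := by
        constructor
        · intro a b hab
          induction a using QuotientGroup.induction_on with
          | H x =>
            induction b using QuotientGroup.induction_on with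
            | H y =>
              have := QuotientGroup.eq.mp (congrArg Subtype.val hab :
                ((g * (x : G) : G) : G ⧸ Q) = ((g * (y : G) : G) : G ⧸ Q))
              rw [QuotientGroup.eq, Subgroup.mem_subgroupOf]
              simpa [mul_assoc] using this
        · rintro ⟨q, hq⟩
          induction q using QuotientGroup.induction_on with
          | H x =>
            have hx := QuotientGroup.eq.mp (hq : (x : G ⧸ (P : Subgroup G)) = g)
            refine ⟨((⟨g⁻¹ * x, by simpa using inv_mem hx⟩ : ↥(P : Subgroup G)) : _ ⧸ _), Subtype.ext ?_⟩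
            show ((g * (g⁻¹ * x) : G) : G ⧸ Q) = (x : G ⧸ Q)
            rw [mul_inv_cancel_left]
      exact (Nat.card_eq_of_bijective e he).symm.trans hQi
  set S := {p : G ⧸ (P : Subgroup G) // v • p ≠ p} with hS
  have hSeven : 2 ∣ Nat.card S := by
    have hinv : ∀ p : G ⧸ (P : Subgroup G), v • v • p = p := fun p => by rw [← mul_smul, hv, one_smul]
    set τ : Equiv.Perm (G ⧸ (P : Subgroup G)) := MulAction.toPermHom G _ v with hτ
    rw [show Nat.card S = τ.support.card by
      rw [hS, Nat.card_eq_fintype_card, Fintype.card_subtype]; congr 1]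
    rw [← Equiv.Perm.sum_cycleType]
    refine Multiset.dvd_sum fun c hc => ?_
    have h1 := (Equiv.Perm.dvd_of_mem_cycleType hc).trans
      (orderOf_map_dvd (MulAction.toPermHom G (G ⧸ (P : Subgroup G))) v)
    have h2 := h1.trans (orderOf_dvd_of_pow_eq_one (by rw [pow_two]; exact hv))
    rw [((Nat.dvd_prime Nat.prime_two).mp h2).resolve_left
      (Equiv.Perm.one_lt_of_mem_cycleType hc).ne']
  obtain ⟨j, hj⟩ := hSeven
  have hfv : f v = 1 := by
    rw [hsign v hv (2 * j) ?_, pow_mul]; · norm_num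
    let e : {q : G ⧸ Q // v • q ≠ q} ≃ Σ p : S, {q : G ⧸ Q // π q = p.1} :=
      { toFun := fun q => ⟨⟨π q.1, fun e => q.2 ((hfix _).mpr e)⟩, ⟨q.1, rfl⟩⟩
        invFun := fun x => ⟨x.2.1, fun e => x.1.2 (x.2.2 ▸ (hfix _).mp e)⟩
        left_inv := fun _ => rfl
        right_inv := by
          rintro ⟨⟨p, hp⟩, ⟨q, hq⟩⟩
          change π q = p at hq
          subst hq
          rfl }
    have := Fintype.ofFinite S
    rw [Nat.card_congr e, Nat.card_sigma, Finset.sum_congr rfl fun p _ => hfib p.1, Finset.sum_const,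
      Finset.card_univ, ← Nat.card_eq_fintype_card, hj, smul_eq_mul]
    ring
  have hfu' : f u = -1 := by
    rw [hfu, Odd.neg_one_pow (Nat.odd_iff.mpr (by omega : (P : Subgroup G).index % 2 = 1))]
  refine ⟨f.ker, inferInstance, ?_, ?_, hfv⟩
  · rw [index_ker, MonoidHom.range_eq_top.mpr, card_top, Nat.card_eq_fintype_card,
      Fintype.card_units_int]
    intro z
    rcases Int.units_eq_one_or z with rfl | rfl
    · exact ⟨1, map_one f⟩
    · exact ⟨u, hfu'⟩
  · rw [MonoidHom.mem_ker, hfu']; decide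

variable {G : Type*} [Group G] [Finite G] {z : G} {E : Subgroup G}

namespace Frame

variable (h : Setup z E) (F : Frame z E)

include h F

/-- An involution of `C(z)` outside `C(e)` inducing a transposition. -/
theorem exists_t : ∃ t, F.Tp t ∧ t * F.e ≠ F.e * t ∧ Odd2 (F.π t) := by
  classical
  obtain ⟨om, hom, ho, hπ⟩ := F.exists_om h
  obtain ⟨c, hcz, hc⟩ := F.π_surj (swap (0 : Fin 4) 1)
  have hoz := F.om_z h hom
  have hom3 : om ^ 3 = 1 := ho ▸ pow_orderOf_eq_one om
  obtain ⟨-, -, -, cyc3, -, -, hcne, -, -⟩ := cyc_facts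
  -- the group `E⟨om⟩`
  set L := E ⊔ zpowers om with hL
  have hEn : zpowers om ≤ normalizer (E : Set G) := zpowers_le.mpr (by
    rw [mem_normalizer_iff]
    intro q
    refine ⟨h.norm om hoz q, fun hq => ?_⟩
    have := h.norm om⁻¹ (show Commute om z from hoz).inv_left.eq _ hq
    rwa [show om⁻¹ * (om * q * om⁻¹) * om⁻¹⁻¹ = q by group] at this)
  have hmemL : ∀ {x}, x ∈ L ↔ ∃ q ∈ E, ∃ a ∈ zpowers om, q * a = x := fun {x} => by
    rw [hL, ← SetLike.mem_coe, Subgroup.coe_mul_of_right_le_normalizer_left E (zpowers om) hEn]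
    simp [Set.mem_mul]
  haveI : Fact (Nat.Prime 3) := ⟨Nat.prime_three⟩
  have hzo : Nat.card (zpowers om) = 3 := by rw [Nat.card_zpowers, ho]
  have hEo : ∀ a ∈ zpowers om, a ∈ E → a = 1 := by
    intro a ha haE
    have hd1 : orderOf a ∣ 32 := h.card ▸ (by
      have := orderOf_dvd_natCard (⟨a, haE⟩ : E)
      rwa [← Subgroup.orderOf_coe] at this)
    have hd2 : orderOf a ∣ 3 := by
      have := orderOf_dvd_natCard (⟨a, ha⟩ : zpowers om)
      rwa [← Subgroup.orderOf_coe, hzo] at this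
    exact orderOf_eq_one_iff.mp (Nat.dvd_one.mp ((Nat.dvd_gcd hd1 hd2).trans (by norm_num)))
  have hcardL : Nat.card L = 96 := by
    let g : E × zpowers om → L := fun q => ⟨q.1.1 * q.2.1, mul_mem (mem_sup_left q.1.2) (mem_sup_right q.2.2)⟩
    have hg : Function.Bijective g := by
      constructor
      · rintro ⟨q, a⟩ ⟨q', a'⟩ e
        have e' : q.1 * a.1 = q'.1 * a'.1 := congrArg Subtype.val e
        have e'' : a'.1 * a.1⁻¹ = q'.1⁻¹ * q.1 := by
          calc a'.1 * a.1⁻¹ = q'.1⁻¹ * (q'.1 * a'.1) * a.1⁻¹ := by group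
            _ = _ := by rw [← e']; group
        have h1 := hEo _ (mul_mem a'.2 (inv_mem a.2)) (e'' ▸ mul_mem (inv_mem q'.2) q.2)
        obtain rfl : a = a' := Subtype.ext (eq_of_mul_inv_eq_one h1).symm
        obtain rfl : q = q' := Subtype.ext (mul_right_cancel e')
        rfl
      · rintro ⟨x, hx⟩
        obtain ⟨q, hq, a, ha, rfl⟩ := hmemL.mp hx
        exact ⟨(⟨q, hq⟩, ⟨a, ha⟩), rfl⟩
    rw [← Nat.card_eq_of_bijective g hg, Nat.card_prod, h.card, hzo]
  have hmax : ∀ U : Subgroup G, U ≤ L → IsPGroup 3 U → Nat.card U ≤ Nat.card (zpowers om) := by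
    intro U hU hU3
    obtain ⟨n, hn⟩ := IsPGroup.iff_card.mp hU3
    have hd := card_dvd_of_le hU
    rw [hn, hcardL] at hd
    rw [hn, hzo]
    have : n ≤ 1 := by
      by_contra h2
      have := (pow_dvd_pow 3 (by omega : 2 ≤ n)).trans hd
      norm_num at this
    calc 3 ^ n ≤ 3 ^ 1 := Nat.pow_le_pow_right (by norm_num) this
      _ = 3 := by norm_num
  have hco : c * om * c⁻¹ ∈ L := by
    have hcc : (c * om * c⁻¹) * z = z * (c * om * c⁻¹) :=
      (((show Commute c z from hcz).mul_left hoz).mul_left (show Commute c z from hcz).inv_left).eq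
    have hp : F.π (c * om * c⁻¹) = cyc * cyc := by
      rw [F.π_conj h hcz hoz, hc, hπ]; decide +kernel
    have hoo := ((show Commute om z from hoz).mul_left hoz).eq
    refine hmemL.mpr ⟨c * om * c⁻¹ * (om * om)⁻¹, (F.π_one _ ?_).mp ?_, om * om,
      mul_mem (mem_zpowers om) (mem_zpowers om), inv_mul_cancel_right _ _⟩
    · exact ((show Commute _ z from hcc).mul_left (show Commute (om * om) z from hoo).inv_left).eq
    · rw [F.π_mul _ _ hcc (show Commute (om * om) z from hoo).inv_left.eq, hp, F.π_inv hoo,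
        F.π_mul _ _ hoz hoz, hπ, mul_inv_cancel]
  obtain ⟨k, hk, hkc⟩ := Suz.exists_conj_le (p := 3) (H := L) le_sup_right
    (IsPGroup.of_card (n := 1) (by rw [hzo, pow_one])) hmax
    (zpowers_le.mpr hco) (IsPGroup.of_card (n := 1) (by
      rw [Nat.card_zpowers, show orderOf (c * om * c⁻¹) = orderOf om from
        (MulEquiv.orderOf_eq (MulAut.conj c) om), ho, pow_one]))
  have hk' := hkc _ (mem_zpowers _)
  obtain ⟨q, hq, a, ha, rfl⟩ := hmemL.mp hk
  set q0 := a⁻¹ * q * a with hq0d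
  have haz : a * z = z * a := by
    obtain ⟨m, rfl⟩ := mem_zpowers_iff.mp ha
    exact ((show Commute om z from hoz).zpow_left m).eq
  have hq0 : q0 ∈ E := by
    have := h.norm a⁻¹ (show Commute a z from haz).inv_left.eq q hq
    rwa [inv_inv] at this
  have hx0' : q0 * c * om * (q0 * c)⁻¹ ∈ zpowers om := by
    have := mul_mem (mul_mem (inv_mem ha) hk') ha
    rwa [show a⁻¹ * (q * a * (c * om * c⁻¹) * (q * a)⁻¹) * a =
      q0 * c * om * (q0 * c)⁻¹ by rw [hq0d]; group] at this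
  set x0 := q0 * c with hx0d
  have hx0z : x0 * z = z * x0 := ((show Commute q0 z from h.cz _ hq0).mul_left hcz).eq
  have hπ0 : F.π x0 = swap (0 : Fin 4) 1 := by
    rw [hx0d, F.π_mul _ _ (h.cz _ hq0) hcz, F.π_E h hq0, one_mul, hc]
  have hx0 : x0 * om * x0⁻¹ = om * om := by
    obtain ⟨m, hm⟩ := mem_zpowers_iff.mp hx0'
    have hp : F.π (x0 * om * x0⁻¹) = cyc * cyc := by
      rw [F.π_conj h hx0z hoz, hπ0, hπ]; decide +kernel
    rw [← hm] at hp ⊢
    rw [← zpow_mod_orderOf, ho] at hp ⊢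
    rcases (show m % 3 = 0 ∨ m % 3 = 1 ∨ m % 3 = 2 by omega) with e | e | e <;>
      simp only [Nat.cast_ofNat, e, zpow_zero, zpow_one, zpow_two] at hp ⊢
    · rw [F.π_onev] at hp; exact absurd hp (by decide +kernel)
    · rw [hπ] at hp; exact absurd hp (by decide +kernel)
  -- `om` fixes the last representative
  have hof : om * F.f 3 = F.f 3 * om := by
    have h33 : F.π om 3 = 3 := by rw [hπ]; exact cyc3
    refine F.comm_of_fl h hoz h33 ?_
    have h1 : F.fl (1 : G) 3 = false :=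
      F.fl_eq h (c := 1) (by simp) (by rw [F.π_onev]; simp [zb])
    have h2 := F.fl_mul h ((show Commute om z from hoz).pow_left 2).eq hoz 3
    rw [← pow_succ, hom3, h1, h33, pow_two, F.fl_mul h hoz hoz, h33] at h2
    revert h2
    cases F.fl om 3 <;> simp
  have hoe := F.om_e h hom
  have hcen : ∀ q ∈ E, q * om = om * q → q * F.e = F.e * q → F.InV q := by
    intro q hq hqo hqe
    refine F.om_fpf h hom hπ (F.E4_le_U h (F.mem_E4.mpr ⟨hq, hqe⟩)) (Or.inl ?_)
    rw [← hqo, mul_inv_cancel_right, mul_inv_cancel]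
  obtain ⟨s, hs⟩ := sim_iff.mp (F.conj_e x0 hx0z)
  have hb := F.fl_spec h hx0z 3
  rw [show F.π x0 3 = 3 by rw [hπ0]; decide +kernel] at hb
  set b := F.fl x0 3
  set d : G := (if s then F.f 3 else 1) * (if b then F.e else 1) with hd
  have hdE : d ∈ E := mul_mem (by split_ifs <;> [exact (F.hf 3).1; exact one_mem _])
    (by split_ifs <;> [exact F.he.1; exact one_mem _])
  have hdo : Commute d om := Commute.mul_left
    (by split_ifs <;> [exact (show Commute om (F.f 3) from hof).symm; exact Commute.one_left _])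
    (by split_ifs <;> [exact (show Commute om F.e from hoe).symm; exact Commute.one_left _])
  have fe_f := h.conj_noncomm (F.hf 3).1 (h.noncomm_symm (F.hef 3))
  have hde : d * F.e * d⁻¹ = F.e * zb z s := by
    rw [hd]
    cases s <;> cases b <;> simp only [zb, Bool.false_eq_true, if_false, if_true, mul_one, one_mul,
      inv_one]
    · exact mul_inv_cancel_right _ _
    · exact F.f_conj_e h 3
    · rw [show F.f 3 * F.e * F.e * (F.f 3 * F.e)⁻¹ = F.f 3 * F.e * (F.f 3)⁻¹ by group,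
        F.f_conj_e h 3]
  have hdf : d * F.f 3 * d⁻¹ = F.f 3 * zb z b := by
    rw [hd]
    cases s <;> cases b <;> simp only [zb, Bool.false_eq_true, if_false, if_true, mul_one, one_mul,
      inv_one]
    · exact fe_f
    · exact mul_inv_cancel_right _ _
    · rw [show F.f 3 * F.e * F.f 3 * (F.f 3 * F.e)⁻¹ = F.f 3 * (F.e * F.f 3 * F.e⁻¹) * (F.f 3)⁻¹ by group,
        fe_f, show F.f 3 * (F.f 3 * z) * (F.f 3)⁻¹ = (F.f 3 * F.f 3) * z * (F.f 3)⁻¹ by group,
        (F.hf 3).2.1, F.f_inv h, one_mul, ← F.f_z h]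
  set x1 := x0 * d with hx1d
  have hdz := h.cz d hdE
  have hx1z : x1 * z = z * x1 := ((show Commute x0 z from hx0z).mul_left hdz).eq
  have hπ1 : F.π x1 = swap (0 : Fin 4) 1 := by
    rw [hx1d, F.π_mul _ _ hx0z hdz, F.π_E h hdE, mul_one, hπ0]
  have hconj : ∀ {u : G} {t : Bool}, x0 * u * x0⁻¹ = u * zb z t → d * u * d⁻¹ = u * zb z t →
      x1 * u = u * x1 := by
    intro u t e1 e2
    refine mul_inv_eq_iff_eq_mul.mp ?_
    rw [hx1d, show x0 * d * u * (x0 * d)⁻¹ = x0 * (d * u * d⁻¹) * x0⁻¹ by group, e2, ← conj_mul,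
      e1, h.zb_comm hx0z, mul_inv_cancel_right, mul_assoc, h.zb_mul, Bool.xor_self]
    simp [zb]
  have he1 : x1 * F.e = F.e * x1 := hconj hs hde
  have hf1 : x1 * F.f 3 = F.f 3 * x1 := hconj hb hdf
  have ho1 : x1 * om * x1⁻¹ = om * om := by
    rw [hx1d, show x0 * d * om * (x0 * d)⁻¹ = x0 * (d * om * d⁻¹) * x0⁻¹ by group, hdo.eq,
      mul_inv_cancel_right, hx0]
  have hqz := ((show Commute x1 z from hx1z).mul_left hx1z).eq
  have hqE : x1 * x1 ∈ E := (F.π_one _ hqz).mp (by
    rw [F.π_mul _ _ hx1z hx1z, hπ1]; decide +kernel)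
  have hqo : x1 * x1 * om = om * (x1 * x1) := by
    refine mul_inv_eq_iff_eq_mul.mp ?_
    rw [show x1 * x1 * om * (x1 * x1)⁻¹ = x1 * (x1 * om * x1⁻¹) * x1⁻¹ by group, ho1, ← conj_mul, ho1]
    calc om * om * (om * om) = om ^ 3 * om := by simp [pow_succ, mul_assoc]
      _ = om := by rw [hom3, one_mul]
  have hqf : x1 * x1 * F.f 3 = F.f 3 * (x1 * x1) :=
    ((show Commute x1 (F.f 3) from hf1).mul_left hf1).eq
  have hq2 : x1 * x1 = 1 ∨ x1 * x1 = z := by
    rcases hcen _ hqE hqo (F.sq_comm_e h hx1z) with e | e | e | e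
    · exact Or.inl e
    · exact Or.inr e
    · rw [e] at hqf; exact absurd hqf.symm (h.ne_comm (F.hef 3))
    · rw [e, mul_assoc F.e, ← F.f_z h 3, ← mul_assoc, ← mul_assoc] at hqf
      exact absurd (mul_right_cancel hqf).symm (h.ne_comm (F.hef 3))
  have hodd : Odd2 (swap (0 : Fin 4) 1) := by decide +kernel
  have fin : ∀ y, y ∈ E → y * F.e ≠ F.e * y → (x1 * y) * (x1 * y) = 1 →
      ∃ t, F.Tp t ∧ t * F.e ≠ F.e * t ∧ Odd2 (F.π t) := by
    intro y hy hye hsq
    have hyz := h.cz y hy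
    have hp : Odd2 (F.π (x1 * y)) := by
      rw [F.π_mul _ _ hx1z hyz, F.π_E h hy, mul_one, hπ1]; exact hodd
    refine ⟨x1 * y, ⟨hsq, ((show Commute x1 z from hx1z).mul_left hyz).eq, Or.inr hp⟩, fun e => hye ?_, hp⟩
    apply mul_left_cancel (a := x1)
    rw [← mul_assoc, e, ← mul_assoc, ← he1, mul_assoc]
  rcases hq2 with e | e
  · refine fin (F.f 3) (F.hf 3).1 (h.ne_comm (F.hef 3)) ?_
    rw [show x1 * F.f 3 * (x1 * F.f 3) = x1 * (F.f 3 * x1) * F.f 3 by group, ← hf1,
      show x1 * (x1 * F.f 3) * F.f 3 = (x1 * x1) * (F.f 3 * F.f 3) by group, e, (F.hf 3).2.1, mul_one]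
  · refine fin (F.f 3 * F.e) (mul_mem (F.hf 3).1 F.he.1) (fun e' => h.ne_comm (F.hef 3) ?_) ?_
    · calc F.f 3 * F.e = F.f 3 * F.e * F.e * F.e := by rw [mul_assoc (F.f 3 * F.e), F.he.2.1, mul_one]
        _ = F.e * (F.f 3 * F.e) * F.e := by rw [e']
        _ = _ := by rw [mul_assoc, mul_assoc (F.f 3), F.he.2.1, mul_one]
    · have hc' := ((show Commute x1 (F.f 3) from hf1).mul_right (show Commute x1 F.e from he1)).eq
      rw [show x1 * (F.f 3 * F.e) * (x1 * (F.f 3 * F.e)) = x1 * ((F.f 3 * F.e) * x1) * (F.f 3 * F.e) by group,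
        ← hc', show x1 * (x1 * (F.f 3 * F.e)) * (F.f 3 * F.e) =
          (x1 * x1) * ((F.f 3 * F.e) * (F.f 3 * F.e)) by group, e, F.fe_sq h 3, h.zz]

theorem f_Tp : F.Tp (F.f 0) :=
  ⟨(F.hf 0).2.1, F.f_z h 0, Or.inl ⟨(F.hf 0).1, h.ne_comm (F.hef 0)⟩⟩

/-- A Sylow subgroup of `C(z)` is one of `G`. -/
theorem sylow_H : ∃ P : Sylow 2 G, (P : Subgroup G) ≤ centralizer ({z} : Set G) ∧
    Nat.card (P : Subgroup G) = 256 ∧ E ≤ (P : Subgroup G) := by
  classical
  haveI : Fact (Nat.Prime 2) := ⟨Nat.prime_two⟩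
  set H := centralizer ({z} : Set G) with hH
  obtain ⟨S⟩ : Nonempty (Sylow 2 H) := inferInstance
  set R := (S : Subgroup H).map H.subtype with hR
  have hR256 : Nat.card R = 256 := by
    rw [hR, card_map_of_injective H.subtype_injective, S.card_eq_multiplicity, F.card_H h]
    rw [show (768 : ℕ) = 2 ^ 8 * 3 from rfl, Nat.factorization_mul (by norm_num) (by norm_num),
      Finsupp.add_apply, Nat.prime_two.factorization_pow, Finsupp.single_eq_same,
      Nat.factorization_eq_zero_of_not_dvd (by norm_num)]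
    rfl
  have hEH : E ≤ H := fun q hq => mem_centralizer_singleton_iff.mpr (h.cz q hq)
  have hER : E ≤ R := by
    haveI : (E.subgroupOf H).Normal := ⟨fun q hq c => by
      rw [mem_subgroupOf] at hq ⊢
      exact h.norm c (mem_centralizer_singleton_iff.mp c.2) q hq⟩
    have hp : IsPGroup 2 (E.subgroupOf H) := (IsPGroup.of_card (n := 5) (by rw [h.card]; norm_num)).of_equiv
      (subgroupOfEquivOfLe hEH).symm
    obtain ⟨T, hT⟩ := hp.exists_le_sylow
    obtain ⟨c, hc⟩ := MulAction.exists_smul_eq H T S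
    intro q hq
    refine ⟨⟨q, hEH hq⟩, ?_, rfl⟩
    rw [← hc]
    have hq' : c⁻¹ * ⟨q, hEH hq⟩ * c ∈ E.subgroupOf H := by
      have := (inferInstance : (E.subgroupOf H).Normal).conj_mem ⟨q, hEH hq⟩ hq c⁻¹
      rwa [inv_inv] at this
    exact ⟨_, hT hq', by simp [mul_assoc]⟩
  have hRp : IsPGroup 2 R := S.isPGroup'.map _
  obtain ⟨P, hP⟩ := hRp.exists_le_sylow
  have hRH : R ≤ H := map_subtype_le _
  have heq : R = (P : Subgroup G) := by
    by_contra hne
    obtain ⟨y, hyP, hyR, hyn⟩ := Suz.exists_normalizing hP P.isPGroup' hne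
    have hzy := (hyn z (hER h.zE)).2
    have hcen : ∀ q ∈ E, q * (y * z * y⁻¹) = (y * z * y⁻¹) * q := by
      intro q hq
      have hq' := mem_centralizer_singleton_iff.mp (hRH ((hyn q (hER hq)).1))
      calc q * (y * z * y⁻¹) = y * ((y⁻¹ * q * y) * z) * y⁻¹ := by group
        _ = y * (z * (y⁻¹ * q * y)) * y⁻¹ := by rw [hq']
        _ = _ := by group
    rcases h.cQ _ (mem_centralizer_singleton_iff.mp (hRH hzy)) hcen with e | e
    · exact h.z_ne_one (conj_eq_one_iff.mp e)
    have hle : R ⊔ zpowers y ≤ H :=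
      sup_le hRH (zpowers_le.mpr (mem_centralizer_singleton_iff.mpr (mul_inv_eq_iff_eq_mul.mp e)))
    obtain ⟨T, hT⟩ := ((P.isPGroup'.to_le (sup_le hP (zpowers_le.mpr hyP))).of_equiv
      (subgroupOfEquivOfLe hle).symm).exists_le_sylow
    have hc : Nat.card ↥(R ⊔ zpowers y) ≤ Nat.card R := by
      rw [hR, card_map_of_injective H.subtype_injective,
        show Nat.card ↥(S : Subgroup H) = Nat.card T from by
          rw [S.card_eq_multiplicity, T.card_eq_multiplicity],
        ← Nat.card_congr (subgroupOfEquivOfLe hle).toEquiv]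
      exact card_le_of_le hT
    exact hyR ((eq_of_le_of_card_ge le_sup_left hc).symm ▸ mem_sup_right (mem_zpowers y))
  exact ⟨P, heq ▸ hRH, heq ▸ hR256, heq ▸ hER⟩

/-- The subgroup of index four. -/
theorem exists_L : ∃ L : Subgroup G, L.Normal ∧ L.index ∣ 4 ∧
    ∀ x, x * z = z * x → (x ∈ L ↔ x ∈ F.D) := by
  classical
  haveI : Fact (Nat.Prime 2) := ⟨Nat.prime_two⟩
  obtain ⟨P, hPH, hP256, hEP⟩ := F.sylow_H h
  obtain ⟨-, -, -, -, -, hconjodd, -⟩ := odd2_facts
  obtain ⟨t0, ht0, ht0e, ht0p⟩ := F.exists_t h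
  obtain ⟨kk, hk, hkc⟩ := Suz.exists_conj_le hPH P.isPGroup'
    (fun U hU hU2 => by
      obtain ⟨T, hT⟩ := hU2.exists_le_sylow
      calc Nat.card U ≤ Nat.card (T : Subgroup G) := card_le_of_le hT
        _ = _ := by rw [T.card_eq_multiplicity, P.card_eq_multiplicity])
    (zpowers_le.mpr (mem_centralizer_singleton_iff.mpr ht0.2.1))
    (IsPGroup.of_card (n := 1) (by
      rw [Nat.card_zpowers, pow_one]
      exact orderOf_eq_prime (by rw [pow_two]; exact ht0.1) (fun e => ht0e (by rw [e, one_mul, mul_one]))))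
  set t := kk * t0 * kk⁻¹ with htd
  have htP : t ∈ (P : Subgroup G) := hkc t0 (mem_zpowers t0)
  have hkz := mem_centralizer_singleton_iff.mp hk
  have htz : t * z = z * t := mem_centralizer_singleton_iff.mp (hPH htP)
  have hte : t * F.e ≠ F.e * t := fun e => ht0e (by
    have h1 : t ∈ F.H1 := F.mem_H1.mpr ⟨htz, e⟩
    have := F.conj_H1 h (show Commute kk z from hkz).inv_left.eq h1
    rw [htd, show kk⁻¹ * (kk * t0 * kk⁻¹) * kk⁻¹⁻¹ = t0 by group] at this
    exact (F.mem_H1.mp this).2)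
  have htπ : Odd2 (F.π t) := by rw [htd, F.π_conj h hkz ht0.2.1]; exact hconjodd _ _ ht0p
  have ht2 : t * t = 1 := by rw [htd, conj_mul, ht0.1]; group
  have htT : F.Tp t := ⟨ht2, htz, Or.inr htπ⟩
  have hf := F.f_Tp h
  have hfP : F.f 0 ∈ (P : Subgroup G) := hEP (F.hf 0).1
  have hf1 : F.f 0 ≠ 1 := (F.hf 0).2.2.1
  have ht1 : t ≠ 1 := fun e => hte (by rw [e, one_mul, mul_one])
  -- the two subgroups of index two
  let EV : Subgroup G :=
    { carrier := {x | x * z = z * x ∧ Dbl (F.π x)}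
      one_mem' := ⟨by simp, Or.inl F.π_onev⟩
      mul_mem' := fun {a b} ha hb => ⟨((show Commute a z from ha.1).mul_left hb.1).eq, by
        rw [F.π_mul _ _ ha.1 hb.1]; exact dbl_mul _ _ ha.2 hb.2⟩
      inv_mem' := fun {a} ha => ⟨(show Commute a z from ha.1).inv_left.eq, by
        rw [F.π_inv ha.1]; exact dbl_inv _ ha.2⟩ }
  have hEV : ∀ {x}, x ∈ EV ↔ x * z = z * x ∧ Dbl (F.π x) := Iff.rfl
  have hrel : ∀ (K : Subgroup G), (∃ u, u ∈ (P : Subgroup G) ∧ u ∉ K ∧
      ∀ x ∈ (P : Subgroup G), x ∉ K → x * u ∈ K) → (K ⊓ (P : Subgroup G)).relIndex (P : Subgroup G) = 2 := by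
    rintro K ⟨u, huP, huK, hu⟩
    refine index_eq_two_iff.mpr ⟨⟨u, huP⟩, fun b => ?_⟩
    simp only [mem_subgroupOf, mem_inf, coe_mul, SetLike.coe_mem, mul_mem huP, and_true]
    have hbu : (b : G) * u ∈ (P : Subgroup G) := mul_mem b.2 huP
    simp only [hbu, and_true]
    by_cases hb : (b : G) ∈ K
    · exact Or.inr ⟨hb, fun e => huK ((mul_mem_cancel_left hb).mp e)⟩
    · exact Or.inl ⟨hu b b.2 hb, hb⟩
  have hQa : (F.H1 ⊓ (P : Subgroup G)).relIndex (P : Subgroup G) = 2 :=
    hrel _ ⟨F.f 0, hfP, F.f_notMem_H1 h 0, fun x hx hn => F.mul_f_mem h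
      (mem_centralizer_singleton_iff.mp (hPH hx))
      (fun e => hn (F.mem_H1.mpr ⟨mem_centralizer_singleton_iff.mp (hPH hx), e⟩)) 0⟩
  have hQb : (EV ⊓ (P : Subgroup G)).relIndex (P : Subgroup G) = 2 := by
    refine hrel _ ⟨t, htP, fun e => ?_, fun x hx hn => ?_⟩
    · have := dbl_even _ e.2
      rw [htπ.1] at this
      exact absurd this (by decide)
    have key : ∀ τ : Perm (Fin 4), Odd2 τ → ∀ σ : Perm (Fin 4), σ ^ 4 = 1 → (σ * τ) ^ 4 = 1 →
        (τ * σ) ^ 4 = 1 → ¬ Dbl σ → Dbl (σ * τ) := by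
      decide +kernel
    have hxz := mem_centralizer_singleton_iff.mp (hPH hx)
    have hp4 : ∀ {y : G}, y ∈ (P : Subgroup G) → F.π y ^ 4 = 1 := fun {y} hy => by
      obtain ⟨k, hk⟩ := P.isPGroup' ⟨y, hy⟩
      exact F.π_pow4 h (mem_centralizer_singleton_iff.mp (hPH hy)) (k := k)
        (orderOf_dvd_of_pow_eq_one (congrArg Subtype.val hk))
    refine hEV.mpr ⟨((show Commute x z from hxz).mul_left htz).eq, ?_⟩
    rw [F.π_mul _ _ hxz htz]
    refine key _ htπ _ (hp4 hx) ?_ ?_ (fun e => hn ⟨hxz, e⟩)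
    · rw [← F.π_mul _ _ hxz htz]; exact hp4 (mul_mem hx htP)
    · rw [← F.π_mul _ _ htz hxz]; exact hp4 (mul_mem htP hx)
  obtain ⟨M1, hM1n, hM1i, hfM1⟩ : ∃ M : Subgroup G, M.Normal ∧ M.index = 2 ∧ F.f 0 ∉ M := by
    refine (Cfsg.Agent.H25.thompson_transfer P _ inf_le_right hQa (F.f 0)
      (orderOf_eq_prime (by rw [pow_two]; exact (F.hf 0).2.1) hf1) hfP
      (fun e => F.f_notMem_H1 h 0 (mem_inf.mp e).1)).resolve_right ?_
    rintro ⟨g, hg⟩
    obtain ⟨hgH, hgP⟩ := mem_inf.mp hg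
    obtain ⟨k, hkz', hkc'⟩ := F.fusion h hf (F.mem_H1.mp hgH).1 (g := g) rfl
    rw [← hkc'] at hgH
    refine F.f_notMem_H1 h 0 ?_
    have := F.conj_H1 h (show Commute k z from hkz').inv_left.eq hgH
    rwa [show k⁻¹ * (k * F.f 0 * k⁻¹) * k⁻¹⁻¹ = F.f 0 by group] at this
  obtain ⟨M2, hM2n, hM2i, htM2, hfM2⟩ := transfer_two P _ inf_le_right hQb ht2 htP (v := F.f 0) (by
      intro g hg
      obtain ⟨hgV, hgP⟩ := mem_inf.mp hg
      obtain ⟨k, hkz', hkc'⟩ := F.fusion h htT hgV.1 (g := g) rfl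
      have := dbl_even _ hgV.2
      rw [← hkc', F.π_conj h hkz' htz, map_mul, map_mul, map_inv, htπ.1] at this
      exact absurd this (by rw [mul_comm _ (-1 : ℤˣ), mul_assoc, mul_inv_cancel]; decide))
    (F.hf 0).2.1 hf1 (by
      intro g hg
      refine mem_inf.mpr ⟨?_, hg⟩
      have hgz := mem_centralizer_singleton_iff.mp (hPH hg)
      obtain ⟨k, hkz', hkc'⟩ := F.fusion h hf hgz (g := g) rfl
      refine hEV.mpr ⟨hgz, Or.inl ?_⟩
      rw [← hkc']
      exact F.π_E h (h.norm k hkz' _ (F.hf 0).1))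
  haveI := hM1n
  haveI := hM2n
  refine ⟨M1 ⊓ M2, inferInstance, ?_, ?_⟩
  · have h1 := index_inf_le (H := M1) (K := M2)
    rw [hM1i, hM2i] at h1
    have h2 : (M1 ⊓ M2).index ≠ 0 := index_ne_zero_of_finite
    have h3 : 2 ∣ (M1 ⊓ M2).index := hM1i ▸ index_dvd_of_le inf_le_left
    rcases (show (M1 ⊓ M2).index = 2 ∨ (M1 ⊓ M2).index = 4 by omega) with e | e <;> rw [e] <;> norm_num
  set L := M1 ⊓ M2 with hL
  have hDL : F.D ≤ L := by
    refine F.D_le_of_sq h (fun x _ => mem_inf.mpr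
        ⟨mul_self_mem_of_index_two hM1i x, mul_self_mem_of_index_two hM2i x⟩) (fun x y _ _ => ?_)
    have key : ∀ (M : Subgroup G), M.index = 2 → x * y * x⁻¹ * y⁻¹ ∈ M := by
      intro M hM
      rw [mul_mem_iff_of_index_two hM, mul_mem_iff_of_index_two hM, mul_mem_iff_of_index_two hM,
        inv_mem_iff, inv_mem_iff]
      by_cases x ∈ M <;> by_cases y ∈ M <;> simp_all
    exact mem_inf.mpr ⟨key M1 hM1i, key M2 hM2i⟩
  have hfz := F.f_z h 0
  have htf : t * F.f 0 ∉ L := fun e => htM2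
    ((mul_mem_cancel_right hfM2).mp (mem_inf.mp e).2)
  intro x hx
  refine ⟨fun hxL => ?_, fun hxD => hDL hxD⟩
  let rp : Fin 4 → G := ![1, F.f 0, t, t * F.f 0]
  have hrp : ∀ i, rp i * z = z * rp i := by
    intro i; fin_cases i
    · exact (Commute.one_left z).eq
    · exact hfz
    · exact htz
    · exact ((show Commute t z from htz).mul_left hfz).eq
  let g : F.D × Fin 4 → ↥(centralizer ({z} : Set G)) := fun q =>
    ⟨q.1.1 * rp q.2, mem_centralizer_singleton_iff.mpr
      ((show Commute q.1.1 z from (F.mem_H1.mp (F.D_le_H1 q.1.2)).1).mul_left (hrp q.2)).eq⟩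
  have hin : ∀ i, rp i ∈ L → i = 0 := by
    intro i hi
    fin_cases i
    · rfl
    · exact absurd (mem_inf.mp hi).1 hfM1
    · exact absurd (mem_inf.mp hi).2 htM2
    · exact absurd hi htf
  have cls : ∀ i j, rp i * (rp j)⁻¹ ∈ L → i = j := by
    intro i j hij
    have a : ∀ k, (rp k ∈ M2 ↔ k = 0 ∨ k = 1) := by
      intro k; fin_cases k <;> simp [rp, hfM2, htM2, mul_mem_cancel_right]
    have b : ∀ k, (rp k ∈ M1 ↔ k = 0 ∨ (k = 2 ∧ t ∈ M1) ∨ (k = 3 ∧ t ∉ M1)) := by
      intro k; fin_cases k <;> simp [rp, hfM1, mul_mem_iff_of_index_two hM1i]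
    obtain ⟨h1, h2⟩ := mem_inf.mp hij
    rw [mul_mem_iff_of_index_two hM1i, inv_mem_iff, b, b] at h1
    rw [mul_mem_iff_of_index_two hM2i, inv_mem_iff, a, a] at h2
    revert h1 h2
    by_cases ht : t ∈ M1 <;> fin_cases i <;> fin_cases j <;> simp [ht]
  have hg : Function.Bijective g := by
    haveI := Fintype.ofFinite F.D
    haveI := Fintype.ofFinite ↥(centralizer ({z} : Set G))
    refine (Fintype.bijective_iff_injective_and_card g).mpr ⟨?_, ?_⟩
    · rintro ⟨a, i⟩ ⟨b, j⟩ e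
      have e' : a.1 * rp i = b.1 * rp j := congrArg Subtype.val e
      obtain rfl : i = j := cls i j (by
        have : a.1⁻¹ * b.1 ∈ L := hDL (mul_mem (inv_mem a.2) b.2)
        rwa [show a.1⁻¹ * b.1 = rp i * (rp j)⁻¹ by
          calc a.1⁻¹ * b.1 = a.1⁻¹ * (b.1 * rp j) * (rp j)⁻¹ := by group
            _ = _ := by rw [← e']; group] at this)
      rw [show a = b from Subtype.ext (mul_right_cancel e')]
    · rw [← Nat.card_eq_fintype_card, ← Nat.card_eq_fintype_card, Nat.card_prod, F.card_D h, F.card_H h]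
      simp
  obtain ⟨⟨a, i⟩, e⟩ := hg.2 ⟨x, mem_centralizer_singleton_iff.mpr hx⟩
  have e' : a.1 * rp i = x := congrArg Subtype.val e
  obtain rfl := hin i (by rwa [← e', mul_mem_cancel_left (hDL a.2)] at hxL)
  rw [← e', show rp 0 = 1 from rfl, mul_one]
  exact a.2

end Frame

end Cfsg.Agent.H55.Quat
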